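import Mathlib

section


/-!
# Two blocks of a transitive 2-group (project OMEGA, job 168)

`T` a 2-group acting on `Ω` through a relation `R t π`, preserving `Ω₀` and transitive on `Ω₀`, `|Ω₀| ≥ 2`:
there is `C ⊂ Ω₀`, `∅ ≠ C ≠ Ω₀`, such that `T` permutes `{C, Ω₀ \ C}` (`exists_blocks`).
-/

set_option autoImplicit false

namespace Cfsg.Agent.Omega.Half

open Subgroup

variable {G : Type*} [Group G]

/-- A proper subgroup of a 2-group lies in a subgroup of index 2. -/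
theorem exists_index_two [Finite G] {T A : Subgroup G} (hT : IsPGroup 2 T) (hAT : A ≤ T) (hne : ¬ T ≤ A) :
    ∃ K : Subgroup G, A ≤ K ∧ K ≤ T ∧ K.relIndex T = 2 := by
  have := Fact.mk Nat.prime_two
  obtain ⟨n, hn⟩ := IsPGroup.iff_card.1 hT
  have hH2 : IsPGroup 2 (A.subgroupOf T) := hT.to_subgroup _
  obtain ⟨m, hm⟩ := IsPGroup.iff_card.1 hH2
  have hlt : Nat.card (A.subgroupOf T) < Nat.card T := by
    refine lt_of_le_of_ne (Subgroup.card_le_card_group _) fun h => hne ?_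
    have h1 : A.subgroupOf T = ⊤ := Subgroup.eq_top_of_card_eq _ h
    exact Subgroup.subgroupOf_eq_top.1 h1
  have hmn : m < n := by
    rw [hm, hn] at hlt
    exact (Nat.pow_lt_pow_iff_right (by norm_num)).1 hlt
  obtain ⟨K, hK, hHK⟩ := Sylow.exists_subgroup_card_pow_prime_le (G := T) 2 (n := m) (m := n - 1)
    (by rw [hn]; exact pow_dvd_pow 2 (by omega)) (A.subgroupOf T) hm (by omega)
  have hidx : K.index = 2 := by
    have h1 := K.card_mul_index
    rw [hK, hn] at h1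
    have h2 : 2 ^ n = 2 ^ (n - 1) * 2 := by
      rw [← pow_succ]
      congr 1
      omega
    rw [h2] at h1
    exact Nat.eq_of_mul_eq_mul_left (by positivity) h1
  refine ⟨K.map T.subtype, ?_, ?_, ?_⟩
  · intro h hh
    exact ⟨⟨h, hAT hh⟩, hHK (by rw [Subgroup.mem_subgroupOf]; exact hh), rfl⟩
  · rintro _ ⟨k, _, rfl⟩
    exact k.2
  · rw [relIndex, ← hidx]
    congr 1
    exact Subgroup.comap_map_eq_self_of_injective T.subtype_injective K

/-- Two elements outside a subgroup of index 2. -/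
theorem mul_mem_of_index_two {T K : Subgroup G} (hK : K.relIndex T = 2) {a b : G} (ha : a ∈ T) (hb : b ∈ T) :
    a * b ∈ K ↔ (a ∈ K ↔ b ∈ K) := by
  have h := Subgroup.mul_mem_iff_of_index_two (H := K.subgroupOf T) hK (a := ⟨a, ha⟩) (b := ⟨b, hb⟩)
  simpa [mem_subgroupOf] using h

theorem exists_blocks [Finite G] {T : Subgroup G} (hT : IsPGroup 2 T) {Ω : Type*} {R : G → Equiv.Perm Ω → Prop}
    {Ω₀ : Set Ω} (hex : ∀ t ∈ T, ∃ π, R t π) (hone : R 1 1)
    (hmul : ∀ s ∈ T, ∀ t ∈ T, ∀ π ρ, R s π → R t ρ → R (s * t) (π * ρ))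
    (hinv : ∀ t ∈ T, ∀ π, R t π → R t⁻¹ π⁻¹)
    (huniq : ∀ t ∈ T, ∀ π ρ, R t π → R t ρ → π = ρ)
    (hpres : ∀ t ∈ T, ∀ π, R t π → ∀ p ∈ Ω₀, π p ∈ Ω₀)
    (htr : ∀ p ∈ Ω₀, ∀ q ∈ Ω₀, ∃ t ∈ T, ∃ π, R t π ∧ π p = q)
    {p₀ p₁ : Ω} (hp₀ : p₀ ∈ Ω₀) (hp₁ : p₁ ∈ Ω₀) (hne : p₀ ≠ p₁) :
    ∃ C ⊆ Ω₀, p₀ ∈ C ∧ (Ω₀ \ C).Nonempty ∧ ∀ t ∈ T, ∀ π, R t π → π '' C = C ∨ π '' C = Ω₀ \ C := by
  -- the stabiliser of `p₀`
  let A : Subgroup G :=
    { carrier := {t | t ∈ T ∧ ∃ π, R t π ∧ π p₀ = p₀}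
      mul_mem' := by
        rintro s t ⟨hs, π, h1, h2⟩ ⟨ht, ρ, h3, h4⟩
        exact ⟨mul_mem hs ht, π * ρ, hmul s hs t ht π ρ h1 h3, by rw [Equiv.Perm.mul_apply, h4, h2]⟩
      one_mem' := ⟨one_mem T, 1, hone, rfl⟩
      inv_mem' := by
        rintro t ⟨ht, π, h1, h2⟩
        refine ⟨inv_mem ht, π⁻¹, hinv t ht π h1, ?_⟩
        rw [Equiv.Perm.inv_eq_iff_eq, h2] }
  have hA : ∀ t, t ∈ A ↔ t ∈ T ∧ ∃ π, R t π ∧ π p₀ = p₀ := fun t => Iff.rfl
  have hAT : A ≤ T := fun t ht => ht.1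
  have hTA : ¬ T ≤ A := by
    intro h
    obtain ⟨t, ht, π, h1, h2⟩ := htr p₀ hp₀ p₁ hp₁
    obtain ⟨-, ρ, h3, h4⟩ := (hA t).1 (h ht)
    rw [huniq t ht π ρ h1 h3, h4] at h2
    exact hne h2
  obtain ⟨K, hAK, hKT, hK⟩ := exists_index_two hT hAT hTA
  let C : Set Ω := {q | ∃ s ∈ K, ∃ π, R s π ∧ π p₀ = q}
  have hC : ∀ q, q ∈ C ↔ ∃ s ∈ K, ∃ π, R s π ∧ π p₀ = q := fun q => Iff.rfl
  -- `π_t p₀ ∈ C` iff `t ∈ K`
  have key : ∀ t ∈ T, ∀ π, R t π → (π p₀ ∈ C ↔ t ∈ K) := by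
    intro t ht π hπ
    constructor
    · rintro ⟨s, hs, ρ, hρ, h1⟩
      have h2 : s⁻¹ * t ∈ A := by
        refine ⟨mul_mem (inv_mem (hKT hs)) ht, ρ⁻¹ * π, hmul _ (inv_mem (hKT hs)) t ht _ _ (hinv s (hKT hs) ρ hρ) hπ,
          ?_⟩
        rw [Equiv.Perm.mul_apply, Equiv.Perm.inv_eq_iff_eq, h1]
      have h3 := mul_mem hs (hAK h2)
      rwa [mul_inv_cancel_left] at h3
    · intro h
      exact ⟨t, h, π, hπ, rfl⟩
  refine ⟨C, ?_, ⟨1, one_mem K, 1, hone, rfl⟩, ?_, ?_⟩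
  · rintro q ⟨s, hs, π, hπ, rfl⟩
    exact hpres s (hKT hs) π hπ p₀ hp₀
  · -- some `t ∉ K`
    have : ∃ t ∈ T, t ∉ K := by
      by_contra h
      push Not at h
      have : K.relIndex T = 1 := relIndex_eq_one.2 h
      omega
    obtain ⟨t, ht, htK⟩ := this
    obtain ⟨π, hπ⟩ := hex t ht
    exact ⟨π p₀, hpres t ht π hπ p₀ hp₀, fun h => htK ((key t ht π hπ).1 h)⟩
  · intro t ht π hπ
    have himg : ∀ q ∈ Ω₀, q ∈ π '' C ↔ (t ∈ K ↔ q ∈ C) := by
      intro q hq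
      obtain ⟨s, hs, ρ, hρ, rfl⟩ := htr p₀ hp₀ q hq
      rw [key s hs ρ hρ]
      have h1 : ρ p₀ ∈ π '' C ↔ (π⁻¹ * ρ) p₀ ∈ C := by
        constructor
        · rintro ⟨x, hx, h2⟩
          have : (π⁻¹ * ρ) p₀ = x := by
            rw [Equiv.Perm.mul_apply, Equiv.Perm.inv_eq_iff_eq, h2]
          rwa [this]
        · intro h
          exact ⟨_, h, π.apply_symm_apply _⟩
      rw [h1, key (t⁻¹ * s) (mul_mem (inv_mem ht) hs) _ (hmul _ (inv_mem ht) s hs _ _ (hinv t ht π hπ) hρ),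
        mul_mem_of_index_two hK (inv_mem ht) hs, inv_mem_iff]
    have hsub : π '' C ⊆ Ω₀ := by
      rintro _ ⟨x, ⟨s, hs, ρ, hρ, rfl⟩, rfl⟩
      exact hpres t ht π hπ _ (hpres s (hKT hs) ρ hρ p₀ hp₀)
    have hCsub : C ⊆ Ω₀ := by
      rintro q ⟨s, hs, ρ, hρ, rfl⟩
      exact hpres s (hKT hs) ρ hρ p₀ hp₀
    by_cases htK : t ∈ K
    · left
      ext q
      constructor
      · intro h
        exact ((himg q (hsub h)).1 h).1 htK
      · intro h
        exact (himg q (hCsub h)).2 (iff_of_true htK h)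
    · right
      ext q
      constructor
      · intro h
        exact ⟨hsub h, fun h1 => htK (((himg q (hsub h)).1 h).2 h1)⟩
      · rintro ⟨h1, h2⟩
        exact (himg q h1).2 (iff_of_false htK h2)

end Cfsg.Agent.Omega.Half

end

section


/-!
# THEOREM C without induction (bb OMEGA #17979 (A6), helper74; #19448): the levels

A 2-group `T` acts transitively on the finite set `ι`, `j, j' ≠ o`.

* `levels` : there is `Γ ⊆ ι`, not empty, such that `s j, s j' ∉ Γ` whenever `s o ∈ Γ`, and the set of all these `s j`,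
  `s j'` has at least `|ι| / 2` elements.
-/

set_option autoImplicit false

namespace Cfsg.Agent.Omega.IId.ThmCD

open Subgroup
open Cfsg.Agent.Omega.Half (exists_index_two mul_mem_of_index_two)

variable {T : Type*} [Group T]

/-- Half of a group: one `H`-coset in each `K`-coset. -/
theorem exists_half {H K : Subgroup T} (h2 : H.relIndex K = 2) (hHK : H ≤ K) :
    ∃ X : Set T, (∀ s ∈ X, ∀ h ∈ H, s * h ∈ X) ∧ ∀ s, ∀ k ∈ K, k ∉ H → (s * k ∈ X ↔ s ∉ X) := by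
  classical
  let ρ : T → T := fun s => (Quotient.out (s : T ⧸ K))⁻¹ * s
  have hρK : ∀ s, ρ s ∈ K := fun s => by
    have h1 : ((Quotient.out (s : T ⧸ K) : T) : T ⧸ K) = (s : T ⧸ K) := Quotient.out_eq' _
    exact QuotientGroup.eq.1 h1
  have hρ : ∀ s, ∀ k ∈ K, ρ (s * k) = ρ s * k := fun s k hk => by
    have h1 : ((s * k : T) : T ⧸ K) = (s : T ⧸ K) := QuotientGroup.mk_mul_of_mem s hk
    change (Quotient.out ((s * k : T) : T ⧸ K))⁻¹ * (s * k) = _
    rw [h1, ← mul_assoc]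
  refine ⟨{s | ρ s ∈ H}, fun s hs h hh => ?_, fun s k hk hkH => ?_⟩
  · change ρ (s * h) ∈ H
    rw [hρ s h (hHK hh)]
    exact mul_mem hs hh
  · change ρ (s * k) ∈ H ↔ ¬ ρ s ∈ H
    rw [hρ s k hk, mul_mem_of_index_two h2 (hρK s) hk]
    tauto

/-- The number of elements of a half. -/
theorem half_card [Finite T] {X Y : Set T} {k : T} (hXY : X ⊆ Y) (h1 : ∀ s ∈ Y, s * k ∈ Y)
    (h2 : ∀ s ∈ Y, (s * k ∈ X ↔ s ∉ X)) : Y.ncard = 2 * X.ncard := by
  have hf1 : (Y \ X).ncard ≤ X.ncard := by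
    refine Set.ncard_le_ncard_of_injOn (fun s => s * k) ?_ (mul_left_injective k).injOn (Set.toFinite _)
    rintro s ⟨hs, hsX⟩
    exact (h2 s hs).2 hsX
  have hf2 : X.ncard ≤ (Y \ X).ncard := by
    refine Set.ncard_le_ncard_of_injOn (fun s => s * k) ?_ (mul_left_injective k).injOn (Set.toFinite _)
    intro s hs
    exact ⟨h1 s (hXY hs), fun h => (h2 s (hXY hs)).1 h hs⟩
  have h3 := Set.ncard_sdiff_add_ncard_of_subset hXY (Set.toFinite _)
  omega

theorem card_mul_relIndex_of_le {H K : Subgroup T} (h : H ≤ K) : Nat.card H * H.relIndex K = Nat.card K := by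
  have h1 := relIndex_mul_relIndex ⊥ H K bot_le h
  rwa [relIndex_bot_left, relIndex_bot_left] at h1

/-- one element -/
theorem one_level [Finite T] (hT : IsPGroup 2 T) {H₀ : Subgroup T} {g : T} (hg : g ∉ H₀) :
    ∀ (n : ℕ) (K : Subgroup T), Nat.card K ≤ n → H₀ ≤ K → g ∈ K →
      ∃ H L : Subgroup T, H₀ ≤ H ∧ H ≤ L ∧ L ≤ K ∧ H.relIndex L = 2 ∧ g ∈ L ∧ g ∉ H := by
  intro n
  induction n with
  | zero => intro K hK; have := Nat.card_pos (α := K); omega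
  | succ n ih =>
    intro K hK h0 hgK
    obtain ⟨M, hM1, hM2, hM3⟩ := exists_index_two (hT.to_subgroup K) h0 (fun h => hg (h hgK))
    by_cases hgM : g ∈ M
    · have hlt : Nat.card M < Nat.card K := by
        have h1 := card_mul_relIndex_of_le hM2
        rw [hM3] at h1
        have := Nat.card_pos (α := M)
        omega
      obtain ⟨H, L, a1, a2, a3, a4, a5, a6⟩ := ih M (by omega) hM1 hgM
      exact ⟨H, L, a1, a2, a3.trans hM2, a4, a5, a6⟩
    · exact ⟨M, K, hM1, hM2, le_rfl, hM3, hgK, hgM⟩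

/-- two elements -/
theorem two_levels [Finite T] (hT : IsPGroup 2 T) {H₀ : Subgroup T} {g g' : T} (hg : g ∉ H₀) (hg' : g' ∉ H₀) :
    ∀ (n : ℕ) (K : Subgroup T), Nat.card K ≤ n → H₀ ≤ K → g ∈ K → g' ∈ K →
      (∃ H L : Subgroup T, H₀ ≤ H ∧ H ≤ L ∧ H.relIndex L = 2 ∧ g ∈ L ∧ g ∉ H ∧ g' ∈ L ∧ g' ∉ H) ∨
      (∃ H L H' L' : Subgroup T, H₀ ≤ H ∧ H ≤ L ∧ L ≤ H' ∧ H' ≤ L' ∧ H.relIndex L = 2 ∧ H'.relIndex L' = 2 ∧
        g ∈ L ∧ g ∉ H ∧ g' ∈ L' ∧ g' ∉ H') ∨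
      (∃ H L H' L' : Subgroup T, H₀ ≤ H ∧ H ≤ L ∧ L ≤ H' ∧ H' ≤ L' ∧ H.relIndex L = 2 ∧ H'.relIndex L' = 2 ∧
        g' ∈ L ∧ g' ∉ H ∧ g ∈ L' ∧ g ∉ H') := by
  intro n
  induction n with
  | zero => intro K hK; have := Nat.card_pos (α := K); omega
  | succ n ih =>
    intro K hK h0 hgK hgK'
    obtain ⟨M, hM1, hM2, hM3⟩ := exists_index_two (hT.to_subgroup K) h0 (fun h => hg (h hgK))
    have hlt : Nat.card M < Nat.card K := by
      have h1 := card_mul_relIndex_of_le hM2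
      rw [hM3] at h1
      have := Nat.card_pos (α := M)
      omega
    by_cases hgM : g ∈ M
    · by_cases hgM' : g' ∈ M
      · exact ih M (by omega) hM1 hgM hgM'
      · obtain ⟨H, L, a1, a2, a3, a4, a5, a6⟩ := one_level hT hg _ M le_rfl hM1 hgM
        exact Or.inr (Or.inl ⟨H, L, M, K, a1, a2, a3, hM2, a4, hM3, a5, a6, hgK', hgM'⟩)
    · by_cases hgM' : g' ∈ M
      · obtain ⟨H, L, a1, a2, a3, a4, a5, a6⟩ := one_level hT hg' _ M le_rfl hM1 hgM'
        exact Or.inr (Or.inr ⟨H, L, M, K, a1, a2, a3, hM2, a4, hM3, a5, a6, hgK, hgM⟩)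
      · exact Or.inl ⟨M, K, hM1, hM2, hM3, hgK, hgM, hgK', hgM'⟩

/-- the set `X` -/
theorem exists_X [Finite T] (hT : IsPGroup 2 T) {H₀ : Subgroup T} {g g' : T} (hg : g ∉ H₀) (hg' : g' ∉ H₀) :
    ∃ X : Set T, X.Nonempty ∧ (∀ s ∈ X, ∀ h ∈ H₀, s * h ∈ X) ∧ (∀ s ∈ X, s * g ∉ X ∧ s * g' ∉ X) ∧
      Nat.card T ≤ 2 * ((fun s => s * g) '' X ∪ (fun s => s * g') '' X).ncard := by
  have hpos : 0 < Nat.card T := Nat.card_pos
  have huniv : (Set.univ : Set T).ncard = Nat.card T := Set.ncard_univ T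
  have himg : ∀ (X : Set T) (g : T), ((fun s => s * g) '' X).ncard = X.ncard := fun X g =>
    Set.ncard_image_of_injective X (mul_left_injective g)
  -- the nested case
  have key : ∀ g g' : T, (∃ H L H' L' : Subgroup T, H₀ ≤ H ∧ H ≤ L ∧ L ≤ H' ∧ H' ≤ L' ∧ H.relIndex L = 2 ∧
      H'.relIndex L' = 2 ∧ g ∈ L ∧ g ∉ H ∧ g' ∈ L' ∧ g' ∉ H') →
      ∃ X : Set T, X.Nonempty ∧ (∀ s ∈ X, ∀ h ∈ H₀, s * h ∈ X) ∧ (∀ s ∈ X, s * g ∉ X ∧ s * g' ∉ X) ∧
      Nat.card T ≤ 2 * ((fun s => s * g) '' X ∪ (fun s => s * g') '' X).ncard := by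
    rintro g g' ⟨H, L, H', L', a1, a2, a3, a4, a5, a6, a7, a8, a9, a10⟩
    obtain ⟨X, hX1, hX2⟩ := exists_half a5 a2
    obtain ⟨X', hX1', hX2'⟩ := exists_half a6 a4
    have hc' : Nat.card T = 2 * X'.ncard := by
      rw [← huniv]
      exact half_card (k := g') (Set.subset_univ _) (fun _ _ => Set.mem_univ _) (fun s _ => hX2' s g' a9 a10)
    have hc : X'.ncard = 2 * (X ∩ X').ncard := by
      refine half_card (k := g) Set.inter_subset_right (fun s hs => hX1' s hs g (a3 a7)) fun s hs => ?_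
      have h1 := hX2 s g a7 a8
      have h2 := hX1' s hs g (a3 a7)
      simp only [Set.mem_inter_iff]
      tauto
    refine ⟨X ∩ X', ?_, ?_, ?_, ?_⟩
    · rw [← Set.ncard_pos (Set.toFinite _)]; omega
    · exact fun s hs h hh => ⟨hX1 s hs.1 h (a1 hh), hX1' s hs.2 h ((a1.trans (a2.trans a3)) hh)⟩
    · exact fun s hs => ⟨fun h => (hX2 s g a7 a8).1 h.1 hs.1, fun h => (hX2' s g' a9 a10).1 h.2 hs.2⟩
    · rw [Set.ncard_union_eq ?_ (Set.toFinite _) (Set.toFinite _), himg, himg]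
      · omega
      · rw [Set.disjoint_left]
        rintro _ ⟨s, hs, rfl⟩ ⟨t, ht, e⟩
        have h1 : s * g ∈ X' := hX1' s hs.2 g (a3 a7)
        have h2 : t * g' ∉ X' := fun h => (hX2' t g' a9 a10).1 h ht.2
        have e' : t * g' = s * g := e
        exact h2 (e' ▸ h1)
  rcases two_levels hT hg hg' _ ⊤ le_rfl le_top (mem_top _) (mem_top _) with h | h | h
  · obtain ⟨H, L, a1, a2, a3, a4, a5, a6, a7⟩ := h
    obtain ⟨X, hX1, hX2⟩ := exists_half a3 a2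
    have hc : Nat.card T = 2 * X.ncard := by
      rw [← huniv]
      exact half_card (k := g) (Set.subset_univ _) (fun _ _ => Set.mem_univ _) (fun s _ => hX2 s g a4 a5)
    refine ⟨X, ?_, fun s hs h hh => hX1 s hs h (a1 hh), fun s hs => ⟨fun h => (hX2 s g a4 a5).1 h hs,
      fun h => (hX2 s g' a6 a7).1 h hs⟩, ?_⟩
    · rw [← Set.ncard_pos (Set.toFinite _)]; omega
    · have h1 : ((fun s => s * g) '' X).ncard ≤ ((fun s => s * g) '' X ∪ (fun s => s * g') '' X).ncard :=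
        Set.ncard_le_ncard Set.subset_union_left (Set.toFinite _)
      rw [himg] at h1
      omega
  · exact key g g' h
  · obtain ⟨X, b1, b2, b3, b4⟩ := key g' g h
    refine ⟨X, b1, b2, fun s hs => (b3 s hs).symm, ?_⟩
    rwa [Set.union_comm] at b4

/-- (A6). -/
theorem levels [Finite T] (hT : IsPGroup 2 T) {ι : Type*} [Finite ι] [MulAction T ι]
    (htr : ∀ a b : ι, ∃ s : T, s • a = b) {o j j' : ι} (hj : j ≠ o) (hj' : j' ≠ o) :
    ∃ Γ : Set ι, (∃ s : T, s • o ∈ Γ) ∧ (∀ s : T, s • o ∈ Γ → s • j ∉ Γ ∧ s • j' ∉ Γ) ∧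
      Nat.card ι ≤ 2 * {i : ι | ∃ s : T, s • o ∈ Γ ∧ (i = s • j ∨ i = s • j')}.ncard := by
  obtain ⟨g, hg⟩ := htr o j
  obtain ⟨g', hg'⟩ := htr o j'
  have hgo : g ∉ MulAction.stabilizer T o := fun h => hj (by rw [← hg]; exact h)
  have hgo' : g' ∉ MulAction.stabilizer T o := fun h => hj' (by rw [← hg']; exact h)
  obtain ⟨X, h1, h2, h3, h4⟩ := exists_X hT hgo hgo'
  set Γ : Set ι := (fun s : T => s • o) '' X with hΓ
  have hmem : ∀ s : T, s • o ∈ Γ ↔ s ∈ X := by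
    intro s
    constructor
    · rintro ⟨t, ht, e⟩
      have h5 : t⁻¹ * s ∈ MulAction.stabilizer T o := by
        rw [MulAction.mem_stabilizer_iff, mul_smul]
        exact inv_smul_eq_iff.2 e.symm
      have := h2 t ht _ h5
      rwa [mul_inv_cancel_left] at this
    · exact fun hs => ⟨s, hs, rfl⟩
  refine ⟨Γ, ?_, ?_, ?_⟩
  · obtain ⟨s, hs⟩ := h1
    exact ⟨s, (hmem s).2 hs⟩
  · intro s hs
    rw [hmem] at hs
    rw [← hg, ← hg', ← mul_smul, ← mul_smul, hmem, hmem]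
    exact h3 s hs
  · set J : Set ι := {i : ι | ∃ s : T, s • o ∈ Γ ∧ (i = s • j ∨ i = s • j')} with hJ
    set N : ℕ := Nat.card (MulAction.stabilizer T o) with hN
    have hNpos : 0 < N := Nat.card_pos
    -- `|T| = |ι| N`
    have hT1 : Nat.card T = Nat.card ι * N := by
      have h5 : (MulAction.stabilizer T o).index = Nat.card ι := by
        rw [MulAction.index_stabilizer]
        have h6 : MulAction.orbit T o = Set.univ := by
          rw [Set.eq_univ_iff_forall]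
          intro b
          obtain ⟨s, hs⟩ := htr o b
          exact ⟨s, hs⟩
        rw [h6, Set.ncard_univ]
      have h6 := (MulAction.stabilizer T o).card_mul_index
      rw [h5] at h6
      rw [← h6, mul_comm]
    -- preimages
    have hfib : ∀ F : Set ι, ((fun s : T => s • o) ⁻¹' F).ncard ≤ F.ncard * N := by
      intro F
      classical
      have hfin : F.Finite := Set.toFinite F
      induction F, hfin using Set.Finite.induction_on with
      | empty => simp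
      | @insert a F ha hF ih =>
        rw [Set.ncard_insert_of_notMem ha hF, add_mul, one_mul, ← Set.union_singleton, Set.preimage_union]
        refine (Set.ncard_union_le _ _).trans (Nat.add_le_add ih ?_)
        obtain ⟨t, rfl⟩ := htr o a
        have h5 : (fun s : T => s • o) ⁻¹' {t • o} ⊆ (fun s => t * s) '' (MulAction.stabilizer T o : Set T) := by
          intro s hs
          refine ⟨t⁻¹ * s, ?_, mul_inv_cancel_left t s⟩
          rw [SetLike.mem_coe, MulAction.mem_stabilizer_iff, mul_smul]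
          exact inv_smul_eq_iff.2 hs
        refine (Set.ncard_le_ncard h5 (Set.toFinite _)).trans ?_
        refine (Set.ncard_image_le (Set.toFinite _)).trans ?_
        rw [hN, ← Nat.card_coe_set_eq]
        exact le_rfl
    have h5 : ((fun s => s * g) '' X ∪ (fun s => s * g') '' X) ⊆ (fun s : T => s • o) ⁻¹' J := by
      rintro _ (⟨s, hs, rfl⟩ | ⟨s, hs, rfl⟩)
      · exact ⟨s, (hmem s).2 hs, Or.inl (by rw [← hg, ← mul_smul])⟩
      · exact ⟨s, (hmem s).2 hs, Or.inr (by rw [← hg', ← mul_smul])⟩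
    have h6 := (Set.ncard_le_ncard h5 (Set.toFinite _)).trans (hfib J)
    have h7 : Nat.card ι * N ≤ 2 * J.ncard * N := by
      rw [← hT1]
      calc Nat.card T ≤ 2 * ((fun s => s * g) '' X ∪ (fun s => s * g') '' X).ncard := h4
        _ ≤ 2 * (J.ncard * N) := by omega
        _ = 2 * J.ncard * N := by ring
    exact Nat.le_of_mul_le_mul_right h7 hNpos

end Cfsg.Agent.Omega.IId.ThmCD

end
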