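import Cfsg.Agent.Mrg.Omega.Assembly
import Cfsg.Agent.Mrg.Omega.Half.Blocks
import Cfsg.Agent.Mrg.Omega.VP
import Cfsg.Agent.ZN.ChoiceSit
import Cfsg.Agent.ZN.CaseTwo
import Mathlib

section


/-!
# HALF LEMMA (project OMEGA, helper7, bb OMEGA 11954)

`S` a Sylow 2-subgroup of `G`, `So ≤ S` of index 2, `z ≠ 1` an involution of `Z(So)`, `So ≤ L ≤ H ≤ C_G(z)`,
`C_H(O₂(H)) ≤ O₂(H)`, `O₂(H)` for a group `H` containing a Sylow 2-subgroup of `G` if possible
(`H` contains every 2-subgroup of `C_G(z)` over `So`); `V ≤ So` elementary abelian, normal in `L`,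
irreducible and nontrivial for `L`, centralised by `O₂(L)`, `|C_V(So)| ≥ |Ω₁ Z(S)|`.
Then `V ≤ Z(O₂(H))`.  No Thompson subgroup, no module theory.
-/

set_option autoImplicit false

namespace Cfsg.Agent.Omega.Half

open Subgroup Cfsg Cfsg.Agent.ZN Cfsg.Agent.MinSimple.VModule
open Cfsg.Agent.MinSimple.MinParabolic Cfsg.Agent.MinSimple.Basic

universe u

variable {G : Type u} [Group G]

/-- A 2-element `w` acting on a nontrivial 2-group `V` centralises an involution-like element. -/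
theorem exists_fixed [Finite G] {V T : Subgroup G} (hV : IsPGroup 2 V) (hV1 : V ≠ ⊥)
    (hT : IsPGroup 2 T) (hn : T ≤ normalizer (V : Set G)) :
    ∃ v ∈ V, v ≠ 1 ∧ ∀ t ∈ T, t * v * t⁻¹ = v := by
  haveI : Fact (Nat.Prime 2) := ⟨Nat.prime_two⟩
  let act : T →* MulAut V :=
    { toFun := fun t => (MulAut.conjNormal (H := V.subgroupOf (normalizer (V : Set G)))
          ⟨(t : G), hn t.2⟩) |>.trans (MulEquiv.refl _) |> fun e =>
          ((subgroupOfEquivOfLe (le_normalizer (H := V))).symm.trans e).trans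
            (subgroupOfEquivOfLe (le_normalizer (H := V)))
      map_one' := by
        ext v
        simp [subgroupOfEquivOfLe]
      map_mul' := by
        intro a b
        ext v
        simp [subgroupOfEquivOfLe, mul_assoc] }
  have hact : ∀ (t : T) (v : V), ((act t v : V) : G) = t * v * (t : G)⁻¹ := by
    intro t v
    simp [act, subgroupOfEquivOfLe]
  letI : MulAction T V :=
    { smul := fun t v => act t v
      one_smul := fun v => by
        change act 1 v = v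
        rw [map_one]; rfl
      mul_smul := fun a b v => by
        change act (a * b) v = act a (act b v)
        rw [map_mul]; rfl }
  have hsm : ∀ (t : T) (v : V), ((t • v : V) : G) = t * v * (t : G)⁻¹ := hact
  have h1 := hT.card_modEq_card_fixedPoints V
  have h2 : 2 ∣ Nat.card V := by
    obtain ⟨n, hn⟩ := IsPGroup.iff_card.mp hV
    rcases Nat.eq_zero_or_pos n with h0 | h0
    · subst h0
      rw [pow_zero] at hn
      exact absurd ((card_eq_one).mp hn) hV1
    · rw [hn]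
      exact dvd_pow_self 2 h0.ne'
  have h3 : 2 ∣ Nat.card (MulAction.fixedPoints T V) :=
    (Nat.modEq_zero_iff_dvd.mp ((h1.symm.trans (Nat.modEq_zero_iff_dvd.mpr h2))))
  have h4 : (1 : V) ∈ MulAction.fixedPoints T V := by
    intro t
    apply Subtype.ext
    rw [hsm]
    simp
  haveI : Nonempty (MulAction.fixedPoints T V) := ⟨⟨1, h4⟩⟩
  have h5 : 1 < Nat.card (MulAction.fixedPoints T V) :=
    lt_of_lt_of_le one_lt_two (Nat.le_of_dvd Nat.card_pos h3)
  obtain ⟨a, b, hab⟩ := (Finite.one_lt_card_iff_nontrivial.mp h5).exists_pair_ne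
  have key : ∃ c : MulAction.fixedPoints T V, (c : V) ≠ 1 := by
    by_contra hc
    push Not at hc
    exact hab (Subtype.ext ((hc a).trans (hc b).symm))
  obtain ⟨c, hc⟩ := key
  refine ⟨(c : V), (c : V).2, fun h => hc (Subtype.ext h), fun t ht => ?_⟩
  have := c.2 ⟨t, ht⟩
  have h6 : (((⟨t, ht⟩ : T) • (c : V) : V) : G) = ((c : V) : G) := congrArg (fun x : V => (x : G)) this
  rw [hsm] at h6
  exact h6

/-! ### The action of `w ∈ W - W₀` -/

section Core

variable {L V W0 : Subgroup G} {w : G}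

/-- `w` commutes with the action of `L` on `V`. -/
theorem equivariant (hLV : L ≤ normalizer (V : Set G))
    (hw : ∀ g ∈ L, w⁻¹ * (g * w * g⁻¹) ∈ W0) (hW0 : W0 ≤ centralizer (V : Set G))
    {g v : G} (hg : g ∈ L) (hv : v ∈ V) :
    g * (w * v * w⁻¹) * g⁻¹ = w * (g * v * g⁻¹) * w⁻¹ := by
  have h1 : g * v * g⁻¹ ∈ V := (mem_normalizer_iff.mp (hLV hg) v).mp hv
  have h2 := mem_centralizer_iff.mp (hW0 (hw g hg)) _ h1
  set k := w⁻¹ * (g * w * g⁻¹) with hk
  have h3 : g * w * g⁻¹ = w * k := by rw [hk]; group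
  calc g * (w * v * w⁻¹) * g⁻¹ = (g * w * g⁻¹) * (g * v * g⁻¹) * (g * w * g⁻¹)⁻¹ := by group
    _ = w * (k * (g * v * g⁻¹)) * k⁻¹ * w⁻¹ := by rw [h3]; group
    _ = w * ((g * v * g⁻¹) * k) * k⁻¹ * w⁻¹ := by rw [h2]
    _ = w * (g * v * g⁻¹) * w⁻¹ := by group

variable (hLV : L ≤ normalizer (V : Set G)) (hVL : V ≤ L)
  (hw : ∀ g ∈ L, w⁻¹ * (g * w * g⁻¹) ∈ W0) (hW0 : W0 ≤ centralizer (V : Set G))
  (hcomm : ∀ a ∈ V, ∀ b ∈ V, a * b = b * a)

include hLV hVL hw hW0 hcomm

/-- `V` and `wVw⁻¹` commute. -/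
theorem comm_conj {u v : G} (hu : u ∈ V) (hv : v ∈ V) :
    u * (w * v * w⁻¹) = (w * v * w⁻¹) * u := by
  have h1 := equivariant hLV hw hW0 (hVL hu) hv
  have h2 : u * v * u⁻¹ = v := by rw [hcomm u hu v hv]; group
  rw [h2] at h1
  calc u * (w * v * w⁻¹) = u * (w * v * w⁻¹) * u⁻¹ * u := by group
    _ = (w * v * w⁻¹) * u := by rw [h1]

omit hVL hcomm in
theorem inf_invariant : L ≤ normalizer ((V ⊓ V.map (MulAut.conj w).toMonoidHom : Subgroup G) : Set G) := by
  have key : ∀ g ∈ L, ∀ x ∈ V ⊓ V.map (MulAut.conj w).toMonoidHom,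
      g * x * g⁻¹ ∈ V ⊓ V.map (MulAut.conj w).toMonoidHom := by
    rintro g hg x ⟨hx1, hx2⟩
    obtain ⟨v, hv, rfl⟩ := hx2
    refine ⟨(mem_normalizer_iff.mp (hLV hg) _).mp hx1, ?_⟩
    refine ⟨g * v * g⁻¹, (mem_normalizer_iff.mp (hLV hg) _).mp hv, ?_⟩
    have := equivariant hLV hw hW0 hg hv
    simpa using this.symm
  intro g hg
  rw [mem_normalizer_iff]
  intro x
  refine ⟨key g hg x, fun h => ?_⟩
  have := key g⁻¹ (inv_mem hg) _ h
  simpa [mul_assoc] using this

omit hVL hcomm in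
theorem cent_invariant : L ≤ normalizer ((V ⊓ centralizer ({w} : Set G) : Subgroup G) : Set G) := by
  have key : ∀ g ∈ L, ∀ x ∈ V ⊓ centralizer ({w} : Set G),
      g * x * g⁻¹ ∈ V ⊓ centralizer ({w} : Set G) := by
    rintro g hg x ⟨hx1, hx2⟩
    refine ⟨(mem_normalizer_iff.mp (hLV hg) _).mp hx1, ?_⟩
    have h1 := equivariant hLV hw hW0 hg hx1
    have hx3 : w * x = x * w := mem_centralizer_iff.mp hx2 w rfl
    refine mem_centralizer_iff.mpr ?_
    intro y hy
    rw [Set.mem_singleton_iff.mp hy]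
    have h2 : w * x * w⁻¹ = x := by rw [hx3]; group
    rw [h2] at h1
    calc w * (g * x * g⁻¹) = w * (g * x * g⁻¹) * w⁻¹ * w := by group
      _ = g * x * g⁻¹ * w := by rw [← h1]
  intro g hg
  rw [mem_normalizer_iff]
  intro x
  refine ⟨key g hg x, fun h => ?_⟩
  have := key g⁻¹ (inv_mem hg) _ h
  simpa [mul_assoc] using this

end Core

/-! ### The theorem -/

theorem le_normalizer_inf {K A B : Subgroup G} (hA : K ≤ normalizer (A : Set G))
    (hB : K ≤ normalizer (B : Set G)) : K ≤ normalizer ((A ⊓ B : Subgroup G) : Set G) := by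
  intro g hg
  rw [mem_normalizer_iff]
  intro x
  exact and_congr (mem_normalizer_iff.mp (hA hg) x) (mem_normalizer_iff.mp (hB hg) x)

theorem card_mul_relIndex {A B : Subgroup G} (h : A ≤ B) :
    Nat.card A * A.relIndex B = Nat.card B := by
  rw [relIndex, ← card_mul_index (A.subgroupOf B), Nat.card_congr (subgroupOfEquivOfLe h).toEquiv]

/-- A 2-subgroup of `H` lies in a Sylow 2-subgroup of `H`. -/
theorem exists_sylow_le [Finite G] {So H : Subgroup G} (h2 : IsPGroup 2 So) (h : So ≤ H) :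
    ∃ T : Subgroup G, So ≤ T ∧ T ≤ H ∧ IsPGroup 2 T ∧ ¬ 2 ∣ T.relIndex H := by
  have : Fact (Nat.Prime 2) := ⟨Nat.prime_two⟩
  obtain ⟨T, hT⟩ := (h2.comap_of_injective H.subtype H.subtype_injective).exists_le_sylow
  refine ⟨(T : Subgroup H).map H.subtype, ?_, map_subtype_le _, T.isPGroup'.map _, ?_⟩
  · intro x hx
    exact ⟨⟨x, h hx⟩, hT hx, rfl⟩
  · have h3 := T.not_dvd_index
    have h4 : ((T : Subgroup H).map H.subtype).subgroupOf H = (T : Subgroup H) :=
      comap_map_eq_self_of_injective H.subtype_injective _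
    rw [relIndex, h4]
    exact h3

theorem card_le_sylow [Finite G] (S : Sylow 2 G) {T : Subgroup G} (hT : IsPGroup 2 T) :
    Nat.card T ≤ Nat.card (S : Subgroup G) := by
  have : Fact (Nat.Prime 2) := ⟨Nat.prime_two⟩
  obtain ⟨P, hP⟩ := hT.exists_le_sylow
  rw [S.card_eq_multiplicity, ← P.card_eq_multiplicity]
  exact card_le_of_le hP

theorem card_zc_of_card_eq [Finite G] (S : Sylow 2 G) {T : Subgroup G} (hT : IsPGroup 2 T)
    (h : Nat.card T = Nat.card (S : Subgroup G)) : Nat.card (zc T) = Nat.card (zc (S : Subgroup G)) := by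
  have : Fact (Nat.Prime 2) := ⟨Nat.prime_two⟩
  obtain ⟨P, hP⟩ := hT.exists_le_sylow
  have h1 : T = (P : Subgroup G) := by
    refine eq_of_le_of_card_ge hP ?_
    rw [h]
    exact card_le_sylow S P.isPGroup'
  obtain ⟨g, hg⟩ := MulAction.exists_smul_eq G S P
  have h2 : (P : Subgroup G) = (S : Subgroup G).map (MulAut.conj g).toMonoidHom := by
    rw [← hg]; rfl
  rw [h1, h2, zc_map _ (MulAut.conj g).injective, card_map_of_injective (MulAut.conj g).injective]

theorem half [Finite G] (S : Sylow 2 G) {So L H V : Subgroup G} {z : G}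
    (hSo : So ≤ (S : Subgroup G)) (hidx : Nat.card (S : Subgroup G) = 2 * Nat.card So)
    (hz1 : z ≠ 1) (hz2 : z ^ 2 = 1) (hz : z ∈ So) (hHz : ∀ x ∈ H, x * z = z * x)
    (hH : H ⊓ centralizer (o2 H : Set G) ≤ o2 H)
    (hSL : So ≤ L) (hLH : L ≤ H) (hSyl : ¬ 2 ∣ So.relIndex L)
    (hVS : V ≤ So) (hLV : L ≤ normalizer (V : Set G))
    (hcomm : ∀ a ∈ V, ∀ b ∈ V, a * b = b * a) (hsq : ∀ a ∈ V, a ^ 2 = 1)
    (hirr : ∀ X : Subgroup G, X ≤ V → L ≤ normalizer (X : Set G) → X = ⊥ ∨ X = V)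
    (hnt : V ⊓ centralizer (L : Set G) = ⊥) (hO : o2 L ≤ centralizer (V : Set G))
    (hcard : Nat.card (zc (S : Subgroup G)) ≤
      Nat.card (V ⊓ centralizer (So : Set G) : Subgroup G)) :
    V ≤ o2 H ∧ o2 H ≤ centralizer (V : Set G) := by
  have : Fact (Nat.Prime 2) := ⟨Nat.prime_two⟩
  have hSo2 : IsPGroup 2 So := S.isPGroup'.to_le hSo
  have hVH : V ≤ H := (hVS.trans hSL).trans hLH
  have hVL : V ≤ L := hVS.trans hSL
  have hV2 : IsPGroup 2 V := hSo2.to_le hVS
  -- it is enough that `O₂(H)` centralises `V`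
  suffices hW : o2 H ≤ centralizer (V : Set G) from
    ⟨fun v hv => hH ⟨hVH hv, mem_centralizer_iff.mpr fun x hx =>
      (mem_centralizer_iff.mp (hW hx) v hv).symm⟩, hW⟩
  have hLW : L ≤ normalizer (o2 H : Set G) := hLH.trans (le_normalizer_o2 H)
  have hWL : L ≤ normalizer ((o2 H ⊓ L : Subgroup G) : Set G) :=
    le_normalizer_inf hLW le_normalizer
  have hWL2 : o2 H ⊓ L ≤ o2 L :=
    le_o2 inf_le_right ((o2_isPGroup H).to_le inf_le_left) hWL
  have hWLSo : o2 H ⊓ L ≤ So := hWL2.trans (o2_le_of_sylow hSo2 hSyl)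
  by_cases hWS : o2 H ≤ So
  · exact fun x hx => hO (hWL2 ⟨hx, hSL (hWS hx)⟩)
  obtain ⟨w, hwW, hwS⟩ := SetLike.not_le_iff_exists.mp hWS
  obtain ⟨T, hSoT, hTH, hT2, hTS⟩ := exists_sylow_le hSo2 (hSL.trans hLH)
  have hWT : o2 H ≤ T := o2_le_of_sylow hT2 hTS
  have hTle : Nat.card T ≤ 2 * Nat.card So := hidx ▸ card_le_sylow S hT2
  have hrel : Nat.card So * So.relIndex T = Nat.card T := by
    have := card_mul_relIndex hSoT
    exact this
  have hne : So.relIndex T ≠ 1 := fun h => hwS ((relIndex_eq_one.mp h) (hWT hwW))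
  have hne0 : So.relIndex T ≠ 0 := fun h => by
    rw [h, mul_zero] at hrel
    exact Nat.card_pos.ne hrel
  have hrel2 : So.relIndex T = 2 := by
    have h1 : So.relIndex T ≤ 2 := by
      by_contra h
      push Not at h
      have h3 : 2 * Nat.card So < Nat.card So * So.relIndex T := by
        rw [mul_comm]
        exact Nat.mul_lt_mul_of_pos_left h Nat.card_pos
      omega
    omega
  have htwo : ∀ a ∈ T, ∀ b ∈ T, a ∉ So → b ∉ So → a⁻¹ * b ∈ So := by
    intro a ha b hb ha1 hb1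
    have h1 : (So.subgroupOf T).index = 2 := hrel2
    have h2 := mul_mem_iff_of_index_two h1 (a := (⟨a, ha⟩ : T)⁻¹) (b := ⟨b, hb⟩)
    rw [inv_mem_iff] at h2
    have h3 := h2.mpr (iff_of_false (fun h => ha1 (mem_subgroupOf.mp h))
      (fun h => hb1 (mem_subgroupOf.mp h)))
    exact mem_subgroupOf.mp h3
  have hW0c : o2 H ⊓ So ≤ centralizer (V : Set G) := fun x hx => hO (hWL2 ⟨hx.1, hSL hx.2⟩)
  have hw : ∀ g ∈ L, w⁻¹ * (g * w * g⁻¹) ∈ o2 H ⊓ So := by
    intro g hg
    have h1 : g * w * g⁻¹ ∈ o2 H := (mem_normalizer_iff.mp (hLW hg) w).mp hwW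
    have h2 : g * w * g⁻¹ ∉ So := by
      intro h
      have h3 := (mem_normalizer_iff.mp (hWL hg) w).mpr ⟨h1, hSL h⟩
      exact hwS (hWLSo h3)
    exact ⟨(o2 H).mul_mem ((o2 H).inv_mem hwW) h1, htwo _ (hWT hwW) _ (hWT h1) hwS h2⟩
  -- it is enough that `w` centralises `V`
  suffices hwV : ∀ v ∈ V, w * v = v * w by
    intro x hx
    by_cases hxS : x ∈ So
    · exact hW0c ⟨hx, hxS⟩
    · have h1 : w⁻¹ * x ∈ centralizer (V : Set G) :=
        hW0c ⟨(o2 H).mul_mem ((o2 H).inv_mem hwW) hx, htwo _ (hWT hwW) _ (hWT hx) hwS hxS⟩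
      have h2 : w ∈ centralizer (V : Set G) :=
        mem_centralizer_iff.mpr fun v hv => (hwV v hv).symm
      have := mul_mem h2 h1
      rwa [mul_inv_cancel_left] at this
  have hcomm' : ∀ u ∈ V, ∀ v ∈ V, u * (w * v * w⁻¹) = (w * v * w⁻¹) * u :=
    fun u hu v hv => comm_conj hLV hVL hw hW0c hcomm hu hv
  have hw2 : w * w ∈ So := by
    have h := htwo w⁻¹ (inv_mem (hWT hwW)) w (hWT hwW) (fun h => hwS (inv_mem_iff.mp h)) hwS
    rwa [inv_inv] at h
  have hwwc : ∀ v ∈ V, w * w * v = v * (w * w) := fun v hv =>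
    (mem_centralizer_iff.mp (hW0c ⟨mul_mem hwW hwW, hw2⟩) v hv).symm
  rcases hirr _ inf_le_left (inf_invariant hLV hw hW0c) with h0 | h0
  · -- `V ∩ V^w = 1`
    exfalso
    have hinj : ∀ a ∈ V, ∀ b ∈ V, a * (w * a * w⁻¹) = b * (w * b * w⁻¹) → a = b := by
      intro a ha b hb hab
      have h1 : b⁻¹ * a = w * (b * a⁻¹) * w⁻¹ := by
        calc b⁻¹ * a = b⁻¹ * (a * (w * a * w⁻¹)) * (w * a * w⁻¹)⁻¹ := by group
          _ = b⁻¹ * (b * (w * b * w⁻¹)) * (w * a * w⁻¹)⁻¹ := by rw [hab]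
          _ = w * (b * a⁻¹) * w⁻¹ := by group
      have h2 : b⁻¹ * a ∈ V ⊓ V.map (MulAut.conj w).toMonoidHom :=
        ⟨V.mul_mem (V.inv_mem hb) ha, b * a⁻¹, V.mul_mem hb (V.inv_mem ha), by simpa using h1.symm⟩
      rw [h0, mem_bot] at h2
      exact (inv_mul_eq_one.mp h2).symm
    have hmem : ∀ a ∈ V ⊓ centralizer (So : Set G), a * (w * a * w⁻¹) ∈ zc T := by
      rintro a ⟨ha, hac⟩
      have hac' : ∀ s ∈ So, s * a = a * s := fun s hs => mem_centralizer_iff.mp hac s hs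
      have hphi : a * (w * a * w⁻¹) ∈ T :=
        mul_mem (hSoT (hVS ha)) (mul_mem (mul_mem (hWT hwW) (hSoT (hVS ha))) (inv_mem (hWT hwW)))
      have hsqa : a * a = 1 := by rw [← pow_two]; exact hsq a ha
      have h2 : (a * (w * a * w⁻¹)) ^ 2 = 1 := by
        rw [pow_two]
        calc a * (w * a * w⁻¹) * (a * (w * a * w⁻¹)) = a * ((w * a * w⁻¹) * a) * (w * a * w⁻¹) := by group
          _ = a * (a * (w * a * w⁻¹)) * (w * a * w⁻¹) := by rw [hcomm' a ha a ha]
          _ = (a * a) * (w * (a * a) * w⁻¹) := by group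
          _ = 1 := by rw [hsqa]; group
      have hSocomm : ∀ s ∈ So, s * (a * (w * a * w⁻¹)) = (a * (w * a * w⁻¹)) * s := by
        intro s hs
        have h3 := equivariant hLV hw hW0c (hSL hs) ha
        have h4 : s * a * s⁻¹ = a := by rw [hac' s hs]; group
        rw [h4] at h3
        calc s * (a * (w * a * w⁻¹)) = (s * a) * (w * a * w⁻¹) := by group
          _ = (a * s) * (w * a * w⁻¹) := by rw [hac' s hs]
          _ = a * (s * (w * a * w⁻¹) * s⁻¹) * s := by group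
          _ = a * (w * a * w⁻¹) * s := by rw [h3]
      have hwcomm : w * (a * (w * a * w⁻¹)) = (a * (w * a * w⁻¹)) * w := by
        calc w * (a * (w * a * w⁻¹)) = (w * a * w⁻¹) * ((w * w) * a * (w * w)⁻¹) * w := by group
          _ = (w * a * w⁻¹) * a * w := by rw [hwwc a ha]; group
          _ = (a * (w * a * w⁻¹)) * w := by rw [← hcomm' a ha a ha]
      refine mem_zc.mpr ⟨hphi, fun y hy => ?_, h2⟩
      by_cases hyS : y ∈ So
      · exact hSocomm y hyS
      · have h5 : w⁻¹ * y ∈ So := htwo _ (hWT hwW) _ hy hwS hyS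
        have h6 := hSocomm _ h5
        calc y * (a * (w * a * w⁻¹)) = w * ((w⁻¹ * y) * (a * (w * a * w⁻¹))) := by group
          _ = w * (a * (w * a * w⁻¹)) * (w⁻¹ * y) := by rw [h6]; group
          _ = (a * (w * a * w⁻¹)) * y := by rw [hwcomm]; group
    have hcT : Nat.card T = Nat.card (S : Subgroup G) := by
      rw [← hrel, hrel2, hidx, mul_comm]
    have hczc := card_zc_of_card_eq S hT2 hcT
    have hzT : z ∈ zc T :=
      mem_zc.mpr ⟨hSoT hz, fun y hy => hHz y (hTH hy), hz2⟩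
    let f : (V ⊓ centralizer (So : Set G) : Subgroup G) → zc T :=
      fun a => ⟨(a : G) * (w * a * w⁻¹), hmem a a.2⟩
    have hf : Function.Injective f := by
      intro a b hab
      exact Subtype.ext (hinj a a.2.1 b b.2.1 (congrArg Subtype.val hab))
    have hbij : Function.Bijective f := by
      refine (Nat.bijective_iff_injective_and_card f).mpr ⟨hf, ?_⟩
      refine le_antisymm (Nat.card_le_card_of_injective f hf) ?_
      rw [hczc]; exact hcard
    obtain ⟨a, ha⟩ := hbij.2 ⟨z, hzT⟩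
    have ha' : (a : G) * (w * a * w⁻¹) = z := congrArg Subtype.val ha
    have ha1 : (a : G) ∈ V ⊓ centralizer (L : Set G) := by
      refine ⟨a.2.1, mem_centralizer_iff.mpr fun g hg => ?_⟩
      have h3 := equivariant hLV hw hW0c hg a.2.1
      have h4 : g * z * g⁻¹ = z := by rw [hHz g (hLH hg)]; group
      have h5 : (g * a * g⁻¹) * (w * (g * a * g⁻¹) * w⁻¹) = a * (w * a * w⁻¹) := by
        rw [← h3]
        calc (g * a * g⁻¹) * (g * (w * a * w⁻¹) * g⁻¹) = g * (a * (w * a * w⁻¹)) * g⁻¹ := by group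
          _ = a * (w * a * w⁻¹) := by rw [ha', h4]
      have h6 := hinj _ ((mem_normalizer_iff.mp (hLV hg) _).mp a.2.1) _ a.2.1 h5
      calc g * a = (g * a * g⁻¹) * g := by group
        _ = a * g := by rw [h6]
    rw [hnt, mem_bot] at ha1
    rw [ha1] at ha'
    exact hz1 (by rw [← ha']; group)
  · -- `V^w = V`
    have hnorm : w ∈ normalizer (V : Set G) := by
      have h1 : V ≤ V.map (MulAut.conj w).toMonoidHom := by
        exact h0.symm.le.trans inf_le_right
      have h2 : V = V.map (MulAut.conj w).toMonoidHom :=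
        eq_of_le_of_card_ge h1 (card_map_of_injective (MulAut.conj w).injective).le
      exact mem_normalizer_of_map_le h2.symm.le
    rcases hirr _ inf_le_left (cent_invariant hLV hw hW0c) with h1 | h1
    · by_cases hVb : V = ⊥
      · intro v hv
        rw [hVb, mem_bot] at hv
        rw [hv, mul_one, one_mul]
      obtain ⟨v, hv, hv1, hvw⟩ := exists_fixed hV2 hVb
        ((o2_isPGroup H).to_le (zpowers_le.mpr hwW)) (zpowers_le.mpr hnorm)
      exfalso
      have h2 : v ∈ V ⊓ centralizer ({w} : Set G) := by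
        refine ⟨hv, mem_centralizer_iff.mpr ?_⟩
        intro y hy
        rw [Set.mem_singleton_iff.mp hy]
        have := hvw w (mem_zpowers w)
        calc w * v = (w * v * w⁻¹) * w := by group
          _ = v * w := by rw [this]
      rw [h1, mem_bot] at h2
      exact hv1 h2
    · intro v hv
      have h2 : v ∈ V ⊓ centralizer ({w} : Set G) := by rw [h1]; exact hv
      exact mem_centralizer_iff.mp h2.2 w rfl

end Cfsg.Agent.Omega.Half

end

section


/-!
# HALF LEMMA, consumer form (project OMEGA, job 168)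

`G` of characteristic 2 type, `S ≤ P` a Sylow 2-subgroup of `G`, `So ≤ S` of index 2, `z ∈ Z(So)` an involution which
is not `P`-conjugate into `Z(S)`, `So ≤ L ≤ C_P(z)`, `U ≤ So` elementary abelian, normal in `L`, irreducible and
nontrivial for `L`, `|C_U(So)| ≥ |Ω₁ Z(S)|`. Then `U ≤ Z(O₂(C_G(z)))` (`gen`).
-/

set_option autoImplicit false

namespace Cfsg.Agent.Omega.Half

open Subgroup Cfsg Cfsg.Agent.ZN Cfsg.Agent.MinSimple.VModule
open Cfsg.Agent.MinSimple.MinParabolic Cfsg.Agent.MinSimple.Basic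

universe u

variable {G : Type u} [Group G]

/-- `So` is a Sylow 2-subgroup of `L`. -/
theorem not_dvd_of_fus [Finite G] (S : Sylow 2 G) {P So L : Subgroup G} {z : G} (hSP : (S : Subgroup G) ≤ P)
    (hSo : So ≤ (S : Subgroup G)) (hidx : Nat.card (S : Subgroup G) = 2 * Nat.card So) (hSoL : So ≤ L) (hLP : L ≤ P)
    (hLz : ∀ x ∈ L, x * z = z * x)
    (hfus : ∀ g ∈ P, ¬ ∀ s ∈ (S : Subgroup G), s * (g * z * g⁻¹) = g * z * g⁻¹ * s) : ¬ 2 ∣ So.relIndex L := by
  have : Fact (Nat.Prime 2) := ⟨Nat.prime_two⟩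
  intro hdvd
  obtain ⟨T, hSoT, hTL, hT2, hTS⟩ := exists_sylow_le (S.isPGroup'.to_le hSo) hSoL
  -- `So < T`
  have hne : So.relIndex T ≠ 1 := by
    intro h1
    apply hTS
    rw [relIndex_eq_one] at h1
    rwa [le_antisymm h1 hSoT]
  have hrel : Nat.card So * So.relIndex T = Nat.card T := card_mul_relIndex hSoT
  have hT0 : So.relIndex T ≠ 0 := fun h => by
    rw [h, mul_zero] at hrel
    exact Nat.card_pos.ne hrel
  have hcT : Nat.card (S : Subgroup G) ≤ Nat.card T := by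
    rw [hidx, ← hrel, mul_comm]
    exact Nat.mul_le_mul_left _ (by omega)
  -- `T` is a Sylow 2-subgroup of `G`, conjugate to `S` in `P`
  obtain ⟨Q, hQ⟩ := hT2.exists_le_sylow
  have hQT : T = (Q : Subgroup G) := by
    refine eq_of_le_of_card_ge hQ ?_
    exact (card_le_sylow S Q.isPGroup').trans hcT
  have hTP : T ≤ P := hTL.trans hLP
  obtain ⟨g, hg⟩ := MulAction.exists_smul_eq P (Q.subtype (hQT ▸ hTP)) (S.subtype hSP)
  refine hfus g g.2 fun s hs => ?_
  have h1 : (⟨s, hSP hs⟩ : P) ∈ ((g • (Q.subtype (hQT ▸ hTP)) : Sylow 2 P) : Subgroup P) := by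
    rw [hg]
    exact hs
  have h2 : g⁻¹ * ⟨s, hSP hs⟩ * g ∈ ((Q.subtype (hQT ▸ hTP) : Sylow 2 P) : Subgroup P) := by
    rw [Sylow.coe_subgroup_smul, Subgroup.mem_pointwise_smul_iff_inv_smul_mem] at h1
    simpa [MulAut.smul_def] using h1
  have h3 : (g : G)⁻¹ * s * g ∈ T := by
    rw [hQT]
    exact h2
  have h4 := hLz _ (hTL h3)
  calc s * ((g : G) * z * (g : G)⁻¹) = g * (((g : G)⁻¹ * s * g) * z) * (g : G)⁻¹ := by group
    _ = g * (z * ((g : G)⁻¹ * s * g)) * (g : G)⁻¹ := by rw [h4]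
    _ = g * z * (g : G)⁻¹ * s := by group

/-- **HALF LEMMA, consumer form.** -/
theorem gen [Finite G] (hG : IsCharacteristicTwoType G) (S : Sylow 2 G) {P So L U : Subgroup G} {z : G}
    (hSP : (S : Subgroup G) ≤ P) (hSo : So ≤ (S : Subgroup G))
    (hidx : Nat.card (S : Subgroup G) = 2 * Nat.card So) (hz1 : z ≠ 1) (hz2 : z ^ 2 = 1) (hz : z ∈ So)
    (hSoL : So ≤ L) (hLP : L ≤ P) (hLz : ∀ x ∈ L, x * z = z * x)
    (hfus : ∀ g ∈ P, ¬ ∀ s ∈ (S : Subgroup G), s * (g * z * g⁻¹) = g * z * g⁻¹ * s)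
    (hUS : U ≤ So) (hLU : L ≤ normalizer (U : Set G))
    (hcomm : ∀ a ∈ U, ∀ b ∈ U, a * b = b * a) (hsq : ∀ a ∈ U, a ^ 2 = 1)
    (hirr : ∀ X : Subgroup G, X ≤ U → L ≤ normalizer (X : Set G) → X = ⊥ ∨ X = U)
    (hnt : U ⊓ centralizer (L : Set G) = ⊥)
    (hcard : Nat.card (zc (S : Subgroup G)) ≤ Nat.card (U ⊓ centralizer (So : Set G) : Subgroup G)) :
    U ≤ o2 (centralizer ({z} : Set G)) ∧ o2 (centralizer ({z} : Set G)) ≤ centralizer (U : Set G) := by
  have : Fact (Nat.Prime 2) := ⟨Nat.prime_two⟩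
  have hU2 : IsPGroup 2 U := (S.isPGroup'.to_le hSo).to_le hUS
  refine half S hSo hidx hz1 hz2 hz (fun x hx => mem_centralizer_singleton_iff.1 hx)
    (char2_centralizer hG hz2 hz1) hSoL (fun x hx => mem_centralizer_singleton_iff.2 (hLz x hx))
    (not_dvd_of_fus S hSP hSo hidx hSoL hLP hLz hfus) hUS hLU hcomm hsq hirr hnt ?_ hcard
  -- `O₂(L)` centralises `U`
  by_cases hU : U = ⊥
  · rw [hU]
    intro x _
    rw [mem_centralizer_iff]
    intro y hy
    rw [SetLike.mem_coe, mem_bot] at hy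
    rw [hy, one_mul, mul_one]
  have hL2 : o2 L ≤ normalizer (U : Set G) := (o2_le L).trans hLU
  obtain ⟨v, hv, hv1, hvc⟩ := exists_fixed hU2 hU (o2_isPGroup L) hL2
  have hinv : L ≤ normalizer ((U ⊓ centralizer (o2 L : Set G) : Subgroup G) : Set G) := by
    refine le_normalizer_inf hLU ?_
    have h1 : normalizer (o2 L : Set G) ≤ normalizer (centralizer (o2 L : Set G) : Set G) := by
      have key : ∀ g ∈ normalizer (o2 L : Set G), ∀ x ∈ centralizer (o2 L : Set G),
          g * x * g⁻¹ ∈ centralizer (o2 L : Set G) := by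
        intro g hg x hx
        rw [mem_centralizer_iff]
        intro y hy
        have hy' : g⁻¹ * y * g ∈ o2 L := by
          have := (mem_normalizer_iff.1 (inv_mem hg) y).1 hy
          rwa [inv_inv] at this
        have h2 := mem_centralizer_iff.1 hx _ hy'
        calc y * (g * x * g⁻¹) = g * ((g⁻¹ * y * g) * x) * g⁻¹ := by group
          _ = g * (x * (g⁻¹ * y * g)) * g⁻¹ := by rw [h2]
          _ = g * x * g⁻¹ * y := by group
      intro g hg
      rw [mem_normalizer_iff]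
      intro x
      refine ⟨key g hg x, fun h => ?_⟩
      have := key g⁻¹ (inv_mem hg) _ h
      simpa [mul_assoc] using this
    exact (le_normalizer_o2 L).trans h1
  rcases hirr _ inf_le_left hinv with h1 | h1
  · exfalso
    apply hv1
    have h2 : v ∈ U ⊓ centralizer (o2 L : Set G) := by
      refine ⟨hv, mem_centralizer_iff.2 fun t ht => ?_⟩
      have h3 := hvc t ht
      calc t * v = (t * v * t⁻¹) * t := by group
        _ = v * t := by rw [h3]
    rwa [h1, mem_bot] at h2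
  · intro x hx
    rw [mem_centralizer_iff]
    intro y hy
    have h2 : y ∈ U ⊓ centralizer (o2 L : Set G) := by rw [h1]; exact hy
    exact (mem_centralizer_iff.1 h2.2 x hx).symm

end Cfsg.Agent.Omega.Half

end

section


/-!
# HALF LEMMA, APPLICATIONS 1 and 3, natural modules (project OMEGA, job 168; text helper7 #11954)

`M : NatK F T H V ⊥ k` (`V` a sum of `k` natural `SL₂(F)`-modules for `H`, `T` transitive on the summands),
`fac M B` = the elements of `V` with support in `B ⊆ Fin k`; `B` is one of two blocks of `T` (`Blk M B`).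

* `app_nat` : if `u ∈ fac M B` has full support in `B` then `fac M Bᶜ ≤ Z(O₂(C_G(u)))`;
* `exists_blk` : for `k ≥ 2` there are two blocks;
* `app_two`, `app_two'` : `k = 2`: for `1 ≠ v ∈ V_i` the other summand `V_j` lies in `Z(O₂(C_G(v)))`.
-/

set_option autoImplicit false

namespace Cfsg.Agent.Omega.Half

open Subgroup Cfsg Cfsg.Agent.ZN Cfsg.Agent.Omega.FFThm Cfsg.Agent.Omega.MinPar
open Cfsg.Agent.ZN.ChoiceBase hiding mem_zc
open Cfsg.Agent.Omega.NatPair (ap exists_ap ap_one ap_add)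
open Cfsg.Agent.MinSimple.VModule (mem_zc zc_le)

universe u

variable {G : Type u} [Group G] {F : Type} [Field F] {T H V : Subgroup G} {k : ℕ}

/-- The ambient facts on `V = zl T H`. -/
structure Amb (T H V : Subgroup G) : Prop where
  TH : T ≤ H
  VT : V ≤ T
  HV : H ≤ normalizer (V : Set G)
  comm : ∀ a ∈ V, ∀ b ∈ V, a * b = b * a
  sq : ∀ a ∈ V, a ^ 2 = 1
  zc : zc T ≤ V

theorem Amb.conj_mem (h : Amb T H V) {g v : G} (hg : g ∈ H) (hv : v ∈ V) : g * v * g⁻¹ ∈ V :=
  (mem_normalizer_iff.1 (h.HV hg) v).1 hv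

/-- The ambient facts for `V = V_P`, `P ∈ L(S)`. -/
theorem amb_of_loc [Finite G] (hG : IsCharacteristicTwoType G) (S : Sylow 2 G) {P : Subgroup G}
    (h : IsLoc (S : Subgroup G) P) : Amb (S : Subgroup G) P (zl (S : Subgroup G) P) where
  TH := h.le
  VT := (h.zl_le S hG).trans ((zc_le _).trans (h.o2_le S))
  HV := MinSimple.VModule.le_normalizer_zl _ _
  comm := MinSimple.VModule.zl_comm h.le S.isPGroup' (MinSimple.Basic.not_dvd_relIndex S h.le) (h.char2 S hG)
  sq := MinSimple.VModule.zl_sq h.le S.isPGroup' (MinSimple.Basic.not_dvd_relIndex S h.le) (h.char2 S hG)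
  zc := MinSimple.VModule.zc_le_zl _ _

theorem ap_zero (A : Matrix.SpecialLinearGroup (Fin 2) F) : ap A 0 = 0 := by
  have h := ap_add A 0 0
  rw [add_zero] at h
  exact left_eq_add.1 h

theorem exists_ne_ne (w : Fin 2 → F) : ∃ y : Fin 2 → F, y ≠ 0 ∧ y ≠ w := by
  by_cases h0 : w 0 = 0
  · refine ⟨![1, 0], fun h => one_ne_zero (congrFun h 0), fun h => ?_⟩
    have := congrFun h 0
    rw [h0] at this
    exact one_ne_zero this
  · refine ⟨![0, 1], fun h => one_ne_zero (congrFun h 1), fun h => ?_⟩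
    exact h0 (congrFun h 0).symm

namespace NatA

section basic

variable (M : NatK F T H V ⊥ k)

theorem e_one : M.e 1 = 0 := by
  have h := M.mul 1 (one_mem V) 1 (one_mem V)
  rw [one_mul] at h
  exact left_eq_add.1 h

theorem e_inv {v : G} (hv : v ∈ V) : M.e v⁻¹ = -M.e v := by
  have h := M.mul v hv v⁻¹ (inv_mem hv)
  rw [mul_inv_cancel, e_one] at h
  exact (neg_eq_of_add_eq_zero_right h.symm).symm

theorem eq_one {v : G} (hv : v ∈ V) (h : M.e v = 0) : v = 1 := mem_bot.1 ((M.ker v hv).1 h)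

theorem inj {v w : G} (hv : v ∈ V) (hw : w ∈ V) (h : M.e v = M.e w) : v = w := by
  rw [← mul_inv_eq_one]
  apply eq_one M (mul_mem hv (inv_mem hw))
  rw [M.mul v hv _ (inv_mem hw), e_inv M hw, h, add_neg_cancel]

/-- the elements of `V` with support in `B` -/
def fac (B : Set (Fin k)) : Subgroup G where
  carrier := {v | v ∈ V ∧ ∀ i, i ∉ B → M.e v i = 0}
  mul_mem' := by
    rintro v w ⟨hv, h1⟩ ⟨hw, h2⟩
    refine ⟨mul_mem hv hw, fun i hi => ?_⟩
    rw [M.mul v hv w hw, Pi.add_apply, h1 i hi, h2 i hi, add_zero]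
  one_mem' := ⟨one_mem V, fun i _ => by rw [e_one]; rfl⟩
  inv_mem' := by
    rintro v ⟨hv, h1⟩
    refine ⟨inv_mem hv, fun i hi => ?_⟩
    rw [e_inv M hv, Pi.neg_apply, h1 i hi, neg_zero]

theorem mem_fac {B : Set (Fin k)} {v : G} : v ∈ fac M B ↔ v ∈ V ∧ ∀ i, i ∉ B → M.e v i = 0 := Iff.rfl

theorem fac_le (B : Set (Fin k)) : fac M B ≤ V := fun _ h => h.1

/-- `g` moves the summands by `σ` -/
def Mv (g : G) (σ : Equiv.Perm (Fin k)) : Prop :=
  ∀ v ∈ V, ∀ i, M.e (g * v * g⁻¹) (σ i) = 0 ↔ M.e v i = 0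

theorem fac_inf_compl {B : Set (Fin k)} {v : G} (h1 : v ∈ fac M B) (h2 : v ∈ fac M Bᶜ) : v = 1 := by
  apply eq_one M h1.1
  funext i
  by_cases hi : i ∈ B
  · exact h2.2 i (fun h => h hi)
  · exact h1.2 i hi

/-- an element of `V` with given coordinates in `B` and 0 outside -/
theorem exists_fac (B : Set (Fin k)) (x : Fin k → Fin 2 → F) : ∃ v ∈ fac M B, ∀ i ∈ B, M.e v i = x i := by
  classical
  obtain ⟨v, hv, hx⟩ := M.surj fun i => if i ∈ B then x i else 0
  refine ⟨v, ⟨hv, fun i hi => ?_⟩, fun i hi => ?_⟩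
  · rw [hx]; exact if_neg hi
  · rw [hx]; exact if_pos hi

theorem exists_ne (i : Fin k) : ∃ v ∈ fac M {i}, M.e v i ≠ 0 := by
  obtain ⟨v, hv, h⟩ := exists_fac M {i} fun _ => ![1, 0]
  refine ⟨v, hv, ?_⟩
  rw [h i rfl]
  intro h0
  exact one_ne_zero (congrFun h0 0)

end basic

section amb

variable (M : NatK F T H V ⊥ k) (hA : Amb T H V)

include hA

theorem Mv.conj {g : G} {σ : Equiv.Perm (Fin k)} (h : Mv M g σ) (hg : g ∈ H) {B : Set (Fin k)} {v : G}
    (hv : v ∈ fac M B) : g * v * g⁻¹ ∈ fac M (σ '' B) := by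
  refine ⟨hA.conj_mem hg hv.1, fun i hi => ?_⟩
  have h1 : σ (σ.symm i) = i := σ.apply_symm_apply i
  rw [← h1, h v hv.1]
  apply hv.2
  intro h2
  exact hi ⟨_, h2, h1⟩

theorem Mv.inv {g : G} {σ : Equiv.Perm (Fin k)} (h : Mv M g σ) (hg : g ∈ H) : Mv M g⁻¹ σ.symm := by
  intro v hv i
  have h1 := h (g⁻¹ * v * g⁻¹⁻¹) (hA.conj_mem (inv_mem hg) hv) (σ.symm i)
  rw [σ.apply_symm_apply] at h1
  rw [← h1]
  have h2 : g * (g⁻¹ * v * g⁻¹⁻¹) * g⁻¹ = v := by group
  rw [h2]

theorem Mv.unique {g : G} {σ : Equiv.Perm (Fin k)} (h : Mv M g σ) (hg : g ∈ H) {i j : Fin k}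
    (hj : ∀ v ∈ V, M.e (g * v * g⁻¹) j = 0 ↔ M.e v i = 0) : σ i = j := by
  by_contra hne
  obtain ⟨w, hw, hwj⟩ := exists_ne M j
  have h1 : g⁻¹ * w * g⁻¹⁻¹ ∈ V := hA.conj_mem (inv_mem hg) hw.1
  have h2 : g * (g⁻¹ * w * g⁻¹⁻¹) * g⁻¹ = w := by group
  have h3 := h _ h1 i
  have h4 := hj _ h1
  rw [h2] at h3 h4
  exact hwj (h4.2 (h3.1 (hw.2 _ hne)))

end amb

/-! ### Two blocks -/

/-- `B` and `Bᶜ` are blocks of `T` on the summands. -/
structure Blk (M : NatK F T H V ⊥ k) (B : Set (Fin k)) : Prop where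
  ne : B.Nonempty
  ne' : Bᶜ.Nonempty
  blk : ∀ t ∈ T, ∀ σ, Mv M t σ → σ '' B = B ∨ σ '' B = Bᶜ

section blk

variable {M : NatK F T H V ⊥ k} {B : Set (Fin k)} (hA : Amb T H V) (hB : Blk M B)

include hA hB

theorem mem_nor {t : G} (ht : t ∈ T) {σ : Equiv.Perm (Fin k)} (hσ : Mv M t σ) :
    t ∈ normalizer (fac M B : Set G) ↔ σ '' B = B := by
  constructor
  · intro h
    rcases hB.blk t ht σ hσ with h1 | h1
    · exact h1
    · exfalso
      obtain ⟨i, hi⟩ := hB.ne
      obtain ⟨v, hv, hvi⟩ := exists_ne M i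
      have hvB : v ∈ fac M B := ⟨hv.1, fun j hj => hv.2 j fun h => hj (h ▸ hi)⟩
      have h2 := (mem_normalizer_iff.1 h v).1 hvB
      have h3 := hσ.conj M hA (hA.TH ht) hvB
      rw [h1] at h3
      have h4 := fac_inf_compl M h2 h3
      rw [mul_inv_eq_one] at h4
      have h5 : v = 1 := by
        have := mul_left_cancel (h4.trans (mul_one t).symm)
        exact this
      rw [h5, e_one] at hvi
      exact hvi rfl
  · intro h
    rw [mem_normalizer_iff]
    intro v
    constructor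
    · intro hv
      have := hσ.conj M hA (hA.TH ht) hv
      rwa [h] at this
    · intro hv
      have h1 := (hσ.inv M hA (hA.TH ht)).conj M hA (inv_mem (hA.TH ht)) hv
      have h2 : σ.symm '' B = B := by
        conv_lhs => rw [← h]
        rw [← Set.image_comp]
        simp
      rw [h2] at h1
      have h3 : t⁻¹ * (t * v * t⁻¹) * t⁻¹⁻¹ = v := by group
      rwa [h3] at h1

omit hA hB in
theorem image_compl (σ : Equiv.Perm (Fin k)) : σ '' Bᶜ = (σ '' B)ᶜ := Set.image_compl_eq σ.bijective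

/-- the block stabiliser -/
def So (M : NatK F T H V ⊥ k) (B : Set (Fin k)) : Subgroup G := T ⊓ normalizer (fac M B : Set G)

theorem mem_So {t : G} (ht : t ∈ T) {σ : Equiv.Perm (Fin k)} (hσ : Mv M t σ) : t ∈ So M B ↔ σ '' B = B := by
  rw [So, mem_inf, mem_nor hA hB ht hσ]
  exact and_iff_right ht

omit hB in
theorem exists_mv {t : G} (ht : t ∈ T) : ∃ σ, Mv M t σ := M.perm t (hA.TH ht)

omit hA in
theorem Blk.compl : Blk M Bᶜ := by
  refine ⟨hB.ne', by rw [compl_compl]; exact hB.ne, fun t ht σ hσ => ?_⟩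
  rw [image_compl, compl_compl]
  rcases hB.blk t ht σ hσ with h | h
  · left; rw [h]
  · right; rw [h, compl_compl]

theorem So_compl : So M Bᶜ = So M B := by
  ext t
  by_cases ht : t ∈ T
  · obtain ⟨σ, hσ⟩ := exists_mv (M := M) hA ht
    rw [mem_So hA hB.compl ht hσ, mem_So hA hB ht hσ, image_compl]
    exact compl_inj_iff
  · exact iff_of_false (fun h => ht h.1) (fun h => ht h.1)

/-- `So` is transitive on `B`. -/
theorem exists_move {i j : Fin k} (hi : i ∈ B) (hj : j ∈ B) : ∃ t ∈ So M B, ∃ σ, Mv M t σ ∧ σ i = j := by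
  obtain ⟨t, ht, h⟩ := M.trans i j
  obtain ⟨σ, hσ⟩ := exists_mv (M := M) hA ht
  have h1 := hσ.unique M hA (hA.TH ht) h
  refine ⟨t, ?_, σ, hσ, h1⟩
  rw [mem_So hA hB ht hσ]
  rcases hB.blk t ht σ hσ with h2 | h2
  · exact h2
  · exfalso
    have h3 : j ∈ Bᶜ := by rw [← h2, ← h1]; exact ⟨i, hi, rfl⟩
    exact h3 hj

theorem exists_swap : ∃ s ∈ T, s ∉ So M B := by
  obtain ⟨i, hi⟩ := hB.ne
  obtain ⟨j, hj⟩ := hB.ne'
  obtain ⟨t, ht, h⟩ := M.trans i j
  obtain ⟨σ, hσ⟩ := exists_mv (M := M) hA ht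
  have h1 := hσ.unique M hA (hA.TH ht) h
  refine ⟨t, ht, fun h2 => hj ?_⟩
  rw [mem_So hA hB ht hσ] at h2
  rw [← h2, ← h1]
  exact ⟨i, hi, rfl⟩

theorem card_So [Finite G] : Nat.card T = 2 * Nat.card (So M B) := by
  have hle : So M B ≤ T := inf_le_left
  obtain ⟨s, hs, hsn⟩ := exists_swap hA hB
  have htwo : ∀ a ∈ T, ∀ b ∈ T, a ∉ So M B → b ∉ So M B → a * b ∈ So M B := by
    intro a ha b hb hna hnb
    obtain ⟨σ, hσ⟩ := exists_mv (M := M) hA ha
    obtain ⟨τ, hτ⟩ := exists_mv (M := M) hA hb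
    have h1 : Mv M (a * b) (σ * τ) := by
      intro v hv i
      have e1 : a * b * v * (a * b)⁻¹ = a * (b * v * b⁻¹) * a⁻¹ := by group
      rw [e1, Equiv.Perm.mul_apply, hσ _ (hA.conj_mem (hA.TH hb) hv), hτ v hv]
    rw [mem_So hA hB ha hσ] at hna
    rw [mem_So hA hB hb hτ] at hnb
    rw [mem_So hA hB (mul_mem ha hb) h1]
    have h2 := (hB.blk a ha σ hσ).resolve_left hna
    have h3 := (hB.blk b hb τ hτ).resolve_left hnb
    rw [Equiv.Perm.coe_mul, Set.image_comp, h3, image_compl, h2, compl_compl]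
  have hrel : (So M B).relIndex T = 2 := by
    rw [relIndex, index_eq_two_iff]
    refine ⟨⟨s, hs⟩, fun b => ?_⟩
    simp only [mem_subgroupOf, Subgroup.coe_mul]
    by_cases hb : (b : G) ∈ So M B
    · right
      refine ⟨hb, fun h => hsn ?_⟩
      rwa [Subgroup.mul_mem_cancel_left _ hb] at h
    · left
      exact ⟨htwo _ b.2 _ hs hb hsn, hb⟩
  rw [← card_mul_relIndex hle, hrel, mul_comm]


/-! ### The block element -/

omit hA hB in
theorem fac_ne_bot {i : Fin k} (hi : i ∈ B) : fac M B ≠ ⊥ := by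
  intro h
  obtain ⟨v, hv, hvi⟩ := exists_ne M i
  have hvB : v ∈ fac M B := ⟨hv.1, fun j hj => hv.2 j fun h => hj (h ▸ hi)⟩
  rw [h, mem_bot] at hvB
  rw [hvB, e_one] at hvi
  exact hvi rfl

theorem full {z : G} (hz : z ∈ fac M B) (hz1 : z ≠ 1) (hc : ∀ t ∈ So M B, t * z * t⁻¹ = z) {i : Fin k}
    (hi : i ∈ B) : M.e z i ≠ 0 := by
  intro h0
  apply hz1
  apply eq_one M hz.1
  funext j
  by_cases hj : j ∈ B
  · obtain ⟨t, ht, σ, hσ, h1⟩ := exists_move hA hB hj hi
    have h2 := hσ z hz.1 j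
    rw [hc t ht, h1] at h2
    exact h2.1 h0
  · exact hz.2 j hj

theorem fus {z g : G} (hz : z ∈ fac M B) (hz1 : z ≠ 1) (hc : ∀ t ∈ So M B, t * z * t⁻¹ = z) (hg : g ∈ H) :
    ¬ ∀ s ∈ T, s * (g * z * g⁻¹) = g * z * g⁻¹ * s := by
  intro h
  obtain ⟨i, hi⟩ := hB.ne
  obtain ⟨j, hj⟩ := hB.ne'
  obtain ⟨σ, hσ⟩ := M.perm g hg
  obtain ⟨t, ht, h1⟩ := M.trans (σ i) (σ j)
  have h2 := h1 _ (hA.conj_mem hg hz.1)
  have h3 : t * (g * z * g⁻¹) * t⁻¹ = g * z * g⁻¹ := by rw [h t ht]; group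
  rw [h3, hσ z hz.1, hσ z hz.1] at h2
  exact full hA hB hz hz1 hc hi (h2.1 (hz.2 j hj))

/-- the group `L` -/
def LL (M : NatK F T H V ⊥ k) (B : Set (Fin k)) (z : G) : Subgroup G :=
  H ⊓ centralizer ({z} : Set G) ⊓ normalizer (fac M Bᶜ : Set G)

theorem So_le_LL {z : G} (hc : ∀ t ∈ So M B, t * z * t⁻¹ = z) : So M B ≤ LL M B z := by
  intro t ht
  refine ⟨⟨hA.TH ht.1, mem_centralizer_singleton_iff.2 ?_⟩, ?_⟩
  · have := hc t ht
    calc t * z = (t * z * t⁻¹) * t := by group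
      _ = z * t := by rw [this]
  · rw [← So_compl hA hB] at ht
    exact ht.2

omit hB in
/-- the elements of `L` acting on one summand of `Bᶜ` -/
theorem exists_LL [DecidableEq (Fin k)] {z : G} (hz : z ∈ fac M B) {i : Fin k} (hi : i ∉ B)
    (A : Matrix.SpecialLinearGroup (Fin 2) F) :
    ∃ g ∈ LL M B z, ∀ v ∈ V, (M.e (g * v * g⁻¹) i = ap A (M.e v i)) ∧
      ∀ j, j ≠ i → M.e (g * v * g⁻¹) j = M.e v j := by
  obtain ⟨g, hg, hgA, -⟩ := M.lift (Function.update 1 i A)
  have h1 : ∀ v ∈ V, M.e (g * v * g⁻¹) i = ap A (M.e v i) := fun v hv => by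
    rw [hgA v hv i, Function.update_self]
  have h2 : ∀ v ∈ V, ∀ j, j ≠ i → M.e (g * v * g⁻¹) j = M.e v j := fun v hv j hj => by
    rw [hgA v hv j, Function.update_of_ne hj, Pi.one_apply, ap_one]
  refine ⟨g, ⟨⟨hg, mem_centralizer_singleton_iff.2 ?_⟩, ?_⟩, fun v hv => ⟨h1 v hv, h2 v hv⟩⟩
  · have h3 : g * z * g⁻¹ = z := by
      apply inj M (hA.conj_mem hg hz.1) hz.1
      funext j
      by_cases hj : j = i
      · rw [hj, h1 z hz.1, hz.2 i hi, ap_zero]
      · exact h2 z hz.1 j hj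
    calc g * z = (g * z * g⁻¹) * g := by group
      _ = z * g := by rw [h3]
  · show g ∈ normalizer (fac M Bᶜ : Set G)
    rw [mem_normalizer_iff]
    intro v
    constructor
    · intro hv
      refine ⟨hA.conj_mem hg hv.1, fun j hj => ?_⟩
      rw [h2 v hv.1 j fun h => hj (h ▸ hi)]
      exact hv.2 j hj
    · intro hv
      have hvV : v ∈ V := (mem_normalizer_iff.1 (hA.HV hg) v).2 hv.1
      refine ⟨hvV, fun j hj => ?_⟩
      rw [← h2 v hvV j fun h => hj (h ▸ hi)]
      exact hv.2 j hj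

theorem irr {z : G} (hz : z ∈ fac M B) (hc : ∀ t ∈ So M B, t * z * t⁻¹ = z) (X : Subgroup G)
    (hX : X ≤ fac M Bᶜ) (hLX : LL M B z ≤ normalizer (X : Set G)) (hX1 : X ≠ ⊥) : X = fac M Bᶜ := by
  classical
  obtain ⟨⟨x, hx⟩, hx1⟩ := ne_bot_iff_exists_ne_one.1 hX1
  replace hx1 : x ≠ 1 := fun h => hx1 (Subtype.ext h)
  obtain ⟨i, hxi⟩ : ∃ i, M.e x i ≠ 0 := by
    by_contra h
    push Not at h
    exact hx1 (eq_one M (hX hx).1 (funext h))
  have hiB : i ∉ B := fun h => hxi ((hX hx).2 i fun h' => h' h)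
  -- from a nonzero coordinate at `i`
  have key : ∀ x ∈ X, M.e x i ≠ 0 → ∀ y : Fin 2 → F, y ≠ -M.e x i → ∀ v ∈ fac M {i}, M.e v i = y → v ∈ X := by
    intro x hx hxi y hy v hv hvy
    obtain ⟨A, hAy⟩ := exists_ap hxi (y := y + M.e x i) fun h => hy (eq_neg_of_add_eq_zero_left h)
    obtain ⟨g, hg, hgv⟩ := exists_LL hA hz hiB A
    have h1 : g * x * g⁻¹ ∈ X := (mem_normalizer_iff.1 (hLX hg) x).1 hx
    have h2 : g * x * g⁻¹ * x⁻¹ = v := by
      have hxV := (hX hx).1
      apply inj M (mul_mem (hX h1).1 (inv_mem hxV)) hv.1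
      rw [M.mul _ (hX h1).1 _ (inv_mem hxV), e_inv M hxV]
      funext j
      rw [Pi.add_apply, Pi.neg_apply]
      by_cases hj : j = i
      · rw [hj, (hgv x hxV).1, hAy, hvy, add_neg_cancel_right]
      · rw [(hgv x hxV).2 j hj, add_neg_cancel]
        exact (hv.2 j hj).symm
    rw [← h2]
    exact mul_mem h1 (inv_mem hx)
  -- the whole summand `i`
  have hi : fac M {i} ≤ X := by
    -- an auxiliary vector different from `0` and `-e x i`
    obtain ⟨y, hy0, hy1⟩ := exists_ne_ne (-M.e x i)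
    obtain ⟨w, hw, hwy⟩ := exists_fac M {i} fun _ => y
    have hwy := hwy i rfl
    have hwX := key x hx hxi y hy1 w hw hwy
    have hwi : M.e w i ≠ 0 := by rw [hwy]; exact hy0
    intro v hv
    by_cases h1 : M.e v i = -M.e w i
    · -- `v w` has coordinate 0
      have h2 : v * w = 1 := by
        apply eq_one M (mul_mem hv.1 hw.1)
        rw [M.mul v hv.1 w hw.1]
        funext j
        rw [Pi.add_apply]
        by_cases hj : j = i
        · rw [hj, h1, neg_add_cancel]; rfl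
        · rw [hv.2 j hj, hw.2 j hj, add_zero]; rfl
      rw [eq_inv_of_mul_eq_one_left h2]
      exact inv_mem hwX
    · exact key w hwX hwi _ h1 v hv rfl
  -- all summands of `Bᶜ`
  have hj : ∀ j ∉ B, fac M {j} ≤ X := by
    intro j hj v hv
    obtain ⟨t, ht, σ, hσ, h1⟩ := exists_move hA hB.compl (i := i) (j := j) hiB hj
    rw [So_compl hA hB] at ht
    have h2 := (hσ.inv M hA (hA.TH ht.1)).conj M hA (inv_mem (hA.TH ht.1)) hv
    have h3 : σ.symm '' {j} = {i} := by
      rw [Set.image_singleton, ← h1, σ.symm_apply_apply]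
    rw [h3] at h2
    have h4 := hi h2
    have h5 := (mem_normalizer_iff.1 (hLX (So_le_LL hA hB hc ht)) _).1 h4
    have h6 : t * (t⁻¹ * v * t⁻¹⁻¹) * t⁻¹ = v := by group
    rwa [h6] at h5
  -- everything
  have hall : ∀ s : Finset (Fin k), ∀ v ∈ fac M Bᶜ, (∀ j, j ∉ s → M.e v j = 0) → v ∈ X := by
    intro s
    induction s using Finset.induction_on with
    | empty =>
      intro v hv h
      have : v = 1 := eq_one M hv.1 (funext fun j => h j (Finset.notMem_empty j))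
      rw [this]
      exact one_mem X
    | insert a s has ih =>
      intro v hv h
      obtain ⟨w, hw, hwa⟩ := exists_fac M {a} (M.e v)
      have hwa := hwa a rfl
      have hwX : w ∈ X := by
        by_cases ha : a ∈ B
        · have : w = 1 := by
            apply eq_one M hw.1
            funext j
            by_cases hja : j = a
            · rw [hja, hwa]
              exact hv.2 a fun h' => h' ha
            · exact hw.2 j hja
          rw [this]
          exact one_mem X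
        · exact hj a ha hw
      have h1 : v * w⁻¹ ∈ X := by
        have hvw : ∀ j, M.e (v * w⁻¹) j = M.e v j - M.e w j := fun j => by
          rw [M.mul v hv.1 _ (inv_mem hw.1), e_inv M hw.1, Pi.add_apply, Pi.neg_apply, sub_eq_add_neg]
        have hz' : ∀ j, M.e v j = 0 → M.e (v * w⁻¹) j = 0 := fun j hj0 => by
          rw [hvw, hj0]
          by_cases hja : j = a
          · rw [hja, hwa, ← hja, hj0, sub_zero]
          · rw [hw.2 j hja, sub_zero]
        refine ih _ ⟨mul_mem hv.1 (inv_mem hw.1), fun j hj0 => hz' j (hv.2 j hj0)⟩ fun j hjs => ?_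
        by_cases hja : j = a
        · rw [hvw, hja, hwa, sub_self]
        · exact hz' j (h j fun h' => (Finset.mem_insert.1 h').elim hja hjs)
      have h2 : v = v * w⁻¹ * w := by group
      rw [h2]
      exact mul_mem h1 hwX
  exact le_antisymm hX fun v hv => hall Finset.univ v hv fun j h => absurd (Finset.mem_univ j) h


omit hB in
theorem nt {z : G} (hz : z ∈ fac M B) : fac M Bᶜ ⊓ centralizer (LL M B z : Set G) = ⊥ := by
  classical
  rw [eq_bot_iff]
  rintro v ⟨hv, hvc⟩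
  rw [mem_bot]
  apply eq_one M hv.1
  funext i
  by_cases hi : i ∈ B
  · exact hv.2 i fun h => h hi
  by_contra h0
  obtain ⟨y, hy0, hy1⟩ := exists_ne_ne (M.e v i)
  obtain ⟨A, hAy⟩ := exists_ap (x := M.e v i) h0 hy0
  obtain ⟨g, hg, hgv⟩ := exists_LL hA hz hi A
  have h1 := mem_centralizer_iff.1 hvc g hg
  have h2 : g * v * g⁻¹ = v := by rw [h1]; group
  have h3 := (hgv v hv.1).1
  rw [h2, hAy] at h3
  exact hy1 h3.symm

/-- the component in `fac M Bᶜ` -/
theorem exists_comp {v : G} (hv : v ∈ V) (hvT : ∀ t ∈ T, t * v = v * t) :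
    ∃ p : (fac M Bᶜ ⊓ centralizer (So M B : Set G) : Subgroup G), v * (p : G)⁻¹ ∈ fac M B := by
  obtain ⟨p, hp, hpv⟩ := exists_fac M Bᶜ (M.e v)
  have hq : v * p⁻¹ ∈ fac M B := by
    refine ⟨mul_mem hv (inv_mem hp.1), fun i hi => ?_⟩
    rw [M.mul v hv _ (inv_mem hp.1), e_inv M hp.1, Pi.add_apply, Pi.neg_apply, hpv i hi, add_neg_cancel]
  refine ⟨⟨p, hp, mem_centralizer_iff.2 fun t ht => ?_⟩, hq⟩
  have h1 : t * p * t⁻¹ ∈ fac M Bᶜ := by
    have ht' : t ∈ So M Bᶜ := by rw [So_compl hA hB]; exact ht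
    exact (mem_normalizer_iff.1 ht'.2 p).1 hp
  have h2 : t * (v * p⁻¹) * t⁻¹ ∈ fac M B := (mem_normalizer_iff.1 ht.2 _).1 hq
  have h3 : t * v * t⁻¹ = v := by rw [hvT t ht.1]; group
  have h4 : (t * p * t⁻¹) * p⁻¹ = (t * (v * p⁻¹) * t⁻¹)⁻¹ * (v * p⁻¹) := by
    have e1 : t * (v * p⁻¹) * t⁻¹ = (t * v * t⁻¹) * (t * p * t⁻¹)⁻¹ := by group
    rw [e1, h3]
    group
  have h5 : (t * p * t⁻¹) * p⁻¹ = 1 := by
    refine fac_inf_compl M (B := B) ?_ (mul_mem h1 (inv_mem hp))
    rw [h4]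
    exact mul_mem (inv_mem h2) hq
  calc t * p = ((t * p * t⁻¹) * p⁻¹) * p * t := by group
    _ = p * t := by rw [h5, one_mul]

theorem card_zc_le [Finite G] :
    Nat.card (zc T) ≤ Nat.card (fac M Bᶜ ⊓ centralizer (So M B : Set G) : Subgroup G) := by
  have hex : ∀ v : zc T, ∃ p : (fac M Bᶜ ⊓ centralizer (So M B : Set G) : Subgroup G),
      (v : G) * (p : G)⁻¹ ∈ fac M B := fun v =>
    exists_comp hA hB (hA.zc v.2) (mem_zc.1 v.2).2.1
  choose f hf using hex
  refine Nat.card_le_card_of_injective f fun v w hvw => ?_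
  have h1 := hf v
  have h2 := hf w
  rw [← hvw] at h2
  have h3 : (v : G) * (w : G)⁻¹ ∈ fac M B := by
    have := mul_mem h1 (inv_mem h2)
    have e : (v : G) * (f v : G)⁻¹ * ((w : G) * (f v : G)⁻¹)⁻¹ = (v : G) * (w : G)⁻¹ := by group
    rwa [e] at this
  -- an element of `fac M B` centralised by `T` is trivial
  have h4 : ((v : G) * (w : G)⁻¹) = 1 := by
    have hc : ∀ t ∈ T, t * ((v : G) * (w : G)⁻¹) * t⁻¹ = (v : G) * (w : G)⁻¹ := by
      intro t ht
      have e1 := (mem_zc.1 v.2).2.1 t ht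
      have e2 := (mem_zc.1 w.2).2.1 t ht
      calc t * ((v : G) * (w : G)⁻¹) * t⁻¹ = (t * v) * (t * w)⁻¹ := by group
        _ = (v : G) * (w : G)⁻¹ := by rw [e1, e2]; group
    apply eq_one M h3.1
    obtain ⟨j, hj⟩ := hB.ne'
    funext i
    obtain ⟨t, ht, h5⟩ := M.trans i j
    have h6 := h5 _ h3.1
    rw [hc t ht] at h6
    exact h6.1 (h3.2 j hj)
  exact Subtype.ext (mul_inv_eq_one.1 h4)

end blk

/-! ### The theorem -/

section main

/-- Conjugation of the conclusion. -/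
theorem concl_cj {z u g : G} {U : Subgroup G} (hzu : g * z * g⁻¹ = u) (hU : g ∈ normalizer (U : Set G))
    (h : U ≤ o2 (centralizer ({z} : Set G)) ∧ o2 (centralizer ({z} : Set G)) ≤ centralizer (U : Set G)) :
    U ≤ o2 (centralizer ({u} : Set G)) ∧ o2 (centralizer ({u} : Set G)) ≤ centralizer (U : Set G) := by
  have h1 : centralizer ({u} : Set G) = cj g (centralizer ({z} : Set G)) := by
    ext x
    rw [mem_cj, mem_centralizer_singleton_iff, mem_centralizer_singleton_iff, ← hzu]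
    constructor
    · intro hx
      calc g⁻¹ * x * g * z = g⁻¹ * (x * (g * z * g⁻¹)) * g := by group
        _ = g⁻¹ * (g * z * g⁻¹ * x) * g := by rw [hx]
        _ = z * (g⁻¹ * x * g) := by group
    · intro hx
      calc x * (g * z * g⁻¹) = g * (g⁻¹ * x * g * z) * g⁻¹ := by group
        _ = g * (z * (g⁻¹ * x * g)) * g⁻¹ := by rw [hx]
        _ = g * z * g⁻¹ * x := by group
  have h2 := cj_eq_of_mem_normalizer hU
  rw [h1, ChoiceSit.o2_cj]
  constructor
  · rw [← h2]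
    exact cj_mono g h.1
  · rw [← h2, ← cj_centralizer]
    exact cj_mono g h.2

variable [Finite G] (hG : IsCharacteristicTwoType G) (S : Sylow 2 G) {P : Subgroup G}
  {M : NatK F (S : Subgroup G) P V ⊥ k} {B : Set (Fin k)}

include hG

/-- **APPLICATIONS 1 and 3.** -/
theorem app_nat (hA : Amb (S : Subgroup G) P V) (hB : Blk M B) {u : G} (hu : u ∈ fac M B)
    (hfull : ∀ i ∈ B, M.e u i ≠ 0) :
    fac M Bᶜ ≤ o2 (centralizer ({u} : Set G)) ∧
      o2 (centralizer ({u} : Set G)) ≤ centralizer (fac M Bᶜ : Set G) := by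
  classical
  obtain ⟨i₀, hi₀⟩ := hB.ne
  have hS2 : IsPGroup 2 (S : Subgroup G) := S.isPGroup'
  have hSo2 : IsPGroup 2 (So M B) := hS2.to_le inf_le_left
  obtain ⟨z, hz, hz1, hc⟩ := exists_fixed ((hS2.to_le hA.VT).to_le (fac_le M B)) (fac_ne_bot hi₀) hSo2
    (inf_le_right : So M B ≤ normalizer (fac M B : Set G))
  have hVSo : V ≤ So M B := by
    refine le_inf hA.VT fun v hv => ?_
    rw [mem_normalizer_iff]
    intro x
    constructor
    · intro hx
      have : v * x * v⁻¹ = x := by rw [hA.comm v hv x hx.1]; group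
      rwa [this]
    · intro hx
      have h1 := hA.comm v hv _ hx.1
      have h2 : x = v * x * v⁻¹ := by
        have h3 : v * (v * x * v⁻¹) = v * x := by rw [h1]; group
        exact (mul_left_cancel h3).symm
      rwa [h2]
  have hmain := gen hG S (P := P) (So := So M B) (L := LL M B z) (U := fac M Bᶜ) (z := z) hA.TH inf_le_left
    (card_So hA hB) hz1 (hA.sq z hz.1) (hVSo hz.1) (So_le_LL hA hB hc) (inf_le_left.trans inf_le_left)
    (fun x hx => mem_centralizer_singleton_iff.1 hx.1.2)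
    (fun g hg => fus hA hB hz hz1 hc hg) ((fac_le M _).trans hVSo) inf_le_right
    (fun a ha b hb => hA.comm a ha.1 b hb.1) (fun a ha => hA.sq a ha.1)
    (fun X hX hLX => (eq_or_ne X ⊥).imp_right fun h => irr hA hB hz hc X hX hLX h)
    (nt hA hz) (card_zc_le hA hB)
  -- transport to `u`
  have hex : ∀ i, ∃ A : Matrix.SpecialLinearGroup (Fin 2) F,
      (i ∈ B → ap A (M.e z i) = M.e u i) ∧ (i ∉ B → A = 1) := by
    intro i
    by_cases hi : i ∈ B
    · obtain ⟨A, hAi⟩ := exists_ap (full hA hB hz hz1 hc hi) (hfull i hi)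
      exact ⟨A, fun _ => hAi, fun h => absurd hi h⟩
    · exact ⟨1, fun h => absurd h hi, fun _ => rfl⟩
  choose A hAB hA1 using hex
  obtain ⟨g, hg, hgA, -⟩ := M.lift A
  have hzu : g * z * g⁻¹ = u := by
    apply inj M (hA.conj_mem hg hz.1) hu.1
    funext i
    rw [hgA z hz.1 i]
    by_cases hi : i ∈ B
    · exact hAB i hi
    · rw [hz.2 i hi, hu.2 i hi, ap_zero]
  refine concl_cj hzu ?_ hmain
  have hfix : ∀ v ∈ fac M Bᶜ, g * v * g⁻¹ = v := by
    intro v hv
    apply inj M (hA.conj_mem hg hv.1) hv.1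
    funext i
    rw [hgA v hv.1 i]
    by_cases hi : i ∈ B
    · rw [hv.2 i fun h => h hi, ap_zero]
    · rw [hA1 i hi, ap_one]
  refine mem_normalizer_of_cj_le fun x hx => ?_
  rw [mem_cj] at hx
  have := hfix _ hx
  have e : g * (g⁻¹ * x * g) * g⁻¹ = x := by group
  rw [e] at this
  rwa [this]

/-! ### Existence of blocks -/

omit [Finite G] hG in
theorem e_unique {g : G} {σ ρ : Equiv.Perm (Fin k)} (hA : Amb (S : Subgroup G) P V) (h1 : Mv M g σ) (h2 : Mv M g ρ)
    (hg : g ∈ P) : σ = ρ := by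
  ext1 i
  exact h1.unique M hA hg fun v hv => h2 v hv i

omit hG in
theorem exists_blk (M : NatK F (S : Subgroup G) P V ⊥ k) (hA : Amb (S : Subgroup G) P V) (hk : 2 ≤ k) (i : Fin k) :
    ∃ B : Set (Fin k), Blk M B ∧ i ∈ B := by
  obtain ⟨j, hij⟩ : ∃ j : Fin k, i ≠ j := by
    have : Nontrivial (Fin k) := Fin.nontrivial_iff_two_le.2 hk
    obtain ⟨j, hj⟩ := _root_.exists_ne i
    exact ⟨j, hj.symm⟩
  have hmulA : ∀ g ∈ P, ∀ h ∈ P, ∀ σ ρ, Mv M g σ → Mv M h ρ → Mv M (g * h) (σ * ρ) := by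
    intro g _ h hh σ ρ h1 h2 v hv i
    have e1 : g * h * v * (g * h)⁻¹ = g * (h * v * h⁻¹) * g⁻¹ := by group
    rw [e1, Equiv.Perm.mul_apply, h1 _ (hA.conj_mem hh hv), h2 v hv]
  obtain ⟨B, -, hi, hne, hblk⟩ := exists_blocks S.isPGroup' (R := fun t σ => Mv M t σ)
    (Ω₀ := (Set.univ : Set (Fin k))) (fun t ht => M.perm t (hA.TH ht))
    (fun v _ i => by rw [one_mul, inv_one, mul_one]; rfl)
    (fun s hs t ht σ σ' h1 h2 => hmulA s (hA.TH hs) t (hA.TH ht) σ σ' h1 h2)
    (fun t ht σ h => h.inv M hA (hA.TH ht))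
    (fun t ht σ σ' h1 h2 => e_unique S hA h1 h2 (hA.TH ht))
    (fun t ht π h p hp => trivial)
    (fun i _ j _ => by
      obtain ⟨t, ht, h1⟩ := M.trans i j
      obtain ⟨σ, hσ⟩ := exists_mv (M := M) hA ht
      exact ⟨t, ht, σ, hσ, hσ.unique M hA (hA.TH ht) h1⟩)
    (p₀ := i) (p₁ := j) trivial trivial hij
  refine ⟨B, ⟨⟨i, hi⟩, ?_, fun t ht σ h => ?_⟩, hi⟩
  · rwa [Set.compl_eq_univ_sdiff]
  · rw [Set.compl_eq_univ_sdiff]
    exact hblk t ht σ h

/-! ### Two summands -/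

omit [Finite G] hG in
theorem blk_two (M : NatK F T H V ⊥ 2) (i : Fin 2) : Blk M {i} := by
  have hcompl : ∀ i : Fin 2, ({i} : Set (Fin 2))ᶜ = {1 - i} := by
    intro i
    ext j
    simp only [Set.mem_compl_iff, Set.mem_singleton_iff]
    revert i j
    decide
  refine ⟨⟨i, rfl⟩, by rw [hcompl]; exact ⟨_, rfl⟩, fun t _ σ _ => ?_⟩
  rw [hcompl, Set.image_singleton, Set.singleton_eq_singleton_iff, Set.singleton_eq_singleton_iff]
  generalize σ i = x
  revert i x
  decide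

/-- **APPLICATION 1.** `k = 2`: for `1 ≠ v ∈ V_i` the other summand `V_j` lies in `Z(O₂(C_G(v)))`. -/
theorem app_two (M : NatK F (S : Subgroup G) P V ⊥ 2) (hA : Amb (S : Subgroup G) P V) {i j : Fin 2} (hij : i ≠ j)
    {v : G} (hv : v ∈ fac M {i}) (hv1 : v ≠ 1) :
    fac M {j} ≤ o2 (centralizer ({v} : Set G)) ∧
      o2 (centralizer ({v} : Set G)) ≤ centralizer (fac M {j} : Set G) := by
  have hcompl : ({i} : Set (Fin 2))ᶜ = {j} := by
    ext x
    simp only [Set.mem_compl_iff, Set.mem_singleton_iff]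
    clear hv
    revert i j x
    decide
  have h := app_nat hG S hA (blk_two M i) hv fun x hx h0 => hv1 (eq_one M hv.1 (funext fun y => by
    by_cases hy : y = i
    · rw [hy, ← (show x = i from hx)]
      exact h0
    · exact hv.2 y hy))
  rwa [hcompl] at h

/-- The same with `P ∈ L(S)`, `V = V_P`. -/
theorem app_two' (M : NatK F (S : Subgroup G) P (zl (S : Subgroup G) P) ⊥ 2) (hP : IsLoc (S : Subgroup G) P)
    {i j : Fin 2} (hij : i ≠ j) {v : G} (hv : v ∈ zl (S : Subgroup G) P) (hvi : ∀ x, x ≠ i → M.e v x = 0)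
    (hv1 : v ≠ 1) {w : G} (hw : w ∈ zl (S : Subgroup G) P) (hwj : ∀ x, x ≠ j → M.e w x = 0) :
    w ∈ o2 (centralizer ({v} : Set G)) ∧ w ∈ centralizer (o2 (centralizer ({v} : Set G)) : Set G) := by
  obtain ⟨h1, h2⟩ := app_two hG S M (amb_of_loc hG S hP) hij (v := v) ⟨hv, hvi⟩ hv1
  exact ⟨h1 ⟨hw, hwj⟩, le_centralizer_iff.1 h2 ⟨hw, hwj⟩⟩

end main

end NatA

end Cfsg.Agent.Omega.Half

end

section


/-!
# Sums of even-subset modules: coordinates and the permutation representation (project OMEGA, N1, `SymAll`)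

`M : SymK T H V ⊥ k m`, `Pt k m = Fin k × Fin (2^m+1)` the set of points; `co M v p` the coordinate of `v ∈ V` at
the point `p`; `rp M g` the permutation of the points induced by `g ∈ H`.
-/

set_option autoImplicit false

namespace Cfsg.Agent.Omega.NO1.Sym

open Subgroup Cfsg Cfsg.Agent.ZN Cfsg.Agent.Omega.FFThm Cfsg.Agent.Omega.Half

universe u

variable {G : Type u} [Group G] {T H V : Subgroup G} {k m : ℕ}

/-- The points. -/
abbrev Pt (k m : ℕ) : Type := Fin k × Fin (2 ^ m + 1)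

section basic

variable (M : SymK T H V ⊥ k m)

/-- The coordinates. -/
def co (v : G) (p : Pt k m) : ZMod 2 := M.e v p.1 p.2

theorem co_mul {v w : G} (hv : v ∈ V) (hw : w ∈ V) (p : Pt k m) : co M (v * w) p = co M v p + co M w p := by
  unfold co
  rw [M.mul v hv w hw]
  rfl

theorem co_one (p : Pt k m) : co M 1 p = 0 := by
  have h := co_mul M (one_mem V) (one_mem V) p
  rw [one_mul] at h
  exact left_eq_add.1 h

theorem co_inv {v : G} (hv : v ∈ V) (p : Pt k m) : co M v⁻¹ p = co M v p := by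
  have h := co_mul M hv (inv_mem hv) p
  rw [mul_inv_cancel, co_one] at h
  exact (CharTwo.add_eq_zero.mp h.symm).symm

theorem eq_one_of_co {v : G} (hv : v ∈ V) (h : ∀ p, co M v p = 0) : v = 1 :=
  mem_bot.1 ((M.ker v hv).1 (funext fun i => funext fun x => h (i, x)))

theorem ext_co {v w : G} (hv : v ∈ V) (hw : w ∈ V) (h : ∀ p, co M v p = co M w p) : v = w := by
  rw [← mul_inv_eq_one]
  refine eq_one_of_co M (mul_mem hv (inv_mem hw)) fun p => ?_
  rw [co_mul M hv (inv_mem hw), co_inv M hw, h, CharTwo.add_self_eq_zero]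

theorem sum_co {v : G} (hv : v ∈ V) (i : Fin k) : ∑ x, co M v (i, x) = 0 := M.even v hv i

theorem exists_co (A : Pt k m → ZMod 2) (hA : ∀ i, ∑ x, A (i, x) = 0) : ∃ v ∈ V, ∀ p, co M v p = A p := by
  obtain ⟨v, hv, h⟩ := M.surj (fun i x => A (i, x)) hA
  exact ⟨v, hv, fun p => by unfold co; rw [h]⟩

/-- The pair `{p, q}`, `p` and `q` in one block. -/
theorem exists_pair {p q : Pt k m} (h1 : p.1 = q.1) (hne : p ≠ q) :
    ∃ v ∈ V, ∀ r, co M v r = if r = p ∨ r = q then 1 else 0 := by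
  classical
  refine exists_co M (fun r => if r = p ∨ r = q then 1 else 0) fun i => ?_
  have e : ∀ x : Fin (2 ^ m + 1), (if ((i, x) : Pt k m) = p ∨ ((i, x) : Pt k m) = q then (1 : ZMod 2) else 0) =
      (if (i, x) = p then 1 else 0) + (if (i, x) = q then 1 else 0) := by
    intro x
    by_cases ha : ((i, x) : Pt k m) = p
    · have hb : ¬ ((i, x) : Pt k m) = q := fun hb => hne (ha.symm.trans hb)
      simp [ha, hne]
    · by_cases hb : ((i, x) : Pt k m) = q
      · simp [hb, Ne.symm hne]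
      · simp [ha, hb]
  simp only [e, Finset.sum_add_distrib]
  have e2 : ∀ r : Pt k m, ∑ x, (if ((i, x) : Pt k m) = r then (1 : ZMod 2) else 0) = if i = r.1 then 1 else 0 := by
    intro r
    by_cases hi : i = r.1
    · rw [if_pos hi, Finset.sum_eq_single r.2]
      · have h9 : ((i, r.2) : Pt k m) = r := Prod.ext hi rfl
        rw [if_pos h9]
      · intro x _ hx
        rw [if_neg]
        intro h
        exact hx (congrArg Prod.snd h)
      · intro h
        exact absurd (Finset.mem_univ _) h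
    · rw [if_neg hi]
      refine Finset.sum_eq_zero fun x _ => ?_
      rw [if_neg]
      intro h
      exact hi (congrArg Prod.fst h)
  rw [e2, e2, h1, CharTwo.add_self_eq_zero]

end basic

/-! ### The permutation representation -/

theorem three_le {m : ℕ} (hm : 1 ≤ m) : 3 ≤ 2 ^ m + 1 := by
  have : 2 ^ 1 ≤ 2 ^ m := Nat.pow_le_pow_right (by norm_num) hm
  omega

/-- There is a point in the block of `p` different from `p` and from `q`. -/
theorem exists_other (hm : 1 ≤ m) (p q : Pt k m) : ∃ r : Pt k m, r.1 = p.1 ∧ r ≠ p ∧ r ≠ q := by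
  classical
  have h3 := three_le hm
  have hc : ({p.2, q.2} : Finset (Fin (2 ^ m + 1))).card < (Finset.univ : Finset (Fin (2 ^ m + 1))).card := by
    rw [Finset.card_univ, Fintype.card_fin]
    exact lt_of_le_of_lt Finset.card_le_two (by omega)
  obtain ⟨x, -, hx⟩ := Finset.exists_mem_notMem_of_card_lt_card hc
  rw [Finset.mem_insert, Finset.mem_singleton, not_or] at hx
  exact ⟨(p.1, x), rfl, fun h => hx.1 (congrArg Prod.snd h), fun h => hx.2 (congrArg Prod.snd h)⟩

section rep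

variable (M : SymK T H V ⊥ k m)

/-- The coordinates separate the points. -/
theorem point_ext (hm : 1 ≤ m) {p q : Pt k m} (h : ∀ v ∈ V, co M v p = co M v q) : p = q := by
  by_contra hne
  obtain ⟨r, hr1, hr2, hr3⟩ := exists_other hm p q
  obtain ⟨v, hv, hv'⟩ := exists_pair M hr1.symm (Ne.symm hr2)
  have h1 := h v hv
  rw [hv', hv', if_pos (Or.inl rfl), if_neg] at h1
  · exact one_ne_zero h1
  · rintro (h2 | h2)
    · exact hne h2.symm
    · exact hr3 h2.symm

theorem exists_rp {g : G} (hg : g ∈ H) : ∃ π : Equiv.Perm (Pt k m),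
    (∀ v ∈ V, ∀ p, co M (g * v * g⁻¹) (π p) = co M v p) ∧ ∃ σ : Equiv.Perm (Fin k), ∀ p, (π p).1 = σ p.1 := by
  obtain ⟨σ, τ, h⟩ := M.perm g hg
  refine ⟨Equiv.prodShear σ τ, ?_, σ, fun p => rfl⟩
  intro v hv p
  exact h v hv p.1 p.2

open Classical in
/-- The permutation of the points induced by `g`. -/
noncomputable def rp (g : G) : Equiv.Perm (Pt k m) :=
  if hg : g ∈ H then (exists_rp M hg).choose else 1

theorem co_rp {g : G} (hg : g ∈ H) {v : G} (hv : v ∈ V) (p : Pt k m) :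
    co M (g * v * g⁻¹) (rp M g p) = co M v p := by
  rw [rp, dif_pos hg]
  exact (exists_rp M hg).choose_spec.1 v hv p

theorem rp_fst {g : G} (hg : g ∈ H) : ∃ σ : Equiv.Perm (Fin k), ∀ p, (rp M g p).1 = σ p.1 := by
  rw [rp, dif_pos hg]
  exact (exists_rp M hg).choose_spec.2

/-- Points of one block are mapped to points of one block. -/
theorem rp_fst_eq {g : G} (hg : g ∈ H) {p q : Pt k m} : (rp M g p).1 = (rp M g q).1 ↔ p.1 = q.1 := by
  obtain ⟨σ, h⟩ := rp_fst M hg
  rw [h, h, σ.injective.eq_iff]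

theorem rp_eq (hm : 1 ≤ m) (hHV : H ≤ normalizer (V : Set G)) {g : G} (hg : g ∈ H) {π : Equiv.Perm (Pt k m)}
    (h : ∀ v ∈ V, ∀ p, co M (g * v * g⁻¹) (π p) = co M v p) : rp M g = π := by
  ext1 p
  refine point_ext M hm fun v hv => ?_
  have hv' : g⁻¹ * v * g ∈ V := by
    have := (mem_normalizer_iff.1 (hHV (inv_mem hg)) v).1 hv
    rwa [inv_inv] at this
  have e : g * (g⁻¹ * v * g) * g⁻¹ = v := by group
  have h1 := co_rp M hg hv' p
  have h2 := h _ hv' p
  rw [e] at h1 h2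
  rw [h1, h2]

variable (hm : 1 ≤ m) (hA : Amb T H V)
include hm hA

theorem rp_mul {g g' : G} (hg : g ∈ H) (hg' : g' ∈ H) : rp M (g * g') = rp M g * rp M g' := by
  refine rp_eq M hm hA.HV (mul_mem hg hg') fun v hv p => ?_
  have e : g * g' * v * (g * g')⁻¹ = g * (g' * v * g'⁻¹) * g⁻¹ := by group
  rw [e, Equiv.Perm.mul_apply, co_rp M hg (hA.conj_mem hg' hv), co_rp M hg' hv]

theorem rp_one : rp M 1 = 1 := by
  refine rp_eq M hm hA.HV (one_mem H) fun v hv p => ?_
  simp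

theorem rp_inv {g : G} (hg : g ∈ H) : rp M g⁻¹ = (rp M g)⁻¹ := by
  have h := rp_mul M hm hA hg (inv_mem hg)
  rw [mul_inv_cancel, rp_one M hm hA] at h
  exact eq_inv_of_mul_eq_one_right h.symm

theorem rp_pow {g : G} (hg : g ∈ H) (n : ℕ) : rp M (g ^ n) = rp M g ^ n := by
  induction n with
  | zero => rw [pow_zero, pow_zero, rp_one M hm hA]
  | succ n ih => rw [pow_succ, pow_succ, rp_mul M hm hA (pow_mem hg n) hg, ih]

/-- `rp M g = 1` iff `g` centralises `V` -/
theorem rp_eq_one_iff {g : G} (hg : g ∈ H) : rp M g = 1 ↔ ∀ v ∈ V, g * v = v * g := by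
  constructor
  · intro h v hv
    have h1 : g * v * g⁻¹ = v := by
      refine ext_co M (hA.conj_mem hg hv) hv fun p => ?_
      have := co_rp M hg hv p
      rwa [h, Equiv.Perm.one_apply] at this
    rw [mul_inv_eq_iff_eq_mul] at h1
    exact h1
  · intro h
    refine rp_eq M hm hA.HV hg fun v hv p => ?_
    rw [h v hv, mul_inv_cancel_right, Equiv.Perm.one_apply]

/-- Transpositions in a block are induced by `H`. -/
theorem exists_swap {p q : Pt k m} (h1 : p.1 = q.1) : ∃ g ∈ H, rp M g = Equiv.swap p q := by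
  classical
  obtain ⟨g, hg, h, -⟩ := M.lift (Function.update 1 p.1 (Equiv.swap p.2 q.2))
  refine ⟨g, hg, rp_eq M hm hA.HV hg fun v hv r => ?_⟩
  have h2 := h v hv r.1 r.2
  rw [Equiv.Perm.one_apply] at h2
  unfold co
  rw [← h2]
  have h3 : Equiv.swap p q r =
      (r.1, Function.update (1 : Fin k → Equiv.Perm (Fin (2 ^ m + 1))) p.1 (Equiv.swap p.2 q.2) r.1 r.2) := by
    by_cases hr : r.1 = p.1
    · rw [hr, Function.update_self]
      by_cases ha : r.2 = p.2
      · have : r = p := Prod.ext hr ha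
        rw [this, Equiv.swap_apply_left, Equiv.swap_apply_left]
        exact Prod.ext h1.symm rfl
      · by_cases hb : r.2 = q.2
        · have : r = q := Prod.ext (hr.trans h1) hb
          rw [this, Equiv.swap_apply_right, Equiv.swap_apply_right]
        · rw [Equiv.swap_apply_of_ne_of_ne ha hb, Equiv.swap_apply_of_ne_of_ne (fun h => ha (congrArg Prod.snd h))
            fun h => hb (congrArg Prod.snd h), ← hr]
    · rw [Function.update_of_ne hr, Equiv.swap_apply_of_ne_of_ne (fun h => hr (congrArg Prod.fst h))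
        fun h => hr ((congrArg Prod.fst h).trans h1.symm)]
      rfl
  rw [h3]

/-- `T` fixes the points `0`. -/
theorem rp_zero {t : G} (ht : t ∈ T) (i : Fin k) : (rp M t (i, 0)).2 = 0 := by
  obtain ⟨σ, τ, h⟩ := M.perm t (hA.TH ht)
  have h1 : rp M t = Equiv.prodShear σ τ := rp_eq M hm hA.HV (hA.TH ht) fun v hv p => h v hv p.1 p.2
  rw [h1]
  exact M.fix0 t ht σ τ h i

/-- `T` is transitive on the blocks. -/
theorem rp_trans (i j : Fin k) : ∃ t ∈ T, ∀ x, (rp M t (i, x)).1 = j := by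
  obtain ⟨t, ht, σ, τ, h, hij⟩ := M.trans i j
  have h1 : rp M t = Equiv.prodShear σ τ := rp_eq M hm hA.HV (hA.TH ht) fun v hv p => h v hv p.1 p.2
  refine ⟨t, ht, fun x => ?_⟩
  rw [h1]
  exact hij

end rep

end Cfsg.Agent.Omega.NO1.Sym

end

section


/-!
# Sums of even-subset modules: the Sylow 2-subgroup and the fixed points (project OMEGA, N1, `SymAll`)

`H0 M` : the elements of `H` which permute the points `(i, 0)`; `T` is transitive on the other points, so
`Ω₁(Z(T))` consists of `1` and the vector with the coordinates `1` at all points `(i, x)`, `x ≠ 0`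
(`zc_co`), and `H0 M` centralises `Ω₁(Z(T))`.
-/

set_option autoImplicit false

namespace Cfsg.Agent.Omega.NO1.Sym

open Subgroup Cfsg Cfsg.Agent.ZN Cfsg.Agent.Omega.FFThm Cfsg.Agent.Omega.Half
open Cfsg.Agent.MinSimple.VModule (mem_zc zc_le)

universe u

theorem apply_inv {α : Type*} (f : Equiv.Perm α) (x : α) : f (f⁻¹ x) = x := Equiv.apply_symm_apply f x

theorem inv_apply {α : Type*} (f : Equiv.Perm α) (x : α) : f⁻¹ (f x) = x := Equiv.symm_apply_apply f x

/-- A Sylow 2-subgroup is transitive on an orbit of 2-power length. -/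
theorem exists_smul_of_sylow {L : Type*} [Group L] [Finite L] {X : Type*} [MulAction L X] {S : Subgroup L}
    (hS : ¬ 2 ∣ S.index) {x : X} {a : ℕ} (hx : (MulAction.orbit L x).ncard = 2 ^ a) {y : X}
    (hy : y ∈ MulAction.orbit L x) : ∃ s ∈ S, s • x = y := by
  have hfin : (MulAction.orbit L x).Finite := Set.finite_range _
  set A := MulAction.stabilizer L x with hA
  have e1 : (S ⊓ A).relIndex S * S.index = (S ⊓ A).index := relIndex_mul_index inf_le_left
  have e2 : (S ⊓ A).relIndex A * A.index = (S ⊓ A).index := relIndex_mul_index inf_le_right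
  have e3 : A.index = 2 ^ a := by
    rw [← hx, hA, MulAction.index_stabilizer]
  have e4 : (S ⊓ A).relIndex S = (MulAction.orbit S x).ncard := by
    rw [inf_relIndex_left, ← MulAction.index_stabilizer (G := S) (x := x), relIndex]
    rfl
  have hdvd : 2 ^ a ∣ (S ⊓ A).relIndex S := by
    have h3 : 2 ^ a ∣ (S ⊓ A).relIndex S * S.index := by
      rw [e1, ← e2, e3]
      exact dvd_mul_left _ _
    have h4 : (2 ^ a).Coprime S.index :=
      Nat.Coprime.pow_left a ((Nat.Prime.coprime_iff_not_dvd Nat.prime_two).mpr hS)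
    exact h4.dvd_of_dvd_mul_right h3
  have hsub : MulAction.orbit S x ⊆ MulAction.orbit L x := by
    rintro _ ⟨s, rfl⟩
    exact ⟨s, rfl⟩
  have hle : (MulAction.orbit L x).ncard ≤ (MulAction.orbit S x).ncard := by
    rw [hx, ← e4]
    refine Nat.le_of_dvd (Nat.pos_of_ne_zero ?_) hdvd
    exact FiniteIndex.index_ne_zero
  have heq := Set.eq_of_subset_of_ncard_le hsub hle hfin
  rw [← heq] at hy
  obtain ⟨s, rfl⟩ := hy
  exact ⟨s, s.2, rfl⟩

variable {G : Type u} [Group G] {T H V : Subgroup G} {k m : ℕ}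

section defs

variable (M : SymK T H V ⊥ k m) (hm : 1 ≤ m) (hA : Amb T H V)

/-- The elements of `H` permuting the points `(i, 0)`. -/
def H0 : Subgroup G where
  carrier := {g | g ∈ H ∧ ∀ p, (rp M g p).2 = 0 ↔ p.2 = 0}
  mul_mem' := by
    rintro g g' ⟨hg, h1⟩ ⟨hg', h2⟩
    refine ⟨mul_mem hg hg', fun p => ?_⟩
    rw [rp_mul M hm hA hg hg', Equiv.Perm.mul_apply, h1, h2]
  one_mem' := ⟨one_mem H, fun p => by rw [rp_one M hm hA, Equiv.Perm.one_apply]⟩
  inv_mem' := by
    rintro g ⟨hg, h1⟩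
    refine ⟨inv_mem hg, fun p => ?_⟩
    rw [rp_inv M hm hA hg, ← h1, apply_inv]

theorem H0_le : H0 M hm hA ≤ H := fun _ h => h.1

include hm hA

theorem T_le_H0 : T ≤ H0 M hm hA := by
  intro t ht
  refine ⟨hA.TH ht, fun p => ⟨fun h => ?_, fun h => ?_⟩⟩
  · have h1 : p = (rp M t⁻¹) (rp M t p) := by
      rw [rp_inv M hm hA (hA.TH ht), inv_apply]
    have h2 : rp M t p = ((rp M t p).1, 0) := Prod.ext rfl h
    rw [h1, h2]
    exact rp_zero M hm hA (inv_mem ht) _
  · have h2 : p = (p.1, 0) := Prod.ext rfl h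
    rw [h2]
    exact rp_zero M hm hA ht _

theorem exists_swap0 {p q : Pt k m} (h1 : p.1 = q.1) (hp : p.2 ≠ 0) (hq : q.2 ≠ 0) :
    ∃ g ∈ H0 M hm hA, rp M g = Equiv.swap p q := by
  obtain ⟨g, hg, h⟩ := exists_swap M hm hA h1
  refine ⟨g, ⟨hg, fun r => ?_⟩, h⟩
  rw [h]
  by_cases h2 : r = p
  · rw [h2, Equiv.swap_apply_left]
    exact iff_of_false hq hp
  · by_cases h3 : r = q
    · rw [h3, Equiv.swap_apply_right]
      exact iff_of_false hp hq
    · rw [Equiv.swap_apply_of_ne_of_ne h2 h3]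

end defs

section trans

variable (M : SymK T H V ⊥ k m) (hm : 1 ≤ m) (hA : Amb T H V)

/-- The action of a subgroup of `H` on the points. -/
noncomputable def toPerm {K : Subgroup G} (hK : K ≤ H) : K →* Equiv.Perm (Pt k m) :=
  MonoidHom.mk' (fun g => rp M (g : G)) fun g g' => rp_mul M hm hA (hK g.2) (hK g'.2)

include M hm hA

theorem card_block [Finite G] (hT : IsPGroup 2 T) (i : Fin k) : ∃ a, k = 2 ^ a := by
  classical
  have : Fact (Nat.Prime 2) := ⟨Nat.prime_two⟩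
  let act : MulAction T (Pt k m) := MulAction.compHom _ (toPerm M hm hA hA.TH)
  have hact : ∀ (t : T) (p : Pt k m), t • p = rp M (t : G) p := fun t p => rfl
  obtain ⟨a, ha⟩ := hT.card_orbit (i, (0 : Fin (2 ^ m + 1)))
  refine ⟨a, ?_⟩
  rw [← ha]
  have h1 : MulAction.orbit T ((i, 0) : Pt k m) = Set.range fun j : Fin k => ((j, 0) : Pt k m) := by
    ext p
    constructor
    · rintro ⟨t, rfl⟩
      refine ⟨(rp M (t : G) (i, 0)).1, ?_⟩
      exact Prod.ext rfl (rp_zero M hm hA t.2 i).symm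
    · rintro ⟨j, rfl⟩
      obtain ⟨t, ht, h⟩ := rp_trans M hm hA i j
      exact ⟨⟨t, ht⟩, Prod.ext (h 0) (rp_zero M hm hA ht i)⟩
  rw [h1, Nat.card_congr (Equiv.ofInjective _ fun a b h => congrArg Prod.fst h).symm, Nat.card_fin]

/-- `T` is transitive on the points `(i, x)`, `x ≠ 0`. -/
theorem exists_T [Finite G] (hT : IsPGroup 2 T) (hTH : ¬ 2 ∣ T.relIndex H) {p q : Pt k m} (hp : p.2 ≠ 0)
    (hq : q.2 ≠ 0) : ∃ t ∈ T, rp M t p = q := by
  classical
  set K := H0 M hm hA with hK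
  have hTK : T ≤ K := T_le_H0 M hm hA
  let act : MulAction K (Pt k m) := MulAction.compHom _ (toPerm M hm hA (H0_le M hm hA))
  have hact : ∀ (t : K) (r : Pt k m), t • r = rp M (t : G) r := fun t r => rfl
  have horb : MulAction.orbit K p = {r | r.2 ≠ 0} := by
    ext r
    constructor
    · rintro ⟨t, rfl⟩
      intro h0
      exact hp ((t.2.2 p).1 h0)
    · intro hr
      obtain ⟨t, ht, h⟩ := rp_trans M hm hA p.1 r.1
      have h1 : (rp M t p).1 = r.1 := h p.2
      have h2 : (rp M t p).2 ≠ 0 := fun h0 => hp (((hTK ht).2 p).1 h0)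
      obtain ⟨g, hg, h3⟩ := exists_swap0 M hm hA h1 h2 hr
      refine ⟨⟨g * t, mul_mem hg (hTK ht)⟩, ?_⟩
      change rp M (g * t) p = r
      rw [rp_mul M hm hA hg.1 (hA.TH ht), Equiv.Perm.mul_apply, h3, Equiv.swap_apply_left]
  obtain ⟨a, ha⟩ := card_block M hm hA hT p.1
  have hcard : (MulAction.orbit K p).ncard = 2 ^ (a + m) := by
    rw [horb]
    have e1 : {r : Pt k m | r.2 ≠ 0} = ((Finset.univ : Finset (Fin k)) ×ˢ ({0}ᶜ : Finset (Fin (2 ^ m + 1))) :
        Finset (Pt k m)) := by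
      ext r
      simp
    rw [e1, Set.ncard_coe_finset, Finset.card_product, Finset.card_univ, Fintype.card_fin, Finset.card_compl,
      Finset.card_singleton, Fintype.card_fin, pow_add, ← ha]
    rfl
  have hidx : ¬ 2 ∣ (T.subgroupOf K).index := by
    intro h
    apply hTH
    have h1 : T.relIndex K * K.relIndex H = T.relIndex H := relIndex_mul_relIndex _ _ _ hTK (H0_le M hm hA)
    rw [← h1]
    exact dvd_mul_of_dvd_left h _
  obtain ⟨s, hs, h⟩ := exists_smul_of_sylow hidx hcard (y := q) (by rw [horb]; exact hq)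
  exact ⟨s, hs, h⟩

/-- `Ω₁(Z(T))` : the coordinates are constant at the points `(i, x)`, `x ≠ 0`, and zero at the points `(i, 0)`. -/
theorem zc_co [Finite G] (hT : IsPGroup 2 T) (hTH : ¬ 2 ∣ T.relIndex H) {w : G} (hw : w ∈ zc T) :
    (∀ p q : Pt k m, p.2 ≠ 0 → q.2 ≠ 0 → co M w p = co M w q) ∧ ∀ p : Pt k m, p.2 = 0 → co M w p = 0 := by
  classical
  have hwV : w ∈ V := hA.zc hw
  have h1 : ∀ p q : Pt k m, p.2 ≠ 0 → q.2 ≠ 0 → co M w p = co M w q := by
    intro p q hp hq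
    obtain ⟨t, ht, h⟩ := exists_T M hm hA hT hTH hp hq
    have h2 := co_rp M (hA.TH ht) hwV p
    have h3 : t * w * t⁻¹ = w := by
      have := (mem_zc.1 hw).2.1 t ht
      rw [this, mul_inv_cancel_right]
    rw [h3, h] at h2
    exact h2.symm
  refine ⟨h1, fun p hp => ?_⟩
  have h3 := three_le hm
  have h4 := sum_co M hwV p.1
  rw [← Finset.add_sum_erase _ _ (Finset.mem_univ (0 : Fin (2 ^ m + 1)))] at h4
  have h5 : ∑ x ∈ Finset.univ.erase (0 : Fin (2 ^ m + 1)), co M w (p.1, x) = 0 := by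
    have hl : ((p.1, Fin.last (2 ^ m)) : Pt k m).2 ≠ 0 := by
      intro h0
      have := congrArg Fin.val h0
      rw [Fin.val_zero] at this
      have h6 : (Fin.last (2 ^ m) : Fin (2 ^ m + 1)).val = 2 ^ m := Fin.val_last _
      have h7 : (Fin.last (2 ^ m) : Fin (2 ^ m + 1)).val = 0 := this
      omega
    rw [Finset.sum_congr rfl fun x hx => h1 (p.1, x) (p.1, Fin.last (2 ^ m)) (Finset.ne_of_mem_erase hx) hl,
      Finset.sum_const, Finset.card_erase_of_mem (Finset.mem_univ _), Finset.card_univ, Fintype.card_fin]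
    generalize co M w (p.1, Fin.last (2 ^ m)) = c
    have h8 : 2 ^ m + 1 - 1 = 2 * 2 ^ (m - 1) := by
      rw [Nat.add_sub_cancel, ← pow_succ']
      congr 1
      omega
    rw [h8, mul_nsmul, two_nsmul, CharTwo.add_self_eq_zero, nsmul_zero]
  rw [h5, add_zero] at h4
  have h6 : p = (p.1, 0) := Prod.ext rfl hp
  rw [h6]
  exact h4

/-- `H0` centralises `Ω₁(Z(T))`. -/
theorem H0_comm [Finite G] (hT : IsPGroup 2 T) (hTH : ¬ 2 ∣ T.relIndex H) {w g : G} (hw : w ∈ zc T)
    (hg : g ∈ H0 M hm hA) : g * w = w * g := by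
  obtain ⟨h1, h2⟩ := zc_co M hm hA hT hTH hw
  have hwV : w ∈ V := hA.zc hw
  have h3 : g * w * g⁻¹ = w := by
    refine ext_co M (hA.conj_mem hg.1 hwV) hwV fun p => ?_
    obtain ⟨r, rfl⟩ := (rp M g).surjective p
    rw [co_rp M hg.1 hwV]
    by_cases hr : r.2 = 0
    · rw [h2 r hr, h2 _ ((hg.2 r).2 hr)]
    · exact h1 _ _ hr fun h => hr ((hg.2 r).1 h)
  exact mul_inv_eq_iff_eq_mul.1 h3

end trans

end Cfsg.Agent.Omega.NO1.Sym

end

section


/-!
# Sums of even-subset modules: 2-groups normalised by `H0` (project OMEGA, N1, `SymAll`)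

`Q ≤ T` normalised by `H0 M`:
* `fst_eq` : `Q` fixes all blocks;
* `invol`, `no_fix` : `q ∈ Q` is 1 or a fixed point free involution on the points `(i, x)`, `x ≠ 0`, of every block;
* `eq_two` : `m = 2` if `Q` does not centralise `V`.
-/

set_option autoImplicit false

namespace Cfsg.Agent.Omega.NO1.Sym

open Subgroup Cfsg Cfsg.Agent.ZN Cfsg.Agent.Omega.FFThm Cfsg.Agent.Omega.Half

universe u

/-- 2-elements have no order 3. -/
theorem eq_one_of_three {A : Type*} [Group A] {x : A} {N : ℕ} (h2 : x ^ 2 ^ N = 1) (h3 : x ^ 3 = 1) : x = 1 := by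
  have h4 : orderOf x ∣ 2 ^ N := orderOf_dvd_of_pow_eq_one h2
  have h5 : orderOf x ∣ 3 := orderOf_dvd_of_pow_eq_one h3
  have h6 : Nat.Coprime (2 ^ N) 3 := Nat.Coprime.pow_left N (by norm_num)
  exact orderOf_eq_one_iff.1 (Nat.dvd_one.1 (h6 ▸ Nat.dvd_gcd h4 h5))

section perm

variable {α : Type*} [DecidableEq α]

theorem conj_swap (f : Equiv.Perm α) (a b : α) : f * Equiv.swap a b * f⁻¹ = Equiv.swap (f a) (f b) := by
  ext x
  rw [Equiv.Perm.mul_apply, Equiv.Perm.mul_apply]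
  by_cases h1 : x = f a
  · rw [h1, inv_apply, Equiv.swap_apply_left, Equiv.swap_apply_left]
  · by_cases h2 : x = f b
    · rw [h2, inv_apply, Equiv.swap_apply_right, Equiv.swap_apply_right]
    · rw [Equiv.swap_apply_of_ne_of_ne h1 h2, Equiv.swap_apply_of_ne_of_ne, apply_inv]
      · intro h
        exact h1 (by rw [← h, apply_inv])
      · intro h
        exact h2 (by rw [← h, apply_inv])

/-- `(a b)(a c)` has order 3. -/
theorem three [Fintype α] {a b c : α} (hab : a ≠ b) (hac : a ≠ c) (hbc : b ≠ c) {N : ℕ}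
    (h : (Equiv.swap a b * Equiv.swap a c) ^ 2 ^ N = 1) : False := by
  have h3 := (Equiv.Perm.isThreeCycle_swap_mul_swap_same hab hac hbc).orderOf
  have h4 := eq_one_of_three h (by rw [← h3]; exact pow_orderOf_eq_one _)
  rw [h4, orderOf_one] at h3
  norm_num at h3

/-- Two disjoint 3-cycles. -/
theorem three_three [Fintype α] {a b c a' b' c' : α} (hab : a ≠ b) (hac : a ≠ c) (hbc : b ≠ c)
    (hab' : a' ≠ b') (hac' : a' ≠ c') (hbc' : b' ≠ c')
    (hd : ∀ x, (x = a ∨ x = b ∨ x = c) → ¬ (x = a' ∨ x = b' ∨ x = c')) {N : ℕ}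
    (h : ((Equiv.swap a' b' * Equiv.swap a' c') * (Equiv.swap a b * Equiv.swap a c)⁻¹) ^ 2 ^ N = 1) : False := by
  set f := Equiv.swap a b * Equiv.swap a c with hf
  set f' := Equiv.swap a' b' * Equiv.swap a' c' with hf'
  have f3 : f ^ 3 = 1 := by
    have := (Equiv.Perm.isThreeCycle_swap_mul_swap_same hab hac hbc).orderOf
    rw [← this]
    exact pow_orderOf_eq_one _
  have f3' : f' ^ 3 = 1 := by
    have := (Equiv.Perm.isThreeCycle_swap_mul_swap_same hab' hac' hbc').orderOf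
    rw [← this]
    exact pow_orderOf_eq_one _
  have fix : ∀ x, ¬ (x = a ∨ x = b ∨ x = c) → f x = x := by
    intro x hx
    push Not at hx
    rw [hf, Equiv.Perm.mul_apply, Equiv.swap_apply_of_ne_of_ne hx.1 hx.2.2, Equiv.swap_apply_of_ne_of_ne hx.1 hx.2.1]
  have fix' : ∀ x, ¬ (x = a' ∨ x = b' ∨ x = c') → f' x = x := by
    intro x hx
    push Not at hx
    rw [hf', Equiv.Perm.mul_apply, Equiv.swap_apply_of_ne_of_ne hx.1 hx.2.2, Equiv.swap_apply_of_ne_of_ne hx.1 hx.2.1]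
  have hdis : Equiv.Perm.Disjoint f' f := by
    intro x
    by_cases hx : x = a ∨ x = b ∨ x = c
    · exact Or.inl (fix' x (hd x hx))
    · exact Or.inr (fix x hx)
  have hcomm : Commute f' f⁻¹ := hdis.commute.inv_right
  have h3 : (f' * f⁻¹) ^ 3 = 1 := by
    rw [hcomm.mul_pow, f3', inv_pow, f3, inv_one, one_mul]
  have h4 : f' * f⁻¹ = 1 := eq_one_of_three h h3
  have h5 : f' = f := mul_inv_eq_one.1 h4
  have h6 : f a = a := by
    rw [← h5]
    exact fix' a (hd a (Or.inl rfl))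
  have h7 : f a = c := by
    rw [hf, Equiv.Perm.mul_apply, Equiv.swap_apply_left, Equiv.swap_apply_of_ne_of_ne (Ne.symm hac) (Ne.symm hbc)]
  exact hac (h6.symm.trans h7)

end perm

variable {G : Type u} [Group G] {T H V : Subgroup G} {k m : ℕ}

/-- The hypotheses on `Q`. -/
structure QSit (M : SymK T H V ⊥ k m) (hm : 2 ≤ m) (hA : Amb T H V) (Q : Subgroup G) : Prop where
  le : Q ≤ T
  two : IsPGroup 2 T
  norm : ∀ g ∈ H0 M (by omega) hA, ∀ q ∈ Q, g * q * g⁻¹ ∈ Q

variable {M : SymK T H V ⊥ k m} {hm : 2 ≤ m} {hA : Amb T H V} {Q : Subgroup G}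

theorem five_le {m : ℕ} (hm : 2 ≤ m) : 5 ≤ 2 ^ m + 1 := by
  have : 2 ^ 2 ≤ 2 ^ m := Nat.pow_le_pow_right (by norm_num) hm
  omega

namespace QSit

variable (h : QSit M hm hA Q)
include h

theorem Q_le_H : Q ≤ H := h.le.trans hA.TH

theorem Q_le_H0 : Q ≤ H0 M (by omega) hA := h.le.trans (T_le_H0 M (by omega) hA)

/-- The commutator with an element of `H0` has 2-power order. -/
theorem comm_pow {q g : G} (hq : q ∈ Q) (hg : g ∈ H0 M (by omega) hA) :
    ∃ N : ℕ, (rp M q * rp M g * (rp M q)⁻¹ * (rp M g)⁻¹) ^ 2 ^ N = 1 := by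
  have hm1 : 1 ≤ m := by omega
  have h1 : q * g * q⁻¹ * g⁻¹ ∈ Q := by
    have e : q * g * q⁻¹ * g⁻¹ = q * (g * q⁻¹ * g⁻¹) := by group
    rw [e]
    exact mul_mem hq (h.norm g hg _ (inv_mem hq))
  obtain ⟨N, hN⟩ := (h.two.to_le h.le) ⟨_, h1⟩
  refine ⟨N, ?_⟩
  have h2 : (q * g * q⁻¹ * g⁻¹) ^ 2 ^ N = 1 := congrArg Subtype.val hN
  have hqH := h.Q_le_H hq
  have hgH := hg.1
  rw [← rp_inv M hm1 hA hqH, ← rp_inv M hm1 hA hgH, ← rp_mul M hm1 hA hqH hgH,
    ← rp_mul M hm1 hA (mul_mem hqH hgH) (inv_mem hqH),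
    ← rp_mul M hm1 hA (mul_mem (mul_mem hqH hgH) (inv_mem hqH)) (inv_mem hgH),
    ← rp_pow M hm1 hA (h.Q_le_H h1), h2, rp_one M hm1 hA]

theorem snd_ne {q : G} (hq : q ∈ Q) {p : Pt k m} (hp : p.2 ≠ 0) : (rp M q p).2 ≠ 0 :=
  fun h0 => hp (((h.Q_le_H0 hq).2 p).1 h0)

/-- `Q` fixes the blocks. -/
theorem fst_eq {q : G} (hq : q ∈ Q) (p : Pt k m) : (rp M q p).1 = p.1 := by
  have hm1 : 1 ≤ m := by omega
  have h5 := five_le hm
  by_contra hne
  have hn1 : ((1 : Fin (2 ^ m + 1)) : ℕ) = 1 := by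
    rw [Fin.val_one', Nat.mod_eq_of_lt (by omega)]
  let x1 : Fin (2 ^ m + 1) := ⟨1, by omega⟩
  let x2 : Fin (2 ^ m + 1) := ⟨2, by omega⟩
  let x3 : Fin (2 ^ m + 1) := ⟨3, by omega⟩
  have z1 : x1 ≠ 0 := fun h => by have := congrArg Fin.val h; simp [x1] at this
  have z2 : x2 ≠ 0 := fun h => by have := congrArg Fin.val h; simp [x2] at this
  have z3 : x3 ≠ 0 := fun h => by have := congrArg Fin.val h; simp [x3] at this
  have h12 : x1 ≠ x2 := fun h => by have := congrArg Fin.val h; simp [x1, x2] at this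
  have h13 : x1 ≠ x3 := fun h => by have := congrArg Fin.val h; simp [x1, x3] at this
  have h23 : x2 ≠ x3 := fun h => by have := congrArg Fin.val h; simp [x2, x3] at this
  let a : Pt k m := (p.1, x1)
  let b : Pt k m := (p.1, x2)
  let c : Pt k m := (p.1, x3)
  obtain ⟨g1, hg1, e1⟩ := exists_swap0 M hm1 hA (p := a) (q := b) rfl z1 z2
  obtain ⟨g2, hg2, e2⟩ := exists_swap0 M hm1 hA (p := a) (q := c) rfl z1 z3
  obtain ⟨N, hN⟩ := h.comm_pow hq (mul_mem hg1 hg2)
  rw [rp_mul M hm1 hA hg1.1 hg2.1, e1, e2] at hN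
  have e3 : rp M q * (Equiv.swap a b * Equiv.swap a c) * (rp M q)⁻¹ =
      Equiv.swap (rp M q a) (rp M q b) * Equiv.swap (rp M q a) (rp M q c) := by
    rw [← conj_swap, ← conj_swap]
    group
  rw [e3] at hN
  have hab : a ≠ b := fun h => h12 (congrArg Prod.snd h)
  have hac : a ≠ c := fun h => h13 (congrArg Prod.snd h)
  have hbc : b ≠ c := fun h => h23 (congrArg Prod.snd h)
  have inj := (rp M q).injective
  refine three_three hab hac hbc (fun h => hab (inj h)) (fun h => hac (inj h)) (fun h => hbc (inj h)) ?_ hN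
  have hqH := h.Q_le_H hq
  have key : ∀ y, (rp M q (p.1, y)).1 ≠ p.1 := by
    intro y hy
    apply hne
    rw [← hy]
    exact (rp_fst_eq M hqH).2 rfl
  rintro x hx hx'
  have hx1 : x.1 = p.1 := by
    rcases hx with rfl | rfl | rfl <;> rfl
  rcases hx' with rfl | rfl | rfl <;> exact key _ hx1

/-- `q ∈ Q` is an involution on the points. -/
theorem invol {q : G} (hq : q ∈ Q) {p : Pt k m} (hp : p.2 ≠ 0) : rp M q (rp M q p) = p := by
  have hm1 : 1 ≤ m := by omega
  by_contra hne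
  have h1 : rp M q p ≠ p := fun h1 => hne (by rw [h1, h1])
  obtain ⟨g, hg, e⟩ := exists_swap0 M hm1 hA (p := p) (q := rp M q p) (h.fst_eq hq p).symm hp (h.snd_ne hq hp)
  obtain ⟨N, hN⟩ := h.comm_pow hq hg
  rw [e, conj_swap, Equiv.swap_inv, Equiv.swap_comm p] at hN
  exact three (fun h2 => h1 ((rp M q).injective h2.symm)) h1 hne hN

/-- `q ∈ Q`, `q ≠ 1` on the block `i`, has only the fixed point `(i, 0)` in this block. -/
theorem no_fix {q : G} (hq : q ∈ Q) {p r : Pt k m} (hp : p.2 ≠ 0) (h1 : rp M q p ≠ p) (hr : r.2 ≠ 0)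
    (hrp : r.1 = p.1) : rp M q r ≠ r := by
  have hm1 : 1 ≤ m := by omega
  intro h2
  obtain ⟨g, hg, e⟩ := exists_swap0 M hm1 hA (p := r) (q := p) hrp hr hp
  obtain ⟨N, hN⟩ := h.comm_pow hq hg
  rw [e, conj_swap, Equiv.swap_inv, h2] at hN
  have h3 : r ≠ p := fun h3 => h1 (h3 ▸ h2)
  refine three (fun h4 => h3 ?_) h3 h1 hN
  rw [← h2] at h4
  exact (rp M q).injective h4

/-- The points `(i, 0)` are fixed. -/
theorem fix_zero {q : G} (hq : q ∈ Q) {p : Pt k m} (hp : p.2 = 0) : rp M q p = p :=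
  Prod.ext (h.fst_eq hq p) ((((h.Q_le_H0 hq).2 p).2 hp).trans hp.symm)

/-- If `Q` does not centralise `V`, then `m = 2`. -/
theorem eq_two {q : G} (hq : q ∈ Q) {p : Pt k m} (h1 : rp M q p ≠ p) : m = 2 := by
  classical
  have hm1 : 1 ≤ m := by omega
  have hp : p.2 ≠ 0 := fun h0 => h1 (h.fix_zero hq h0)
  by_contra hm2
  have h9 : 2 ^ 3 ≤ 2 ^ m := Nat.pow_le_pow_right (by norm_num) (by omega)
  have pick : ∀ s : Finset (Fin (2 ^ m + 1)), s.card ≤ 5 → ∃ x, x ∉ s := by
    intro s hs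
    have hc : s.card < (Finset.univ : Finset (Fin (2 ^ m + 1))).card := by
      rw [Finset.card_univ, Fintype.card_fin]
      omega
    obtain ⟨x, -, hx⟩ := Finset.exists_mem_notMem_of_card_lt_card hc
    exact ⟨x, hx⟩
  set b := rp M q p with hb
  have hb1 : b.1 = p.1 := h.fst_eq hq p
  obtain ⟨x, hx⟩ := pick {0, p.2, b.2} (Finset.card_le_three.trans (by norm_num))
  simp only [Finset.mem_insert, Finset.mem_singleton, not_or] at hx
  obtain ⟨hx0, hxp, hxb⟩ := hx
  set X : Pt k m := (p.1, x) with hX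
  set Y := rp M q X with hY
  have hY1 : Y.1 = p.1 := h.fst_eq hq X
  obtain ⟨y, hy⟩ := pick {0, p.2, b.2, x, Y.2} (by
    refine (Finset.card_insert_le _ _).trans ?_
    have := Finset.card_le_four (a := p.2) (b := b.2) (c := x) (d := Y.2)
    omega)
  simp only [Finset.mem_insert, Finset.mem_singleton, not_or] at hy
  obtain ⟨hy0, hyp, hyb, hyx, hyY⟩ := hy
  set U : Pt k m := (p.1, y) with hU
  obtain ⟨g1, hg1, e1⟩ := exists_swap0 M hm1 hA (p := p) (q := X) rfl hp hx0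
  obtain ⟨g2, hg2, e2⟩ := exists_swap0 M hm1 hA (p := p) (q := U) rfl hp hy0
  obtain ⟨N, hN⟩ := h.comm_pow hq (mul_mem hg1 hg2)
  rw [rp_mul M hm1 hA hg1.1 hg2.1, e1, e2] at hN
  have e3 : rp M q * (Equiv.swap p X * Equiv.swap p U) * (rp M q)⁻¹ =
      Equiv.swap (rp M q p) (rp M q X) * Equiv.swap (rp M q p) (rp M q U) := by
    rw [← conj_swap, ← conj_swap]
    group
  rw [e3] at hN
  have hpX : p ≠ X := fun h => hxp (congrArg Prod.snd h).symm
  have hpU : p ≠ U := fun h => hyp (congrArg Prod.snd h).symm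
  have hXU : X ≠ U := fun h => hyx (congrArg Prod.snd h).symm
  have inj := (rp M q).injective
  have hbX : b ≠ X := fun h => hxb (congrArg Prod.snd h).symm
  have hbU : b ≠ U := fun h => hyb (congrArg Prod.snd h).symm
  have hYU : Y ≠ U := fun h => hyY (congrArg Prod.snd h).symm
  have ip : rp M q b = p := h.invol hq hp
  have iX : rp M q Y = X := h.invol hq hx0
  have iU : rp M q (rp M q U) = U := h.invol hq hy0
  have hYX : Y ≠ X := h.no_fix hq hp h1 hx0 rfl
  have hVU : rp M q U ≠ U := h.no_fix hq hp h1 hy0 rfl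
  refine three_three hpX hpU hXU (fun h => hpX (inj h)) (fun h => hpU (inj h)) (fun h => hXU (inj h)) ?_ hN
  rintro z (rfl | rfl | rfl) hz
  · rcases hz with hz | hz | hz
    · exact h1 hz.symm
    · exact hbX ((congrArg (rp M q) hz).trans iX)
    · exact hbU ((congrArg (rp M q) hz).trans iU)
  · rcases hz with hz | hz | hz
    · exact hbX hz.symm
    · exact hYX hz.symm
    · exact hYU ((congrArg (rp M q) hz).trans iU)
  · rcases hz with hz | hz | hz
    · exact hbU hz.symm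
    · exact hYU hz.symm
    · exact hVU hz.symm

end QSit

end Cfsg.Agent.Omega.NO1.Sym

end

section


/-!
# A subgroup of index 2 containing `O₂(C_G(Ω₁(Z(S))))` (project OMEGA, N1, `SymAll`, text helper457 #14697 (5))

`|S : So| = 2`, `O₂(C_G(Ω₁(Z(S)))) ≤ So`, `w` an involution of `Z(So)`: then `O₂(C_G(w)) ≤ So`.
-/

set_option autoImplicit false

namespace Cfsg.Agent.Omega.NO1.Sym.HalfQ

open Subgroup Cfsg Cfsg.Agent.ZN Cfsg.Agent.ZN.ChoiceSit Cfsg.Agent.Omega.MinPar Cfsg.Agent.Omega.Half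
open Cfsg.Agent.ZN.ChoiceBase hiding mem_zc
open Cfsg.Agent.MinSimple.VModule (mem_zc)

universe u

variable {G : Type u} [Group G]

/-- A subgroup of index 2 is normal. -/
theorem le_normalizer_of_two [Finite G] {A B : Subgroup G} (hAB : A ≤ B) (h : Nat.card B = 2 * Nat.card A) :
    B ≤ normalizer (A : Set G) := by
  have h1 := card_mul_relIndex hAB
  have h2 : A.relIndex B = 2 := by
    rw [h, mul_comm] at h1
    exact Nat.eq_of_mul_eq_mul_right Nat.card_pos h1
  exact (normal_subgroupOf_iff_le_normalizer hAB).1 (normal_of_index_eq_two h2)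

theorem o2_le_of_index_two [Finite G] (S : Sylow 2 G) {So : Subgroup G} (hSo : So ≤ S)
    (hidx : Nat.card (S : Subgroup G) = 2 * Nat.card So)
    (hQ : o2 (centralizer (zc (S : Subgroup G) : Set G)) ≤ So) {w : G} (hw : w ∈ So) (hw2 : w ^ 2 = 1) (_hw1 : w ≠ 1)
    (hc : ∀ s ∈ So, s * w = w * s) : o2 (centralizer ({w} : Set G)) ≤ So := by
  have hp : Fact (Nat.Prime 2) := ⟨Nat.prime_two⟩
  have hSo2 : IsPGroup 2 So := S.isPGroup'.to_le hSo
  have hSoC : So ≤ centralizer ({w} : Set G) := fun s hs => by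
    rw [mem_centralizer_iff]
    intro y hy
    rw [Set.mem_singleton_iff.1 hy]
    exact (hc s hs).symm
  obtain ⟨T, hST, hTC, hT2, hTs⟩ := exists_sylow_le hSo2 hSoC
  have hO : o2 (centralizer ({w} : Set G)) ≤ T := MinSimple.VModule.o2_le_of_sylow hT2 hTs
  by_cases hne : T ≤ So
  · exact hO.trans hne
  · -- `T` is a Sylow 2-subgroup of `G`
    have h1 : So.relIndex T ≠ 1 := fun h => hne (relIndex_eq_one.1 h)
    have h2 := card_mul_relIndex hST
    have h3 := card_le_sylow S hT2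
    have h4 : Nat.card T = Nat.card (S : Subgroup G) := by
      have h5 : So.relIndex T ≠ 0 := fun h => by
        rw [h, mul_zero] at h2
        exact Nat.card_pos.ne h2
      have h6 : 2 ≤ So.relIndex T := by omega
      have h7 : Nat.card So * 2 ≤ Nat.card T := by
        rw [← h2]
        exact Nat.mul_le_mul_left _ h6
      omega
    have hTn := le_normalizer_of_two hST (h4.trans hidx)
    have hSn := le_normalizer_of_two hSo hidx
    obtain ⟨R, hR⟩ := hT2.exists_le_sylow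
    have hRT : (R : Subgroup G) = T := by
      refine (eq_of_le_of_card_ge hR ?_).symm
      rw [R.card_eq_multiplicity, ← S.card_eq_multiplicity, h4]
    obtain ⟨a, ha, hae⟩ := syl_conj (CaseTwo.syl_of_sylow S hSn)
      (CaseTwo.syl_of_sylow R (hRT ▸ hTn))
    rw [hRT] at hae
    have hw' : w ∈ cj a (zc (S : Subgroup G)) := by
      have h5 : zc (cj a (S : Subgroup G)) = cj a (zc (S : Subgroup G)) :=
        zc_map (MulAut.conj a).toMonoidHom (MulAut.conj a).injective _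
      rw [← h5, hae, mem_zc]
      exact ⟨hST hw, fun b hb => ((mem_centralizer_iff.1 (hTC hb)) w rfl).symm, hw2⟩
    have h6 : centralizer ((cj a (zc (S : Subgroup G)) : Subgroup G) : Set G) ≤ centralizer ({w} : Set G) := by
      refine centralizer_le ?_
      rw [Set.singleton_subset_iff]
      exact hw'
    have h7 : T ≤ centralizer ((cj a (zc (S : Subgroup G)) : Subgroup G) : Set G) := by
      rw [← cj_centralizer, ← hae]
      exact cj_mono a (MinSimple.VModule.le_centralizer_zc _)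
    have h8 : o2 (centralizer ({w} : Set G)) ≤ o2 (centralizer ((cj a (zc (S : Subgroup G)) : Subgroup G) : Set G)) :=
      o2_le_o2 R (hRT ▸ h7) h6
    refine h8.trans ?_
    rw [← cj_centralizer, o2_cj]
    have h9 := cj_mono a hQ
    rwa [cj_eq_of_mem_normalizer ha] at h9

end Cfsg.Agent.Omega.NO1.Sym.HalfQ

end

section


/-!
# Natural modules `M : NatK F T H V ⊥ k`: `H` acts semilinearly on the summands (project OMEGA, helper675)

* `em M i x` : the element of `V` with coordinate `x` at `i` and `0` elsewhere;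
* `exists_semi` : `g ∈ H` permutes the summands by `σ`; for every `i` there is `τ : F ≃+* F` such that
  `e (g v g⁻¹) (σ i) = φ (e v i)` with `φ` additive and `φ (c x) = τ c • φ x`;
* `mem_of_em` : a subgroup of `V` which contains all components of `v` contains `v`.
-/

set_option autoImplicit false
set_option linter.unusedSectionVars false

namespace Cfsg.Agent.Omega.NO1.NSix

open Subgroup Cfsg Cfsg.Agent.ZN Cfsg.Agent.Omega.FFThm Cfsg.Agent.Omega.Half
open Cfsg.Agent.Omega.Half.NatA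
open Cfsg.Agent.Omega.NatPair (ap ap_one ap_add exists_ringEquiv)

universe u

variable {G : Type u} [Group G] {F : Type} [Field F] {T H V : Subgroup G} {k : ℕ}

section emb

variable (M : NatK F T H V ⊥ k)

/-- the element of `V` with coordinate `x` at `i` and `0` elsewhere -/
noncomputable def em (i : Fin k) (x : Fin 2 → F) : G := (M.surj (Function.update (0 : Fin k → Fin 2 → F) i x)).choose

theorem em_mem (i : Fin k) (x : Fin 2 → F) : em M i x ∈ V := (M.surj (Function.update (0 : Fin k → Fin 2 → F) i x)).choose_spec.1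

theorem e_em (i : Fin k) (x : Fin 2 → F) : M.e (em M i x) = Function.update (0 : Fin k → Fin 2 → F) i x :=
  (M.surj (Function.update (0 : Fin k → Fin 2 → F) i x)).choose_spec.2

theorem e_em_self (i : Fin k) (x : Fin 2 → F) : M.e (em M i x) i = x := by
  rw [e_em, Function.update_self]

theorem e_em_ne {i j : Fin k} (hj : j ≠ i) (x : Fin 2 → F) : M.e (em M i x) j = 0 := by
  rw [e_em, Function.update_of_ne hj, Pi.zero_apply]

theorem em_fac (i : Fin k) (x : Fin 2 → F) : em M i x ∈ fac M {i} :=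
  ⟨em_mem M i x, fun _ hj => e_em_ne M hj x⟩

theorem em_eq {i : Fin k} {v : G} (hv : v ∈ V) (h : ∀ j, j ≠ i → M.e v j = 0) : em M i (M.e v i) = v := by
  apply inj M (em_mem M i _) hv
  funext j
  by_cases hj : j = i
  · rw [hj, e_em_self]
  · rw [e_em_ne M hj, h j hj]

theorem em_add (i : Fin k) (x y : Fin 2 → F) : em M i (x + y) = em M i x * em M i y := by
  apply inj M (em_mem M i _) (mul_mem (em_mem M i x) (em_mem M i y))
  rw [M.mul _ (em_mem M i x) _ (em_mem M i y)]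
  funext j
  rw [Pi.add_apply]
  by_cases hj : j = i
  · rw [hj, e_em_self, e_em_self, e_em_self]
  · rw [e_em_ne M hj, e_em_ne M hj, e_em_ne M hj, add_zero]

theorem em_zero (i : Fin k) : em M i 0 = 1 := by
  apply eq_one M (em_mem M i 0)
  funext j
  by_cases hj : j = i
  · rw [hj, e_em_self]; rfl
  · rw [e_em_ne M hj]; rfl

/-- A subgroup which contains all components of `v` contains `v`. -/
theorem mem_of_em {D : Subgroup G} {v : G} (hv : v ∈ V) (h : ∀ j, em M j (M.e v j) ∈ D) : v ∈ D := by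
  classical
  have key : ∀ s : Finset (Fin k), ∀ v ∈ V, (∀ j, j ∉ s → M.e v j = 0) → (∀ j, em M j (M.e v j) ∈ D) → v ∈ D := by
    intro s
    induction s using Finset.induction_on with
    | empty =>
      intro v hv h0 _
      have : v = 1 := eq_one M hv (funext fun j => h0 j (Finset.notMem_empty j))
      rw [this]
      exact one_mem D
    | insert a s has ih =>
      intro v hv h0 h1
      have ha := em_mem M a (M.e v a)
      have hc : ∀ j, M.e (v * (em M a (M.e v a))⁻¹) j = M.e v j - M.e (em M a (M.e v a)) j := fun j => by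
        rw [M.mul v hv _ (inv_mem ha), e_inv M ha, Pi.add_apply, Pi.neg_apply, sub_eq_add_neg]
      have hca : M.e (v * (em M a (M.e v a))⁻¹) a = 0 := by rw [hc, e_em_self, sub_self]
      have hcj : ∀ j, j ≠ a → M.e (v * (em M a (M.e v a))⁻¹) j = M.e v j := fun j hj => by
        rw [hc, e_em_ne M hj, sub_zero]
      have h2 : v * (em M a (M.e v a))⁻¹ ∈ D := by
        refine ih _ (mul_mem hv (inv_mem ha)) (fun j hj => ?_) fun j => ?_
        · by_cases hja : j = a
          · rw [hja]; exact hca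
          · rw [hcj j hja]
            exact h0 j fun h' => (Finset.mem_insert.1 h').elim hja hj
        · by_cases hja : j = a
          · rw [hja, hca, em_zero]; exact one_mem D
          · rw [hcj j hja]; exact h1 j
      have h3 : v = v * (em M a (M.e v a))⁻¹ * em M a (M.e v a) := by group
      rw [h3]
      exact mul_mem h2 (h1 a)
  exact key Finset.univ v hv (fun j hj => absurd (Finset.mem_univ j) hj) h

end emb

section semi

variable {M : NatK F T H V ⊥ k} (hA : Amb T H V)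
include hA

/-- `g` as a map from the `i`-th summand to the `j`-th -/
noncomputable def ph (M : NatK F T H V ⊥ k) (g : G) (i j : Fin k) (x : Fin 2 → F) : Fin 2 → F :=
  M.e (g * em M i x * g⁻¹) j

/-- the coordinate of `g v g⁻¹` -/
theorem e_conj {g : G} {σ : Equiv.Perm (Fin k)} (hg : g ∈ H) (hσ : Mv M g σ) {v : G} (hv : v ∈ V) (i : Fin k) :
    M.e (g * v * g⁻¹) (σ i) = ph M g i (σ i) (M.e v i) := by
  have he := em_mem M i (M.e v i)
  have h1 : M.e (v * (em M i (M.e v i))⁻¹) i = 0 := by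
    rw [M.mul v hv _ (inv_mem he), e_inv M he, Pi.add_apply, Pi.neg_apply, e_em_self, add_neg_cancel]
  have h2 := (hσ _ (mul_mem hv (inv_mem he)) i).2 h1
  have e1 : g * (v * (em M i (M.e v i))⁻¹) * g⁻¹ = g * v * g⁻¹ * (g * em M i (M.e v i) * g⁻¹)⁻¹ := by group
  have h3 := hA.conj_mem hg hv
  have h4 := hA.conj_mem hg he
  rw [e1, M.mul _ h3 _ (inv_mem h4), e_inv M h4, Pi.add_apply, Pi.neg_apply, add_neg_eq_zero] at h2
  exact h2

theorem ph_add {g : G} (hg : g ∈ H) (i j : Fin k) (x y : Fin 2 → F) :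
    ph M g i j (x + y) = ph M g i j x + ph M g i j y := by
  have e1 : g * em M i (x + y) * g⁻¹ = g * em M i x * g⁻¹ * (g * em M i y * g⁻¹) := by
    rw [em_add]; group
  rw [ph, e1, M.mul _ (hA.conj_mem hg (em_mem M i x)) _ (hA.conj_mem hg (em_mem M i y))]
  rfl

theorem ph_inv {g : G} {σ : Equiv.Perm (Fin k)} (hg : g ∈ H) (hσ : Mv M g σ) (i : Fin k) (x : Fin 2 → F) :
    ph M g⁻¹ (σ i) i (ph M g i (σ i) x) = x := by
  have h1 := e_conj hA (inv_mem hg) (hσ.inv M hA hg) (hA.conj_mem hg (em_mem M i x)) (σ i)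
  rw [σ.symm_apply_apply] at h1
  have e1 : g⁻¹ * (g * em M i x * g⁻¹) * g⁻¹⁻¹ = em M i x := by group
  rw [e1, e_em_self] at h1
  exact h1.symm

theorem ph_inv' {g : G} {σ : Equiv.Perm (Fin k)} (hg : g ∈ H) (hσ : Mv M g σ) (i : Fin k) (x : Fin 2 → F) :
    ph M g i (σ i) (ph M g⁻¹ (σ i) i x) = x := by
  have h1 := ph_inv hA (inv_mem hg) (hσ.inv M hA hg) (σ i) x
  rw [σ.symm_apply_apply, inv_inv] at h1
  exact h1

/-- **`H` acts semilinearly.** -/
theorem exists_semi [Finite F] {g : G} {σ : Equiv.Perm (Fin k)} (hg : g ∈ H) (hσ : Mv M g σ) (i : Fin k) :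
    ∃ τ : F ≃+* F, ∀ (c : F) x, ph M g i (σ i) (c • x) = τ c • ph M g i (σ i) x := by
  classical
  obtain ⟨σ', hσ'⟩ := NatPair.exists_semi (ph M g i (σ i)) (ph M g⁻¹ (σ i) i) (ph_add hA hg i (σ i))
    (ph_inv hA hg hσ i) (ph_inv' hA hg hσ i) (by
      intro A
      obtain ⟨h0, hh0, hA0, -⟩ := M.lift (Function.update 1 (σ i) A)
      obtain ⟨B, hB⟩ := M.norm g⁻¹ (inv_mem hg) h0 hh0 _ hA0
      refine ⟨B i, fun x => ?_⟩
      have h1 := hB _ (em_mem M i x) i
      rw [e_em_self] at h1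
      rw [← h1]
      have hx := em_mem M i x
      have h2 := hA.conj_mem hg hx
      have h3 := hA.conj_mem hh0 h2
      have e1 : g⁻¹ * h0 * g⁻¹⁻¹ * em M i x * (g⁻¹ * h0 * g⁻¹⁻¹)⁻¹ =
          g⁻¹ * (h0 * (g * em M i x * g⁻¹) * h0⁻¹) * g⁻¹⁻¹ := by group
      have h4 := e_conj hA (inv_mem hg) (hσ.inv M hA hg) h3 (σ i)
      rw [σ.symm_apply_apply, hA0 _ h2 (σ i), Function.update_self] at h4
      rw [e1, h4]
      rfl)
  exact exists_ringEquiv _ _ (ph_add hA hg i (σ i)) (ph_inv hA hg hσ i) σ' hσ'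

end semi

end Cfsg.Agent.Omega.NO1.NSix

end

section


/-!
# A halving which respects a block (text #15037 (N5), end)

`M : NatK F S P V ⊥ k`, `D` a block of `S` on the summands, `i ∈ D ≠ univ`: there is a halving `B ⊇ D`.
-/

set_option autoImplicit false
set_option linter.unusedSectionVars false

namespace Cfsg.Agent.Omega.NO1.NatWr

open Subgroup Cfsg Cfsg.Agent.ZN Cfsg.Agent.Omega.FFThm
open Cfsg.Agent.Omega.Half Cfsg.Agent.Omega.Half.NatA

universe u

variable {G : Type u} [Group G] {F : Type} [Field F] {T H V : Subgroup G} {k : ℕ}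

theorem mv_mul {M : NatK F T H V ⊥ k} (hA : Amb T H V) {g g' : G} {σ ρ : Equiv.Perm (Fin k)}
    (hg' : g' ∈ H) (h1 : Mv M g σ) (h2 : Mv M g' ρ) : Mv M (g * g') (σ * ρ) := by
  intro v hv i
  have e1 : g * g' * v * (g * g')⁻¹ = g * (g' * v * g'⁻¹) * g⁻¹ := by group
  rw [e1, Equiv.Perm.mul_apply, h1 _ (hA.conj_mem hg' hv), h2 v hv]

theorem mv_one {M : NatK F T H V ⊥ k} : Mv M 1 1 := by
  intro v _ i
  rw [one_mul, inv_one, mul_one]
  rfl

theorem mv_unique {M : NatK F T H V ⊥ k} (hA : Amb T H V) {g : G} {σ ρ : Equiv.Perm (Fin k)}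
    (hg : g ∈ H) (h1 : Mv M g σ) (h2 : Mv M g ρ) : σ = ρ := by
  ext1 i
  exact h1.unique M hA hg fun v hv => h2 v hv i

theorem exists_blk_of [Finite G] (M : NatK F T H V ⊥ k) (hA : Amb T H V) (hT : IsPGroup 2 T) {D : Set (Fin k)}
    {i : Fin k} (hi : i ∈ D) (hne : D ≠ Set.univ)
    (hD : ∀ t ∈ T, ∀ σ, Mv M t σ → (σ '' D ∩ D).Nonempty → σ '' D = D) :
    ∃ B : Set (Fin k), Blk M B ∧ D ⊆ B := by
  -- the stabiliser of `D`
  let A : Subgroup G :=
    { carrier := {t | t ∈ T ∧ ∃ π, Mv M t π ∧ π '' D = D}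
      mul_mem' := by
        rintro s t ⟨hs, π, h1, h2⟩ ⟨ht, ρ, h3, h4⟩
        exact ⟨mul_mem hs ht, π * ρ, mv_mul hA (hA.TH ht) h1 h3, by
          rw [Equiv.Perm.coe_mul, Set.image_comp, h4, h2]⟩
      one_mem' := ⟨one_mem T, 1, mv_one, by rw [Equiv.Perm.coe_one, Set.image_id]⟩
      inv_mem' := by
        rintro t ⟨ht, π, h1, h2⟩
        refine ⟨inv_mem ht, π.symm, h1.inv M hA (hA.TH ht), ?_⟩
        conv_lhs => rw [← h2]
        rw [← Set.image_comp]
        simp }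
  have hAm : ∀ t, t ∈ A ↔ t ∈ T ∧ ∃ π, Mv M t π ∧ π '' D = D := fun t => Iff.rfl
  have hAT : A ≤ T := fun t ht => ht.1
  have hTA : ¬ T ≤ A := by
    intro h
    obtain ⟨j, hj⟩ : ∃ j, j ∉ D := by
      by_contra hcon
      push Not at hcon
      exact hne (Set.eq_univ_of_forall hcon)
    obtain ⟨t, ht, h5⟩ := M.trans i j
    obtain ⟨π, hπ⟩ := exists_mv (M := M) hA ht
    have h6 := hπ.unique M hA (hA.TH ht) h5
    obtain ⟨-, ρ, h3, h4⟩ := (hAm t).1 (h ht)
    rw [← mv_unique hA (hA.TH ht) hπ h3] at h4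
    apply hj
    rw [← h4, ← h6]
    exact ⟨i, hi, rfl⟩
  obtain ⟨K, hAK, hKT, hK⟩ := exists_index_two hT hAT hTA
  let B : Set (Fin k) := {q | ∃ s ∈ K, ∃ π, Mv M s π ∧ π i = q}
  have key : ∀ t ∈ T, ∀ π, Mv M t π → (π i ∈ B ↔ t ∈ K) := by
    intro t ht π hπ
    constructor
    · rintro ⟨s, hs, ρ, hρ, h1⟩
      have h3 : Mv M (s⁻¹ * t) (ρ.symm * π) := mv_mul hA (hA.TH ht) (hρ.inv M hA (hA.TH (hKT hs))) hπ
      have h4 : (ρ.symm * π) i = i := by
        rw [Equiv.Perm.mul_apply, ← h1, Equiv.symm_apply_apply]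
      have h2 : s⁻¹ * t ∈ A := by
        refine ⟨mul_mem (inv_mem (hKT hs)) ht, _, h3, ?_⟩
        exact hD _ (mul_mem (inv_mem (hKT hs)) ht) _ h3 ⟨i, ⟨i, hi, h4⟩, hi⟩
      have h3 := mul_mem hs (hAK h2)
      rwa [mul_inv_cancel_left] at h3
    · intro h
      exact ⟨t, h, π, hπ, rfl⟩
  refine ⟨B, ⟨⟨i, 1, one_mem K, 1, mv_one, rfl⟩, ?_, ?_⟩, ?_⟩
  · have : ∃ t ∈ T, t ∉ K := by
      by_contra h
      push Not at h
      have : K.relIndex T = 1 := relIndex_eq_one.2 h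
      omega
    obtain ⟨t, ht, htK⟩ := this
    obtain ⟨π, hπ⟩ := exists_mv (M := M) hA ht
    exact ⟨π i, fun h => htK ((key t ht π hπ).1 h)⟩
  · intro t ht π hπ
    have himg : ∀ q, q ∈ π '' B ↔ (t ∈ K ↔ q ∈ B) := by
      intro q
      obtain ⟨s, hs, h5⟩ := M.trans i q
      obtain ⟨ρ, hρ⟩ := exists_mv (M := M) hA hs
      have h6 : ρ i = q := hρ.unique M hA (hA.TH hs) h5
      rw [← h6, key s hs ρ hρ]
      have h1 : ρ i ∈ π '' B ↔ (π.symm * ρ) i ∈ B := by
        constructor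
        · rintro ⟨x, hx, h2⟩
          have : (π.symm * ρ) i = x := by
            rw [Equiv.Perm.mul_apply, ← h2, Equiv.symm_apply_apply]
          rwa [this]
        · intro h
          exact ⟨_, h, π.apply_symm_apply _⟩
      rw [h1, key (t⁻¹ * s) (mul_mem (inv_mem ht) hs) _
        (mv_mul hA (hA.TH hs) (hπ.inv M hA (hA.TH ht)) hρ),
        mul_mem_of_index_two hK (inv_mem ht) hs, inv_mem_iff]
    by_cases htK : t ∈ K
    · left
      ext q
      rw [himg q]
      exact ⟨fun h => h.1 htK, fun h => iff_of_true htK h⟩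
    · right
      ext q
      rw [himg q]
      exact ⟨fun h h1 => htK (h.2 h1), fun h => iff_of_false htK h⟩
  · intro j hj
    obtain ⟨t, ht, h5⟩ := M.trans i j
    obtain ⟨π, hπ⟩ := exists_mv (M := M) hA ht
    have h6 : π i = j := hπ.unique M hA (hA.TH ht) h5
    rw [← h6, key t ht π hπ]
    exact hAK ⟨ht, π, hπ, hD t ht π hπ ⟨j, ⟨i, hi, h6⟩, hj⟩⟩

end Cfsg.Agent.Omega.NO1.NatWr

end

section


/-!
# THEOREM WR of #15037 (helper675), step (N5): transvections on `Z_Q` and the halvings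

`C` acts on the elementary abelian `2`-group `W` (written additively, `= Z_Q`), `z i` (`i : ι`) are conjugate
vectors of `W`, `v i : C` acts as the transvection `w ↦ w + ν i w • z i` and centralises all the `z j`.  For a
halving `I₁` of `ι` put `y = ∑ i ∈ I₁, z i`; `C` fixes `∑ i, z i`, and `(KL)`: if `c` fixes `y` then
`v i * (c * v i * c⁻¹)` is a `2`-element.  Then the numbers of the `l ∈ I₁` and of the `l ∉ I₁` such that `z l`
is in the component of `z i` are odd.  If this holds for all halvings of a transitive `2`-group `S`, then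
`|ι| = 2`.
-/

set_option autoImplicit false

namespace Cfsg.Agent.Omega.NO1.WR.Comp

variable {C W : Type*} [Group C] [AddCommGroup W] [DistribMulAction C W]

theorem zc (c : ZMod 2) : c = 0 ∨ c = 1 := by
  fin_cases c
  · exact Or.inl rfl
  · exact Or.inr rfl

/-- `c` acts as the transvection `w ↦ w + φ w • p` -/
def TV (c : C) (φ : W →+ ZMod 2) (p : W) : Prop :=
  ∀ w, (φ w = 0 → c • w = w) ∧ (φ w = 1 → c • w = w + p)

/-- the functionals of the transvections with centre `p` induced by `C` -/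
def Phi (C : Type*) {W : Type*} [Group C] [AddCommGroup W] [DistribMulAction C W] (p : W) :
    Set (W →+ ZMod 2) := {φ | ∃ c : C, TV c φ p}

theorem mem_Phi {p : W} {φ : W →+ ZMod 2} : φ ∈ Phi C p ↔ ∃ c : C, TV c φ p := Iff.rfl

/-- the adjacency -/
def Adj (C : Type*) {W : Type*} [Group C] [AddCommGroup W] [DistribMulAction C W] (p q : W) : Prop :=
  ∃ φ ∈ Phi C p, φ q = 1

namespace TV

variable {c d : C} {φ ψ : W →+ ZMod 2} {p q : W}

theorem of_zero (h : TV c φ p) {w : W} (hw : φ w = 0) : c • w = w := (h w).1 hw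

theorem of_one (h : TV c φ p) {w : W} (hw : φ w = 1) : c • w = w + p := (h w).2 hw

theorem self (h : TV c φ p) (h2 : p + p = 0) (hp : p ≠ 0) : φ p = 0 := by
  refine (zc _).resolve_right fun h1 => hp ?_
  have h3 := h.of_one h1
  rw [h2] at h3
  have h4 : c⁻¹ • (c • p) = c⁻¹ • (0 : W) := by rw [h3]
  rwa [inv_smul_smul, smul_zero] at h4

theorem inv (h : TV c φ p) (h2 : p + p = 0) (hp : p ≠ 0) : TV c⁻¹ φ p := by
  intro w
  constructor
  · intro h0
    rw [inv_smul_eq_iff, h.of_zero h0]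
  · intro h1
    rw [inv_smul_eq_iff, smul_add, h.of_one h1, h.of_zero (h.self h2 hp), add_assoc, h2, add_zero]

theorem map (h : TV c φ p) (hp : φ p = 0) (w : W) : φ (c • w) = φ w := by
  rcases zc (φ w) with h0 | h1
  · rw [h.of_zero h0]
  · rw [h.of_one h1, map_add, hp, add_zero]

/-- product of two transvections with the same centre -/
theorem mul (h : TV c φ p) (h' : TV d ψ p) (h2 : p + p = 0) (hp : p ≠ 0) : TV (c * d) (φ + ψ) p := by
  have hs := h.self h2 hp
  have e11 : (1 : ZMod 2) + 1 = 0 := by decide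
  intro w
  rw [AddMonoidHom.add_apply, mul_smul]
  rcases zc (φ w) with h0 | h1 <;> rcases zc (ψ w) with k0 | k1
  · rw [h0, k0, h'.of_zero k0, h.of_zero h0]
    refine ⟨fun _ => rfl, fun hx => ?_⟩
    rw [add_zero] at hx
    exact absurd hx (by decide)
  · rw [h0, k1, h'.of_one k1, smul_add, h.of_zero h0, h.of_zero hs]
    refine ⟨fun hx => ?_, fun _ => rfl⟩
    rw [zero_add] at hx
    exact absurd hx (by decide)
  · rw [h1, k0, h'.of_zero k0, h.of_one h1]
    refine ⟨fun hx => ?_, fun _ => rfl⟩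
    rw [add_zero] at hx
    exact absurd hx (by decide)
  · rw [h1, k1, h'.of_one k1, smul_add, h.of_one h1, h.of_zero hs, add_assoc, h2, add_zero]
    refine ⟨fun _ => rfl, fun hx => ?_⟩
    rw [e11] at hx
    exact absurd hx (by decide)

/-- the conjugate of a transvection -/
theorem conj (h : TV c φ p) (g : C) :
    TV (g * c * g⁻¹) (φ.comp (DistribSMul.toAddMonoidHom W g⁻¹)) (g • p) := by
  intro w
  rw [AddMonoidHom.comp_apply, DistribSMul.toAddMonoidHom_apply, mul_smul, mul_smul]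
  constructor
  · intro h0
    rw [h.of_zero h0, smul_inv_smul]
  · intro h1
    rw [h.of_one h1, smul_add, smul_inv_smul]

theorem congr (h : TV c φ p) (h' : ∀ w, ψ w = φ w) : TV c ψ p := by
  intro w
  rw [h' w]
  exact h w

end TV

theorem Phi_conj {p : W} {φ : W →+ ZMod 2} (h : φ ∈ Phi C p) (g : C) :
    φ.comp (DistribSMul.toAddMonoidHom W g⁻¹) ∈ Phi C (g • p) := by
  obtain ⟨c, hc⟩ := h
  exact ⟨_, hc.conj g⟩

theorem finite_hom [Finite W] : Finite (W →+ ZMod 2) :=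
  Finite.of_injective (fun f : W →+ ZMod 2 => (f : W → ZMod 2)) DFunLike.coe_injective

theorem ncard_le [Finite W] (p : W) (g : C) : (Phi C p).ncard ≤ (Phi C (g • p)).ncard := by
  have : Finite (W →+ ZMod 2) := finite_hom
  refine Set.ncard_le_ncard_of_injOn (fun φ => φ.comp (DistribSMul.toAddMonoidHom W g⁻¹))
    (fun φ hφ => Phi_conj hφ g) ?_ (Set.toFinite _)
  intro φ _ ψ _ h
  ext w
  have h1 := DFunLike.congr_fun h (g • w)
  simpa using h1

theorem ncard_eq [Finite W] (p : W) (g : C) : (Phi C (g • p)).ncard = (Phi C p).ncard := by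
  refine le_antisymm ?_ (ncard_le p g)
  have := ncard_le (g • p) g⁻¹
  rwa [inv_smul_smul] at this

/-- symmetry of the adjacency on an orbit -/
theorem Adj.symm [Finite W] (h2 : ∀ w : W, w + w = 0) {p : W} (hp : p ≠ 0) (g : C)
    (h : Adj C p (g • p)) : Adj C (g • p) p := by
  have : Finite (W →+ ZMod 2) := finite_hom
  set q := g • p with hq
  have hq0 : q ≠ 0 := by
    rw [hq]
    intro h0
    apply hp
    have := congrArg (fun w => g⁻¹ • w) h0
    simpa using this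
  obtain ⟨φ, ⟨c, hc⟩, hφ⟩ := h
  by_contra hno
  have hall : ∀ ψ ∈ Phi C q, ψ p = 0 := fun ψ hψ =>
    (zc _).resolve_right fun h1 => hno ⟨ψ, hψ, h1⟩
  have hsub : Phi C q ⊆ Phi C p := by
    rintro ψ ⟨d, hd⟩
    have hψp := hall ψ ⟨d, hd⟩
    have hψq := hd.self (h2 q) hq0
    have hci := hc.inv (h2 p) hp
    have h3 : TV (c * d * c⁻¹) ψ (q + p) := by
      have := (hd.conj c)
      rw [hc.of_one hφ] at this
      refine this.congr fun w => ?_
      rw [AddMonoidHom.comp_apply, DistribSMul.toAddMonoidHom_apply]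
      rcases zc (φ w) with h0 | h1
      · rw [hci.of_zero h0]
      · rw [hci.of_one h1, map_add, hψp, add_zero]
    refine ⟨d * (c * d * c⁻¹), fun w => ?_⟩
    rw [mul_smul]
    constructor
    · intro h0
      rw [h3.of_zero h0, hd.of_zero h0]
    · intro h1
      rw [h3.of_one h1, smul_add, hd.of_one h1, smul_add, hd.of_zero hψq, hd.of_zero hψp]
      calc w + q + (q + p) = w + (q + q) + p := by abel
        _ = w + p := by rw [h2, add_zero]
  have heq : Phi C q = Phi C p :=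
    Set.eq_of_subset_of_ncard_le hsub (ncard_eq p g).ge (Set.toFinite _)
  have h4 : φ ∈ Phi C q := heq ▸ (⟨c, hc⟩ : φ ∈ Phi C p)
  obtain ⟨e, he⟩ := h4
  rw [he.self (h2 q) hq0] at hφ
  exact absurd hφ (by decide)

/-- the orbit of the centres -/
def PP (C : Type*) {W : Type*} [Group C] [AddCommGroup W] [DistribMulAction C W] (z0 : W) : Set W :=
  {p | ∃ g : C, g • z0 = p}

theorem PP_smul {z0 p : W} (h : p ∈ PP C z0) (g : C) : g • p ∈ PP C z0 := by
  obtain ⟨k, rfl⟩ := h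
  exact ⟨g * k, mul_smul _ _ _⟩

theorem PP_exists {z0 p q : W} (hp : p ∈ PP C z0) (hq : q ∈ PP C z0) : ∃ g : C, g • p = q := by
  obtain ⟨k, rfl⟩ := hp
  obtain ⟨l, rfl⟩ := hq
  exact ⟨l * k⁻¹, by rw [← mul_smul, inv_mul_cancel_right]⟩

theorem PP_ne {z0 p : W} (h0 : z0 ≠ 0) (hp : p ∈ PP C z0) : p ≠ 0 := by
  obtain ⟨k, rfl⟩ := hp
  intro h
  apply h0
  have := congrArg (fun w => k⁻¹ • w) h
  simpa using this

theorem adj_symm [Finite W] (h2 : ∀ w : W, w + w = 0) {z0 p q : W} (h0 : z0 ≠ 0) (hp : p ∈ PP C z0)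
    (hq : q ∈ PP C z0) (h : Adj C p q) : Adj C q p := by
  obtain ⟨g, rfl⟩ := PP_exists hp hq
  exact h.symm h2 (PP_ne h0 hp) g

/-- connected in `PP` -/
def Conn (C : Type*) {W : Type*} [Group C] [AddCommGroup W] [DistribMulAction C W] (z0 : W) : W → W → Prop :=
  Relation.ReflTransGen fun p q => p ∈ PP C z0 ∧ q ∈ PP C z0 ∧ Adj C p q

theorem Conn.symm [Finite W] (h2 : ∀ w : W, w + w = 0) {z0 p q : W} (h0 : z0 ≠ 0)
    (h : Conn C z0 p q) : Conn C z0 q p := by
  induction h with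
  | refl => exact Relation.ReflTransGen.refl
  | tail _ h1 ih =>
    exact (Relation.ReflTransGen.single ⟨h1.2.1, h1.1, adj_symm h2 h0 h1.1 h1.2.1 h1.2.2⟩).trans ih

theorem Adj.smul {p q : W} (h : Adj C p q) (g : C) : Adj C (g • p) (g • q) := by
  obtain ⟨φ, hφ, h1⟩ := h
  refine ⟨_, Phi_conj hφ g, ?_⟩
  rw [AddMonoidHom.comp_apply, DistribSMul.toAddMonoidHom_apply, inv_smul_smul, h1]

theorem Conn.smul {z0 p q : W} (h : Conn C z0 p q) (g : C) : Conn C z0 (g • p) (g • q) := by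
  induction h with
  | refl => exact Relation.ReflTransGen.refl
  | tail _ h1 ih => exact ih.tail ⟨PP_smul h1.1 g, PP_smul h1.2.1 g, h1.2.2.smul g⟩

/-- the data of a halving -/
structure Half (C : Type*) {W ι : Type*} [Group C] [AddCommGroup W] [DistribMulAction C W] [Fintype ι]
    (z0 : W) (z : ι → W) (v : ι → C) (ν : ι → W →+ ZMod 2) (I₁ : Finset ι) : Prop where
  two : ∀ w : W, w + w = 0
  ne : z0 ≠ 0
  mem : ∀ i, z i ∈ PP C z0
  tv : ∀ i, TV (v i) (ν i) (z i)
  cen : ∀ i j, ν i (z j) = 0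
  hit : ∀ i, ∃ q ∈ PP C z0, ν i q = 1
  fix : ∀ c : C, c • (∑ i, z i) = ∑ i, z i
  kl : ∀ i, ∀ c : C, c • (∑ j ∈ I₁, z j) = ∑ j ∈ I₁, z j → ∃ m : ℕ, (v i * (c * v i * c⁻¹)) ^ 2 ^ m = 1

namespace Half

variable {ι : Type*} [Fintype ι] {z0 : W} {z : ι → W} {v : ι → C} {ν : ι → W →+ ZMod 2} {I₁ : Finset ι}

variable (h : Half C z0 z v ν I₁)
include h

theorem cen_y (i : ι) : ν i (∑ j ∈ I₁, z j) = 0 := by
  rw [map_sum]
  exact Finset.sum_eq_zero fun j _ => h.cen i j

/-- `(KL)` for a transvection: step one -/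
theorem kl_one {i : ι} {q : W} (hq : q ∈ PP C z0) (hν : ν i q = 1) {φ : W →+ ZMod 2} (hφ : φ ∈ Phi C q)
    (hy : φ (∑ j ∈ I₁, z j) = 0) : φ (z i) = 0 := by
  refine (zc _).resolve_right fun h1 => ?_
  obtain ⟨c, hc⟩ := hφ
  have hq0 := PP_ne h.ne hq
  obtain ⟨m, hm⟩ := h.kl i c (hc.of_zero hy)
  have hci := hc.inv (h.two q) hq0
  have hqq := hc.self (h.two q) hq0
  have ht := h.tv i
  have hνz := h.cen i i
  -- the action of `c v c⁻¹`
  have hk : TV (c * v i * c⁻¹) ((ν i).comp (DistribSMul.toAddMonoidHom W c⁻¹)) (z i + q) := by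
    have := ht.conj c
    rwa [hc.of_one h1] at this
  have hk1 : (c * v i * c⁻¹) • z i = q := by
    rw [hk.of_one, ← add_assoc, h.two, zero_add]
    rw [AddMonoidHom.comp_apply, DistribSMul.toAddMonoidHom_apply, hci.of_one h1, map_add, hνz, hν, zero_add]
  have hk2 : (c * v i * c⁻¹) • q = z i := by
    rw [hk.of_one]
    · calc q + (z i + q) = z i + (q + q) := by abel
        _ = z i := by rw [h.two, add_zero]
    · rw [AddMonoidHom.comp_apply, DistribSMul.toAddMonoidHom_apply, hci.of_zero hqq, hν]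
  set g : C := v i * (c * v i * c⁻¹) with hg
  have hg1 : g • z i = q + z i := by rw [hg, mul_smul, hk1, ht.of_one hν]
  have hg2 : g • q = z i := by rw [hg, mul_smul, hk2, ht.of_zero hνz]
  have hg3 : g ^ 3 • z i = z i := by
    rw [pow_succ', pow_two, mul_smul g (g * g), mul_smul g g, hg1, smul_add, hg1, hg2]
    have : z i + (q + z i) = q := by
      calc z i + (q + z i) = q + (z i + z i) := by abel
        _ = q := by rw [h.two, add_zero]
    rw [this, hg2]
  have hmem3 : g ^ 3 ∈ MulAction.stabilizer C (z i) := hg3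
  have hmem2 : g ^ 2 ^ m ∈ MulAction.stabilizer C (z i) := by rw [hm]; exact one_mem _
  have hcop : IsCoprime (3 : ℤ) ((2 : ℤ) ^ m) := by
    refine IsCoprime.pow_right ?_
    exact ⟨1, -1, by norm_num⟩
  obtain ⟨a, b, hab⟩ := hcop
  have hmem : g ∈ MulAction.stabilizer C (z i) := by
    have e1 : g = (g ^ 3) ^ a * (g ^ 2 ^ m) ^ b := by
      rw [← zpow_natCast g 3, ← zpow_natCast g (2 ^ m), ← zpow_mul, ← zpow_mul, ← zpow_add]
      have : ((3 : ℕ) : ℤ) * a + ((2 ^ m : ℕ) : ℤ) * b = 1 := by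
        push_cast
        linarith
      rw [this, zpow_one]
    rw [e1]
    exact mul_mem (zpow_mem hmem3 a) (zpow_mem hmem2 b)
  have h5 : g • z i = z i := hmem
  rw [hg1] at h5
  exact hq0 (by simpa using h5)

variable [Finite W]

/-- on `Phi q`, `ν i q = 1`, the vectors `z i` and `y` agree -/
theorem type_a {i : ι} {q : W} (hq : q ∈ PP C z0) (hν : ν i q = 1) {φ : W →+ ZMod 2} (hφ : φ ∈ Phi C q) :
    φ (z i) = φ (∑ j ∈ I₁, z j) := by
  have e11 : (1 : ZMod 2) + 1 = 0 := by decide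
  rcases zc (φ (∑ j ∈ I₁, z j)) with h0 | h1
  · rw [h0, h.kl_one hq hν hφ h0]
  · rw [h1]
    refine (zc _).resolve_left fun h2 => ?_
    obtain ⟨ψ, hψ, hψ1⟩ := adj_symm h.two h.ne (h.mem i) hq ⟨ν i, ⟨v i, h.tv i⟩, hν⟩
    have hψy : ψ (∑ j ∈ I₁, z j) = 1 := by
      refine (zc _).resolve_left fun h3 => ?_
      rw [h.kl_one hq hν hψ h3] at hψ1
      exact absurd hψ1 (by decide)
    have hsum : φ + ψ ∈ Phi C q := by
      obtain ⟨c, hc⟩ := hφ
      obtain ⟨d, hd⟩ := hψ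
      exact ⟨c * d, hc.mul hd (h.two q) (PP_ne h.ne hq)⟩
    have h4 := h.kl_one hq hν hsum (by rw [AddMonoidHom.add_apply, h1, hψy, e11])
    rw [AddMonoidHom.add_apply, h2, hψ1, zero_add] at h4
    exact absurd h4 (by decide)

/-- `r` is adjacent to some `q` with `ν i q = 1` -/
def Near (C : Type*) {W : Type*} [Group C] [AddCommGroup W] [DistribMulAction C W] (z0 : W)
    (μ : W →+ ZMod 2) (r : W) : Prop := ∃ q ∈ PP C z0, μ q = 1 ∧ Adj C r q

omit h [Finite W] in
theorem add_mem {q r : W} (hr : r ∈ PP C z0) (hqr : Adj C q r) : r + q ∈ PP C z0 := by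
  obtain ⟨ψ, ⟨d, hd⟩, hψ⟩ := hqr
  rw [← hd.of_one hψ]
  exact PP_smul hr d

theorem near_val {i : ι} {r : W} (hr : r ∈ PP C z0) (hn : Near C z0 (ν i) r) {φ : W →+ ZMod 2}
    (hφ : φ ∈ Phi C r) : φ (z i) = φ (∑ j ∈ I₁, z j) := by
  rcases zc (ν i r) with h0 | h1
  · obtain ⟨q, hq, hν, hrq⟩ := hn
    have hqr := adj_symm h.two h.ne hr hq hrq
    obtain ⟨ψ, ⟨d, hd⟩, hψ⟩ := id hqr
    have hdi := hd.inv (h.two q) (PP_ne h.ne hq)
    have hmem : d • r ∈ PP C z0 := PP_smul hr d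
    have hdr : d • r = r + q := hd.of_one hψ
    have hν' : ν i (d • r) = 1 := by rw [hdr, map_add, h0, hν, zero_add]
    have h3 := h.type_a hmem hν' (Phi_conj hφ d)
    have h4 := h.type_a hq hν (⟨d, hd⟩ : ψ ∈ Phi C q)
    rw [AddMonoidHom.comp_apply, DistribSMul.toAddMonoidHom_apply, AddMonoidHom.comp_apply,
      DistribSMul.toAddMonoidHom_apply] at h3
    rcases zc (ψ (z i)) with k0 | k1
    · rw [hdi.of_zero k0, hdi.of_zero (h4 ▸ k0)] at h3
      exact h3
    · rw [hdi.of_one k1, hdi.of_one (h4 ▸ k1), map_add, map_add] at h3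
      exact add_right_cancel h3
  · exact h.type_a hr h1 hφ

theorem near_step {i : ι} {r r' : W} (hr : r ∈ PP C z0) (hr' : r' ∈ PP C z0) (hn : Near C z0 (ν i) r)
    (ha : Adj C r r') : Near C z0 (ν i) r' := by
  have ha' := adj_symm h.two h.ne hr hr' ha
  rcases zc (ν i r) with h0 | h1
  · obtain ⟨q, hq, hν, hrq⟩ := hn
    have hqr := adj_symm h.two h.ne hr hq hrq
    obtain ⟨φ, hφ, hφr⟩ := ha'
    rcases zc (φ q) with k0 | k1
    · refine ⟨r + q, add_mem hr hqr, ?_, φ, hφ, ?_⟩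
      · rw [map_add, h0, hν, zero_add]
      · rw [map_add, k0, hφr, add_zero]
    · exact ⟨q, hq, hν, φ, hφ, k1⟩
  · exact ⟨r, hr, h1, ha'⟩

omit [Finite W] in
theorem near_base (i : ι) : Near C z0 (ν i) (z i) := by
  obtain ⟨q, hq, hν⟩ := h.hit i
  exact ⟨q, hq, hν, ν i, ⟨v i, h.tv i⟩, hν⟩

theorem conn_val {i : ι} {r : W} (hr : Conn C z0 (z i) r) :
    r ∈ PP C z0 ∧ Near C z0 (ν i) r := by
  induction hr with
  | refl => exact ⟨h.mem i, h.near_base i⟩
  | tail _ h1 ih => exact ⟨h1.2.1, h.near_step ih.1 h1.2.1 ih.2 h1.2.2⟩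

open Classical in
/-- **(N5)**: both halves of the component of `z i` are odd -/
theorem odd_card (i : ι) :
    Odd {l ∈ I₁ | Conn C z0 (z i) (z l)}.card ∧
    Odd {l ∈ (Finset.univ \ I₁) | Conn C z0 (z i) (z l)}.card := by
  obtain ⟨q, hq, hν⟩ := h.hit i
  have hzq : Conn C z0 (z i) q := Relation.ReflTransGen.single ⟨h.mem i, hq, ν i, ⟨v i, h.tv i⟩, hν⟩
  obtain ⟨φ, hφ, hφ1⟩ := adj_symm h.two h.ne (h.mem i) hq ⟨ν i, ⟨v i, h.tv i⟩, hν⟩
  have hy : φ (∑ j ∈ I₁, z j) = 1 := by rw [← h.type_a hq hν hφ, hφ1]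
  have hall : φ (∑ j, z j) = 0 := by
    obtain ⟨c, hc⟩ := hφ
    refine (zc _).resolve_right fun h1 => PP_ne h.ne hq ?_
    have h3 := hc.of_one h1
    rw [h.fix c] at h3
    simpa using h3.symm
  have hy' : φ (∑ j ∈ Finset.univ \ I₁, z j) = 1 := by
    have h3 : ∑ j ∈ Finset.univ \ I₁, z j + ∑ j ∈ I₁, z j = ∑ j, z j :=
      Finset.sum_sdiff (Finset.subset_univ I₁)
    have h4 := congrArg φ h3
    rw [map_add, hall, hy] at h4
    refine (zc _).resolve_left fun h5 => ?_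
    rw [h5, zero_add] at h4
    exact absurd h4 (by decide)
  have hval : ∀ l, φ (z l) = if Conn C z0 (z i) (z l) then 1 else 0 := by
    intro l
    split_ifs with hl
    · have h3 : Conn C z0 (z l) q := (hl.symm h.two h.ne).trans hzq
      obtain ⟨h4, h5⟩ := h.conn_val h3
      rw [h.near_val h4 h5 hφ, hy]
    · exact (zc _).resolve_right fun h1 => hl (hzq.tail ⟨hq, h.mem l, φ, hφ, h1⟩)
  have key : ∀ s : Finset ι, φ (∑ j ∈ s, z j) = 1 →
      Odd {l ∈ s | Conn C z0 (z i) (z l)}.card := by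
    intro s hs
    rw [map_sum] at hs
    have h3 : ∑ j ∈ s, φ (z j) = (({l ∈ s | Conn C z0 (z i) (z l)}.card : ℕ) : ZMod 2) := by
      rw [Finset.card_filter, Nat.cast_sum]
      refine Finset.sum_congr rfl fun l _ => ?_
      rw [hval l]
      split_ifs <;> simp
    rw [h3] at hs
    rw [← Nat.not_even_iff_odd, even_iff_two_dvd, ← ZMod.natCast_eq_zero_iff, hs]
    decide
  exact ⟨key _ hy, key _ hy'⟩

end Half

end Cfsg.Agent.Omega.NO1.WR.Comp

end

section


/-!
# Even-subset modules: the action on the points (project OMEGA, job 168)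

`M : SymK T H V ⊥ k m`. `Pt k m` = the points, `E M v` = the characteristic function of `v`, `Mv M g π` : `g` acts on
the points by `π`. `trans_pts` : a Sylow 2-subgroup is transitive on the points `≠ 0`.
-/

set_option autoImplicit false

namespace Cfsg.Agent.Omega.Half.SymA

open Subgroup Cfsg Cfsg.Agent.ZN Cfsg.Agent.Omega.FFThm Cfsg.Agent.Omega.MinPar
open Cfsg.Agent.ZN.ChoiceBase hiding mem_zc
open scoped Classical

universe u

variable {G : Type u} [Group G] {T H V : Subgroup G} {k m : ℕ}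

/-- the points -/
abbrev Pt (k m : ℕ) := Fin k × Fin (2 ^ m + 1)

theorem zmod2 (a : ZMod 2) : a = 0 ∨ a = 1 := by
  revert a
  decide

theorem zmod2_ne {a : ZMod 2} : a ≠ 0 ↔ a = 1 := by
  revert a
  decide

section basic

variable (M : SymK T H V ⊥ k m)

/-- the characteristic function -/
def E (v : G) (p : Pt k m) : ZMod 2 := M.e v p.1 p.2

theorem E_mul {v w : G} (hv : v ∈ V) (hw : w ∈ V) (p : Pt k m) : E M (v * w) p = E M v p + E M w p := by
  rw [E, M.mul v hv w hw]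
  rfl

theorem E_one (p : Pt k m) : E M 1 p = 0 := by
  have h := E_mul M (one_mem V) (one_mem V) p
  rw [one_mul] at h
  exact left_eq_add.1 h

theorem E_inv {v : G} (hv : v ∈ V) (p : Pt k m) : E M v⁻¹ p = E M v p := by
  have h := E_mul M hv (inv_mem hv) p
  rw [mul_inv_cancel, E_one] at h
  have h1 : E M v⁻¹ p = -E M v p := (neg_eq_of_add_eq_zero_right h.symm).symm
  rw [h1]
  exact CharTwo.neg_eq _

theorem eq_one {v : G} (hv : v ∈ V) (h : ∀ p, E M v p = 0) : v = 1 := by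
  refine mem_bot.1 ((M.ker v hv).1 ?_)
  funext i x
  exact h (i, x)

theorem inj {v w : G} (hv : v ∈ V) (hw : w ∈ V) (h : ∀ p, E M v p = E M w p) : v = w := by
  rw [← mul_inv_eq_one]
  apply eq_one M (mul_mem hv (inv_mem hw))
  intro p
  rw [E_mul M hv (inv_mem hw), E_inv M hw, h p]
  exact CharTwo.add_self_eq_zero _

theorem even {v : G} (hv : v ∈ V) (i : Fin k) : ∑ x, E M v (i, x) = 0 := M.even v hv i

theorem exists_E (y : Pt k m → ZMod 2) (hy : ∀ i, ∑ x, y (i, x) = 0) : ∃ v ∈ V, ∀ p, E M v p = y p := by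
  obtain ⟨v, hv, h⟩ := M.surj (fun i x => y (i, x)) hy
  exact ⟨v, hv, fun p => by rw [E, h]⟩

/-- the pair `{p, q}` -/
theorem exists_pair {p q : Pt k m} (hpq : p.1 = q.1) :
    ∃ v ∈ V, ∀ r, E M v r = (if r = p then 1 else 0) + (if r = q then 1 else 0) := by
  apply exists_E M
  intro i
  have h1 : ∀ p : Pt k m, ∑ x, (if ((i, x) : Pt k m) = p then (1 : ZMod 2) else 0) = if i = p.1 then 1 else 0 := by
    intro p
    by_cases hi : i = p.1
    · rw [if_pos hi, Finset.sum_eq_single p.2]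
      · rw [if_pos (show ((i, p.2) : Pt k m) = p from Prod.ext hi rfl)]
      · intro b _ hb
        rw [if_neg]
        intro h
        exact hb (congrArg Prod.snd h)
      · intro h
        exact absurd (Finset.mem_univ _) h
    · rw [if_neg hi]
      apply Finset.sum_eq_zero
      intro x _
      rw [if_neg]
      intro h
      exact hi (congrArg Prod.fst h)
  rw [Finset.sum_add_distrib, h1, h1, hpq]
  exact CharTwo.add_self_eq_zero _

/-- `g` moves the points by `π` -/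
def Mv (g : G) (π : Equiv.Perm (Pt k m)) : Prop := ∀ v ∈ V, ∀ p, E M (g * v * g⁻¹) (π p) = E M v p

theorem Mv_one : Mv M 1 1 := by
  intro v _ p
  rw [one_mul, inv_one, mul_one]
  rfl

/-- the permutation of the points -/
def pm (σ : Equiv.Perm (Fin k)) (τ : Fin k → Equiv.Perm (Fin (2 ^ m + 1))) : Equiv.Perm (Pt k m) where
  toFun p := (σ p.1, τ p.1 p.2)
  invFun p := (σ.symm p.1, (τ (σ.symm p.1)).symm p.2)
  left_inv p := by simp
  right_inv p := by simp

theorem mv_pm {g : G} {σ : Equiv.Perm (Fin k)} {τ : Fin k → Equiv.Perm (Fin (2 ^ m + 1))}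
    (h : ActsSym M.e V g σ τ) : Mv M g (pm σ τ) := fun v hv p => h v hv p.1 p.2

theorem exists_third (hm : 1 ≤ m) (a b : Fin (2 ^ m + 1)) : ∃ c, c ≠ a ∧ c ≠ b := by
  have h : ({a, b} : Finset (Fin (2 ^ m + 1))).card < (Finset.univ : Finset (Fin (2 ^ m + 1))).card := by
    have h1 : ({a, b} : Finset (Fin (2 ^ m + 1))).card ≤ 2 := Finset.card_le_two
    have h2 : (Finset.univ : Finset (Fin (2 ^ m + 1))).card = 2 ^ m + 1 := by simp
    have h3 : 2 ≤ 2 ^ m := by
      calc 2 = 2 ^ 1 := by norm_num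
        _ ≤ 2 ^ m := Nat.pow_le_pow_right (by norm_num) hm
    omega
  obtain ⟨c, -, hc⟩ := Finset.exists_mem_notMem_of_card_lt_card h
  simp only [Finset.mem_insert, Finset.mem_singleton, not_or] at hc
  exact ⟨c, hc.1, hc.2⟩

theorem sep (hm : 1 ≤ m) {p q : Pt k m} (hpq : p ≠ q) : ∃ v ∈ V, E M v p = 1 ∧ E M v q = 0 := by
  obtain ⟨c, hc1, hc2⟩ := exists_third hm p.2 q.2
  obtain ⟨v, hv, h⟩ := exists_pair M (p := p) (q := (p.1, c)) rfl
  refine ⟨v, hv, ?_, ?_⟩
  · rw [h, if_pos rfl, if_neg, add_zero]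
    intro h1
    exact hc1 (congrArg Prod.snd h1).symm
  · rw [h, if_neg hpq.symm, if_neg, add_zero]
    intro h1
    exact hc2 (congrArg Prod.snd h1).symm

end basic

section amb

variable {M : SymK T H V ⊥ k m} (hA : Amb T H V)

include hA

theorem Mv.unique (hm : 1 ≤ m) {g : G} {π ρ : Equiv.Perm (Pt k m)} (hπ : Mv M g π) (hρ : Mv M g ρ) (hg : g ∈ H) :
    π = ρ := by
  ext1 p
  by_contra hne
  obtain ⟨w, hw, h1, h2⟩ := sep M hm hne
  have h3 : g⁻¹ * w * g⁻¹⁻¹ ∈ V := hA.conj_mem (inv_mem hg) hw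
  have h4 : g * (g⁻¹ * w * g⁻¹⁻¹) * g⁻¹ = w := by group
  have h5 := hπ _ h3 p
  have h6 := hρ _ h3 p
  rw [h4] at h5 h6
  rw [h1] at h5
  rw [h2, ← h5] at h6
  exact one_ne_zero h6.symm

theorem Mv.mul {g h : G} {π ρ : Equiv.Perm (Pt k m)} (hπ : Mv M g π) (hρ : Mv M h ρ) (hh : h ∈ H) :
    Mv M (g * h) (π * ρ) := by
  intro v hv p
  have e1 : g * h * v * (g * h)⁻¹ = g * (h * v * h⁻¹) * g⁻¹ := by group
  rw [e1, Equiv.Perm.mul_apply, hπ _ (hA.conj_mem hh hv), hρ v hv]

theorem Mv.inv {g : G} {π : Equiv.Perm (Pt k m)} (hπ : Mv M g π) (hg : g ∈ H) : Mv M g⁻¹ π⁻¹ := by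
  intro v hv p
  have h1 := hπ _ (hA.conj_mem (inv_mem hg) hv) (π⁻¹ p)
  have h2 : g * (g⁻¹ * v * g⁻¹⁻¹) * g⁻¹ = v := by group
  have h3 : π (π⁻¹ p) = p := π.apply_symm_apply p
  rw [h2, h3] at h1
  exact h1.symm

theorem Mv.pow {g : G} {π : Equiv.Perm (Pt k m)} (hπ : Mv M g π) (hg : g ∈ H) (n : ℕ) : Mv M (g ^ n) (π ^ n) := by
  induction n with
  | zero => rw [pow_zero, pow_zero]; exact Mv_one M
  | succ n ih => rw [pow_succ, pow_succ]; exact ih.mul hA hπ hg

theorem Mv.conj {g h : G} {π ρ : Equiv.Perm (Pt k m)} (hπ : Mv M g π) (hg : g ∈ H) (hρ : Mv M h ρ) (hh : h ∈ H) :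
    Mv M (g * h * g⁻¹) (π * ρ * π⁻¹) :=
  (hπ.mul hA hρ hh).mul hA (hπ.inv hA hg) (inv_mem hg)

omit hA in
theorem exists_mv {g : G} (hg : g ∈ H) : ∃ π, Mv M g π ∧ ∀ p q : Pt k m, p.1 = q.1 → (π p).1 = (π q).1 := by
  obtain ⟨σ, τ, h⟩ := M.perm g hg
  refine ⟨pm σ τ, mv_pm M h, fun p q hpq => ?_⟩
  change σ p.1 = σ q.1
  rw [hpq]

theorem Mv.fst (hm : 1 ≤ m) {g : G} {π : Equiv.Perm (Pt k m)} (hπ : Mv M g π) (hg : g ∈ H) {p q : Pt k m}
    (hpq : p.1 = q.1) : (π p).1 = (π q).1 := by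
  obtain ⟨ρ, hρ, h⟩ := exists_mv (M := M) hg
  rw [hπ.unique hA hm hρ hg]
  exact h p q hpq

/-- `T` fixes the zero points -/
theorem Mv.snd (hm : 1 ≤ m) {t : G} {π : Equiv.Perm (Pt k m)} (hπ : Mv M t π) (ht : t ∈ T) {p : Pt k m} :
    (π p).2 = 0 ↔ p.2 = 0 := by
  obtain ⟨σ, τ, h⟩ := M.perm t (hA.TH ht)
  have h1 := hπ.unique hA hm (mv_pm M h) (hA.TH ht)
  have h2 := M.fix0 t ht σ τ h
  rw [h1]
  change τ p.1 p.2 = 0 ↔ p.2 = 0
  rw [← (τ p.1).injective.eq_iff (a := p.2) (b := 0), h2]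

omit hA in
theorem trans_sum (i j : Fin k) :
    ∃ t ∈ T, ∃ π, Mv M t π ∧ ∀ p : Pt k m, p.1 = i → (π p).1 = j := by
  obtain ⟨t, ht, σ, τ, h, h1⟩ := M.trans i j
  refine ⟨t, ht, pm σ τ, mv_pm M h, fun p hp => ?_⟩
  change σ p.1 = j
  rw [hp, h1]

omit hA in
theorem pm_swap {p q : Pt k m} (hpq : p.1 = q.1) :
    pm 1 (Function.update 1 p.1 (Equiv.swap p.2 q.2)) = Equiv.swap p q := by
    ext1 ⟨i, x⟩
    change ((1 : Equiv.Perm (Fin k)) i, (Function.update (1 : Fin k → Equiv.Perm (Fin (2 ^ m + 1))) p.1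
      (Equiv.swap p.2 q.2) i) x) = Equiv.swap p q (i, x)
    obtain ⟨a, b⟩ := p
    obtain ⟨a', c⟩ := q
    change a = a' at hpq
    subst hpq
    by_cases hi : i = a
    · subst hi
      rw [Function.update_self]
      change (i, Equiv.swap b c x) = _
      by_cases hb : x = b
      · rw [hb, Equiv.swap_apply_left, Equiv.swap_apply_left]
      · by_cases hc : x = c
        · rw [hc, Equiv.swap_apply_right, Equiv.swap_apply_right]
        · rw [Equiv.swap_apply_of_ne_of_ne hb hc, Equiv.swap_apply_of_ne_of_ne]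
          · intro h; exact hb (congrArg Prod.snd h)
          · intro h; exact hc (congrArg Prod.snd h)
    · rw [Function.update_of_ne hi, Equiv.swap_apply_of_ne_of_ne]
      · rfl
      · intro h; exact hi (congrArg Prod.fst h)
      · intro h; exact hi (congrArg Prod.fst h)

omit hA in
/-- a transposition of two points of the same summand -/
theorem exists_swap {p q : Pt k m} (hpq : p.1 = q.1) : ∃ g ∈ H, Mv M g (Equiv.swap p q) := by
  obtain ⟨g, hg, h, -⟩ := M.lift (Function.update 1 p.1 (Equiv.swap p.2 q.2))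
  refine ⟨g, hg, ?_⟩
  have h1 := mv_pm M h
  rwa [pm_swap hpq] at h1

end amb

/-! ### The cycle -/

section cycle

/-- the cycle `(1 2 … 2^m)` -/
def cy (m : ℕ) : Equiv.Perm (Fin (2 ^ m + 1)) :=
  Equiv.Perm.decomposeFin.symm (0, Equiv.addRight (1 : Fin (2 ^ m)))

theorem cy_zero (m : ℕ) : cy m 0 = 0 := by
  rw [cy, Equiv.Perm.decomposeFin_symm_apply_zero]

theorem cy_succ (m : ℕ) (a : Fin (2 ^ m)) : cy m a.succ = (a + 1).succ := by
  rw [cy, Equiv.Perm.decomposeFin_symm_apply_succ, Equiv.swap_self]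
  rfl

theorem add_ofNat_succ {N : ℕ} [NeZero N] (a : Fin N) (n : ℕ) : a + 1 + Fin.ofNat N n = a + Fin.ofNat N (n + 1) := by
  apply Fin.ext
  simp only [Fin.val_add, Fin.ofNat, Nat.mod_add_mod, Nat.add_mod_mod, Fin.val_one']
  congr 1
  omega

theorem cy_pow_succ (m : ℕ) (n : ℕ) (a : Fin (2 ^ m)) : ((cy m) ^ n) a.succ = (a + Fin.ofNat (2 ^ m) n).succ := by
  induction n generalizing a with
  | zero => simp
  | succ n ih => rw [pow_succ, Equiv.Perm.mul_apply, cy_succ, ih, add_ofNat_succ]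

theorem cy_pow_zero (m : ℕ) (n : ℕ) : ((cy m) ^ n) 0 = 0 := by
  induction n with
  | zero => rfl
  | succ n ih => rw [pow_succ, Equiv.Perm.mul_apply, cy_zero, ih]

theorem cy_pow (m : ℕ) : (cy m) ^ (2 ^ m) = 1 := by
  ext1 x
  rcases Fin.eq_zero_or_eq_succ x with h | ⟨a, h⟩
  · rw [h, cy_pow_zero]; rfl
  · have h1 : a + Fin.ofNat (2 ^ m) (2 ^ m) = a := by
      simp [Fin.ofNat]
    rw [h, cy_pow_succ, h1]
    rfl

theorem exists_cy_pow (m : ℕ) {x y : Fin (2 ^ m + 1)} (hx : x ≠ 0) (hy : y ≠ 0) : ∃ n, ((cy m) ^ n) x = y := by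
  obtain ⟨a, rfl⟩ := Fin.exists_succ_eq.2 hx
  obtain ⟨b, rfl⟩ := Fin.exists_succ_eq.2 hy
  refine ⟨(b - a).val, ?_⟩
  have : Fin.ofNat (2 ^ m) (b - a).val = b - a := by simp
  rw [cy_pow_succ, this, add_sub_cancel]

end cycle

/-! ### Transitivity on the points -/

section trans

variable [Finite G] (S : Sylow 2 G) {P : Subgroup G} {M : SymK (S : Subgroup G) P V ⊥ k m}
  (hA : Amb (S : Subgroup G) P V)

/-- a 2-subgroup of `P` is conjugate in `P` into `S` -/
theorem exists_conj_le {Q : Subgroup G} (hSP : (S : Subgroup G) ≤ P) (hQ : IsPGroup 2 Q) (hQP : Q ≤ P) :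
    ∃ g ∈ P, ∀ x ∈ Q, g * x * g⁻¹ ∈ (S : Subgroup G) := by
  have : Fact (Nat.Prime 2) := ⟨Nat.prime_two⟩
  have hQ' : IsPGroup 2 (Q.subgroupOf P) := hQ.comap_of_injective P.subtype P.subtype_injective
  obtain ⟨R, hR⟩ := hQ'.exists_le_sylow
  obtain ⟨g, hg⟩ := MulAction.exists_smul_eq P R (S.subtype hSP)
  refine ⟨g, g.2, fun x hx => ?_⟩
  have h1 : (⟨x, hQP hx⟩ : P) ∈ R := hR (by rw [mem_subgroupOf]; exact hx)
  have h2 : g * ⟨x, hQP hx⟩ * g⁻¹ ∈ ((g • R : Sylow 2 P) : Subgroup P) := by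
    rw [Sylow.coe_subgroup_smul, Subgroup.mem_pointwise_smul_iff_inv_smul_mem]
    have h3 : ∀ y : P, (MulAut.conj g)⁻¹ • (g * y * g⁻¹) = y := fun y => by
      rw [MulAut.smul_def, MulAut.conj_inv_apply]
      group
    rw [h3]
    exact h1
  rw [hg] at h2
  exact h2

include hA

theorem exists_cycle (hm : 1 ≤ m) : ∃ t ∈ (S : Subgroup G), ∃ π : Equiv.Perm (Pt k m), Mv M t π ∧
    ∀ p q : Pt k m, p.1 = q.1 → p.2 ≠ 0 → q.2 ≠ 0 → ∃ n : ℕ, (π ^ n) p = q := by
  -- a lift of the cycle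
  obtain ⟨h, hh, hact, -⟩ := M.lift fun _ => cy m
  have h1 := mv_pm M hact
  set c : Equiv.Perm (Pt k m) := pm 1 fun _ => cy m with hc
  have hcpow : ∀ n : ℕ, ∀ p : Pt k m, (c ^ n) p = (p.1, ((cy m) ^ n) p.2) := by
    intro n
    induction n with
    | zero => intro p; rfl
    | succ n ih =>
      intro p
      rw [pow_succ, Equiv.Perm.mul_apply, ih, pow_succ, Equiv.Perm.mul_apply]
      rfl
  have hc1 : c ^ (2 ^ m) = 1 := by
    ext1 p
    rw [hcpow, cy_pow]
    rfl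
  -- its 2-part
  obtain ⟨a, N, hN, hord⟩ := Nat.exists_eq_two_pow_mul_odd (orderOf_pos h).ne'
  obtain ⟨u, hu⟩ : ∃ u, N * u ≡ 1 [MOD 2 ^ m] := by
    obtain ⟨u, -, hu⟩ := Nat.exists_mul_mod_eq_of_coprime (n := N) (k := 2 ^ m) 1
      (Nat.Coprime.pow_right m (Nat.coprime_two_right.2 hN)) (by positivity)
    exact ⟨u, hu⟩
  have hcN : c ^ (N * u) = c := by
    have := pow_eq_pow_of_modEq hu hc1
    rwa [pow_one] at this
  have h2 := h1.pow hA hh (N * u)
  rw [hcN] at h2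
  have hp2 : IsPGroup 2 (zpowers (h ^ (N * u))) := by
    have e : (h ^ (N * u)) ^ 2 ^ a = 1 := by
      rw [← pow_mul]
      apply orderOf_dvd_iff_pow_eq_one.1
      rw [hord]
      exact ⟨u, by ring⟩
    rintro ⟨x, n, rfl⟩
    refine ⟨a, Subtype.ext ?_⟩
    change ((h ^ (N * u)) ^ n) ^ 2 ^ a = 1
    rw [← zpow_natCast, ← zpow_mul, mul_comm n, zpow_mul, zpow_natCast, e, one_zpow]
  have hle : zpowers (h ^ (N * u)) ≤ P := zpowers_le.2 (pow_mem hh _)
  obtain ⟨g, hg, hgS⟩ := exists_conj_le S hA.TH hp2 hle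
  have h3 := hgS _ (mem_zpowers _)
  obtain ⟨ρ, hρ, hρ1⟩ := exists_mv (M := M) hg
  have h4 := hρ.conj hA hg h2 (pow_mem hh _)
  -- `ρ` preserves the zero points
  have h5 : ∀ p : Pt k m, p.2 ≠ 0 → (ρ⁻¹ p).2 ≠ 0 := by
    -- the permutation `ρ c ρ⁻¹` of `S` fixes the zero points, and only them
    have hfix : ∀ i : Fin k, (ρ * c * ρ⁻¹) (i, 0) = (i, 0) := by
      intro i
      have e1 : ((ρ * c * ρ⁻¹) (i, 0)).2 = 0 := (h4.snd hA hm h3).2 rfl
      have e2 : ((ρ * c * ρ⁻¹) (i, 0)).1 = i := by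
        have e3 : (c (ρ⁻¹ (i, 0))).1 = (ρ⁻¹ (i, 0)).1 := rfl
        have e4 := hρ1 _ _ e3
        have e5 : ρ (ρ⁻¹ (i, 0)) = (i, 0) := ρ.apply_symm_apply _
        rw [e5] at e4
        exact e4
      exact Prod.ext e2 e1
    -- so `ρ⁻¹ (i, 0)` is a zero point
    have hz : ∀ i : Fin k, (ρ⁻¹ (i, 0)).2 = 0 := by
      intro i
      by_contra hne
      have e1 : c (ρ⁻¹ (i, 0)) = ρ⁻¹ (i, 0) := by
        have e2 := congrArg (ρ⁻¹ : Equiv.Perm (Pt k m)) (hfix i)
        have e3 : ρ⁻¹ ((ρ * c * ρ⁻¹) (i, 0)) = c (ρ⁻¹ (i, 0)) := ρ.symm_apply_apply _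
        rwa [e3] at e2
      obtain ⟨a, ha⟩ := Fin.exists_succ_eq.2 hne
      have e2 : cy m (ρ⁻¹ (i, 0)).2 = (ρ⁻¹ (i, 0)).2 := congrArg Prod.snd e1
      rw [← ha, cy_succ, Fin.succ_inj] at e2
      have e3 : (1 : Fin (2 ^ m)) = 0 := by
        have := add_eq_left.1 e2
        exact this
      have h7 : 1 < 2 ^ m := Nat.one_lt_two_pow (by omega)
      have e4 := congrArg Fin.val e3
      rw [Fin.val_one', Fin.val_zero, Nat.mod_eq_of_lt h7] at e4
      exact one_ne_zero e4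
    intro p hp h0
    -- `ρ⁻¹ p = (a, 0)`, and `ρ (a, 0)` is a zero point by counting: use `ρ⁻¹ (i, 0)` with `i = p.1`
    apply hp
    have e1 := hz p.1
    have e2 : (ρ⁻¹ (p.1, 0)).1 = (ρ⁻¹ p).1 := (hρ.inv hA hg).fst hA hm (inv_mem hg) rfl
    have e3 : ρ⁻¹ (p.1, 0) = ρ⁻¹ p := Prod.ext e2 (e1.trans h0.symm)
    have e4 := ρ⁻¹.injective e3
    rw [← e4]
  refine ⟨_, h3, _, h4, fun p q hpq hp hq => ?_⟩
  have h6 : (ρ⁻¹ p).1 = (ρ⁻¹ q).1 := (hρ.inv hA hg).fst hA hm (inv_mem hg) hpq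
  obtain ⟨n, hn⟩ := exists_cy_pow m (h5 p hp) (h5 q hq)
  refine ⟨n, ?_⟩
  rw [conj_pow, Equiv.Perm.mul_apply, Equiv.Perm.mul_apply, hcpow, hn, h6]
  exact ρ.apply_symm_apply q

theorem trans_pts (hm : 1 ≤ m) {p q : Pt k m} (hp : p.2 ≠ 0) (hq : q.2 ≠ 0) :
    ∃ t ∈ (S : Subgroup G), ∃ π, Mv M t π ∧ π p = q := by
  obtain ⟨t, ht, π, hπ, h1⟩ := trans_sum (M := M) p.1 q.1
  obtain ⟨s, hs, ρ, hρ, h2⟩ := exists_cycle S hA hm
  have h3 : (π p).2 ≠ 0 := fun h => hp ((hπ.snd hA hm ht).1 h)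
  obtain ⟨n, hn⟩ := h2 (π p) q (h1 p rfl) h3 hq
  refine ⟨s ^ n * t, mul_mem (pow_mem hs n) ht, ρ ^ n * π, (hρ.pow hA (hA.TH hs) n).mul hA hπ (hA.TH ht), ?_⟩
  rw [Equiv.Perm.mul_apply, hn]

end trans

end Cfsg.Agent.Omega.Half.SymA

end

section


/-!
# II.d: the structure of a pair of blocks, `k = 2`

`Two S So V₁ V₂ L₁ L₂` : `So ≤ S` of index 2, `V₁, V₂ ≤ So` elementary abelian, commuting, `V₁ ∩ V₂ = 1`,
normalised by `So` and swapped by `S - So`; `Lᵢ` normalises `Vᵢ`, is transitive on `Vᵢ#` and centralises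
`V₃₋ᵢ`; `So` is a Sylow 2-subgroup of `Lᵢ So`; `|Ω₁Z(S)| ≤ |C_{Vᵢ}(So)|`; `2 < |Vᵢ|`.

* `Two.symm`, `Two.irr` (`Lᵢ So` is irreducible on `Vᵢ`);
* `Two.half` : the HALF LEMMA: `V₂ ≤ Z(O₂(H))` for `L₂, So ≤ H ≤ C_G(z)`, `1 ≠ z ∈ V₁`, `H` of
  characteristic 2;
* `Two.full_conj`, `Two.two_cosets`, `Two.eq_or_eq_of_card_two`, ... : generalities.
-/

set_option autoImplicit false
set_option linter.unusedSectionVars false

namespace Cfsg.Agent.Omega.IId

open Subgroup Cfsg Cfsg.Agent.ZN Cfsg.Agent.Omega.MinPar Cfsg.Agent.Omega.Frame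
open Cfsg.Agent.MinSimple.VModule
open scoped Pointwise

universe u

variable {G : Type u} [Group G]

/-! ### Generalities -/

namespace Two

theorem two_cosets [Finite G] {So S : Subgroup G} (h : So ≤ S)
    (hc : Nat.card S = 2 * Nat.card So) :
    ∀ a ∈ S, ∀ b ∈ S, a ∉ So → b ∉ So → a⁻¹ * b ∈ So := by
  have hi : (So.subgroupOf S).index = 2 := by
    have h1 := Half.card_mul_relIndex h
    have h2 : 0 < Nat.card So := Nat.card_pos
    rw [hc, mul_comm 2] at h1
    exact Nat.eq_of_mul_eq_mul_left h2 h1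
  intro a ha b hb ha1 hb1
  have h2 := mul_mem_iff_of_index_two hi (a := (⟨a, ha⟩ : S)⁻¹) (b := ⟨b, hb⟩)
  rw [inv_mem_iff] at h2
  have h3 := h2.mpr (iff_of_false (fun h => ha1 (mem_subgroupOf.mp h))
    (fun h => hb1 (mem_subgroupOf.mp h)))
  exact mem_subgroupOf.mp h3

theorem conj_mem_of_two {So S : Subgroup G} (h : So ≤ S)
    (h2 : ∀ a ∈ S, ∀ b ∈ S, a ∉ So → b ∉ So → a⁻¹ * b ∈ So) {s x : G} (hs : s ∈ S)
    (hx : x ∈ So) : s * x * s⁻¹ ∈ So := by
  by_cases hs1 : s ∈ So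
  · exact mul_mem (mul_mem hs1 hx) (inv_mem hs1)
  by_contra hcon
  have h3 := h2 s hs _ (mul_mem (mul_mem hs (h hx)) (inv_mem hs)) hs1 hcon
  have h4 : s⁻¹ * (s * x * s⁻¹) = x * s⁻¹ := by group
  rw [h4] at h3
  exact hs1 (inv_mem_iff.1 ((mul_mem_cancel_left hx).1 h3))

theorem exists_not_mem [Finite G] {So S : Subgroup G} (h : So ≤ S)
    (hc : Nat.card S = 2 * Nat.card So) : ∃ s ∈ S, s ∉ So := by
  by_contra hcon
  push Not at hcon
  have h1 : S = So := le_antisymm hcon h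
  rw [h1] at hc
  have h2 : 0 < Nat.card So := Nat.card_pos
  omega

theorem le_normalizer_of {K V : Subgroup G} (h : ∀ k ∈ K, ∀ v ∈ V, k * v * k⁻¹ ∈ V) :
    K ≤ normalizer (V : Set G) := by
  intro k hk
  rw [mem_normalizer_iff]
  intro v
  refine ⟨fun hv => h k hk v hv, fun hv => ?_⟩
  have h1 := h k⁻¹ (inv_mem hk) _ hv
  have h2 : k⁻¹ * (k * v * k⁻¹) * k⁻¹⁻¹ = v := by group
  rwa [h2] at h1

theorem eq_or_eq_of_card_two {A : Subgroup G} (h : Nat.card A = 2) {v x : G} (hv : v ∈ A)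
    (hv1 : v ≠ 1) (hx : x ∈ A) : x = 1 ∨ x = v := by
  obtain ⟨y, hy, hu⟩ := (Nat.card_eq_two_iff' (1 : A)).1 h
  by_contra hcon
  push Not at hcon
  have h1 := hu ⟨x, hx⟩ (fun h => hcon.1 (congrArg Subtype.val h))
  have h2 := hu ⟨v, hv⟩ (fun h => hv1 (congrArg Subtype.val h))
  exact hcon.2 (congrArg Subtype.val (h1.trans h2.symm))

/-- `Full` is invariant under conjugation. -/
theorem full_conj [Finite G] {S T : Sylow 2 G} (hF : Full (S : Subgroup G)) :
    Full (T : Subgroup G) := by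
  obtain ⟨g, hg⟩ := MulAction.exists_smul_eq G T S
  have h1 : (S : Subgroup G) = (T : Subgroup G).map (MulAut.conj g).toMonoidHom := by
    rw [← hg]; rfl
  intro Y hY
  have h2 : Y.map (MulAut.conj g).toMonoidHom = ⊤ := by
    apply hF
    intro L hL
    rw [← MinPar.map_symm_map (MulAut.conj g) L]
    apply Subgroup.map_mono
    apply hY
    rw [← isLoc_map_iff (MulAut.conj g), MinPar.map_symm_map, ← h1]
    exact hL
  have h3 : Y.map (MulAut.conj g).toMonoidHom = (⊤ : Subgroup G).map (MulAut.conj g).toMonoidHom := by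
    rw [h2, Subgroup.map_top_of_surjective _ (MulAut.conj g).surjective]
  exact Subgroup.map_injective (MulAut.conj g).injective h3

end Two

/-! ### The structure -/

/-- `S` wreathed over `So`: the members `V₁`, `V₂` of a pair of blocks. -/
structure Two (S So V₁ V₂ L₁ L₂ : Subgroup G) : Prop where
  SoS : So ≤ S
  card : Nat.card S = 2 * Nat.card So
  V1So : V₁ ≤ So
  V2So : V₂ ≤ So
  c1 : ∀ x ∈ V₁, ∀ y ∈ V₁, x * y = y * x
  c2 : ∀ x ∈ V₂, ∀ y ∈ V₂, x * y = y * x
  q1 : ∀ x ∈ V₁, x ^ 2 = 1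
  q2 : ∀ x ∈ V₂, x ^ 2 = 1
  c12 : ∀ x ∈ V₁, ∀ y ∈ V₂, x * y = y * x
  inf : ∀ x ∈ V₁, x ∈ V₂ → x = 1
  So1 : ∀ x ∈ So, ∀ v ∈ V₁, x * v * x⁻¹ ∈ V₁
  So2 : ∀ x ∈ So, ∀ v ∈ V₂, x * v * x⁻¹ ∈ V₂
  sw1 : ∀ s ∈ S, s ∉ So → ∀ v ∈ V₁, s * v * s⁻¹ ∈ V₂
  sw2 : ∀ s ∈ S, s ∉ So → ∀ v ∈ V₂, s * v * s⁻¹ ∈ V₁
  L1 : ∀ l ∈ L₁, ∀ v ∈ V₁, l * v * l⁻¹ ∈ V₁
  L2 : ∀ l ∈ L₂, ∀ v ∈ V₂, l * v * l⁻¹ ∈ V₂
  L12 : ∀ l ∈ L₁, ∀ v ∈ V₂, l * v = v * l
  L21 : ∀ l ∈ L₂, ∀ v ∈ V₁, l * v = v * l
  t1 : ∀ v ∈ V₁, v ≠ 1 → ∀ w ∈ V₁, w ≠ 1 → ∃ l ∈ L₁, l * v * l⁻¹ = w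
  t2 : ∀ v ∈ V₂, v ≠ 1 → ∀ w ∈ V₂, w ≠ 1 → ∃ l ∈ L₂, l * v * l⁻¹ = w
  o1 : ¬ 2 ∣ So.relIndex (L₁ ⊔ So)
  o2 : ¬ 2 ∣ So.relIndex (L₂ ⊔ So)
  z1 : Nat.card (zc S) ≤ Nat.card (V₁ ⊓ centralizer (So : Set G) : Subgroup G)
  z2 : Nat.card (zc S) ≤ Nat.card (V₂ ⊓ centralizer (So : Set G) : Subgroup G)
  big1 : 2 < Nat.card V₁
  big2 : 2 < Nat.card V₂

namespace Two

variable {S So V₁ V₂ L₁ L₂ : Subgroup G}

theorem symm (h : Two S So V₁ V₂ L₁ L₂) : Two S So V₂ V₁ L₂ L₁ where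
  SoS := h.SoS
  card := h.card
  V1So := h.V2So
  V2So := h.V1So
  c1 := h.c2
  c2 := h.c1
  q1 := h.q2
  q2 := h.q1
  c12 := fun x hx y hy => (h.c12 y hy x hx).symm
  inf := fun x hx hy => h.inf x hy hx
  So1 := h.So2
  So2 := h.So1
  sw1 := h.sw2
  sw2 := h.sw1
  L1 := h.L2
  L2 := h.L1
  L12 := h.L21
  L21 := h.L12
  t1 := h.t2
  t2 := h.t1
  o1 := h.o2
  o2 := h.o1
  z1 := h.z2
  z2 := h.z1
  big1 := h.big2
  big2 := h.big1

variable (h : Two S So V₁ V₂ L₁ L₂)
include h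

theorem le_norm : L₂ ⊔ So ≤ normalizer (V₂ : Set G) :=
  sup_le (le_normalizer_of h.L2) (le_normalizer_of h.So2)

theorem irr (X : Subgroup G) (hX : X ≤ V₂) (hn : L₂ ⊔ So ≤ normalizer (X : Set G)) :
    X = ⊥ ∨ X = V₂ := by
  by_cases h1 : X = ⊥
  · exact Or.inl h1
  right
  obtain ⟨x, hx1⟩ := Subgroup.ne_bot_iff_exists_ne_one.1 h1
  have hx2 : (x : G) ≠ 1 := fun h => hx1 (Subtype.ext h)
  refine le_antisymm hX fun w hw => ?_
  by_cases hw1 : w = 1
  · rw [hw1]; exact one_mem _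
  obtain ⟨l, hl, rfl⟩ := h.t2 x (hX x.2) hx2 w hw hw1
  exact (mem_normalizer_iff.1 (hn (mem_sup_left hl)) _).1 x.2

omit h in
/-- The HALF LEMMA for `C_G(z)`, `1 ≠ z ∈ V₁` central in `So`. -/
theorem half [Finite G] {S : Sylow 2 G} {So V₁ V₂ L₁ L₂ : Subgroup G}
    (h : Two (S : Subgroup G) So V₁ V₂ L₁ L₂) {H : Subgroup G} {z : G} (hz : z ∈ V₁) (hz1 : z ≠ 1)
    (hHz : ∀ x ∈ H, x * z = z * x) (hH : H ⊓ centralizer (ZN.o2 H : Set G) ≤ ZN.o2 H)
    (hSo : So ≤ H) (hL : L₂ ≤ H) :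
    V₂ ≤ ZN.o2 H ∧ ZN.o2 H ≤ centralizer (V₂ : Set G) := by
  have hSo2 : IsPGroup 2 So := S.isPGroup'.to_le h.SoS
  have hV2 : IsPGroup 2 V₂ := hSo2.to_le h.V2So
  have hne : V₂ ≠ ⊥ := by
    intro h0
    have h1 := h.big2
    rw [h0, card_bot] at h1
    omega
  refine Half.half S h.SoS h.card hz1 (h.q1 z hz) (h.V1So hz) hHz hH le_sup_right (sup_le hL hSo)
    h.o2 h.V2So h.le_norm h.c2 h.q2 h.irr ?_ ?_ h.z2
  · rw [eq_bot_iff]
    rintro x ⟨hx, hxc⟩
    rw [mem_bot]
    by_contra hx1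
    have h1 : V₂ ≤ zpowers x := by
      intro w hw
      by_cases hw1 : w = 1
      · rw [hw1]; exact one_mem _
      obtain ⟨l, hl, rfl⟩ := h.t2 x hx hx1 w hw hw1
      have h2 := mem_centralizer_iff.1 hxc l (mem_sup_left hl)
      rw [h2, mul_inv_cancel_right]
      exact mem_zpowers x
    have h2 := card_le_of_le h1
    rw [Nat.card_zpowers] at h2
    have h3 := orderOf_le_of_pow_eq_one (by norm_num) (h.q2 x hx)
    have h4 := h.big2
    omega
  · have h1 : L₂ ⊔ So ≤ normalizer ((V₂ ⊓ centralizer (ZN.o2 (L₂ ⊔ So) : Set G) : Subgroup G) : Set G) := by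
      refine Half.le_normalizer_inf h.le_norm ?_
      apply le_normalizer_of
      intro k hk v hv
      rw [mem_centralizer_iff] at hv ⊢
      intro y hy
      have h2 := (mem_normalizer_iff.1 (inv_mem (le_normalizer_o2 _ hk)) y).1 hy
      have h3 := hv _ h2
      rw [inv_inv] at h3
      calc y * (k * v * k⁻¹) = k * (k⁻¹ * y * k * v) * k⁻¹ := by group
        _ = k * (v * (k⁻¹ * y * k)) * k⁻¹ := by rw [h3]
        _ = k * v * k⁻¹ * y := by group
    obtain ⟨v, hv, hv1, hvc⟩ := Half.exists_fixed hV2 hne (o2_isPGroup (L₂ ⊔ So))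
      ((o2_le _).trans h.le_norm)
    rcases h.irr _ inf_le_left h1 with h2 | h2
    · exfalso
      have h3 : v ∈ V₂ ⊓ centralizer (ZN.o2 (L₂ ⊔ So) : Set G) := by
        refine ⟨hv, mem_centralizer_iff.2 fun y hy => ?_⟩
        exact mul_inv_eq_iff_eq_mul.1 (hvc y hy)
      rw [h2, mem_bot] at h3
      exact hv1 h3
    · intro x hx
      rw [mem_centralizer_iff]
      intro y hy
      rw [SetLike.mem_coe, ← h2] at hy
      exact (mem_centralizer_iff.1 hy.2 x hx).symm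

end Two

end Cfsg.Agent.Omega.IId

end

section


/-!
# THEOREM LOW (#19191), P7 = (T3)-(T5): `B` on a bad block of a natural line

`M : NatK F S P U ⊥ k`, `B ≤ S` elementary abelian, `[U, B]` is centralised by `B`, `E` a subgroup such that no
`w ∈ U \ E` has only one image under the elements of `B` which move it (`t1` = (T1) + (I2)); block `i` is *bad* if
some `em M i x ∉ E`.

* `semi_dich` : two commuting quadratic semilinear involutions, one of them not linear, coincide or one is trivial;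
* `QB.fix` : (T3), `B` fixes the bad blocks; `QB.linear` : (T4), `B` is `F`-linear on them;
* `QB.exists_up` : every `b ∈ B` acts as `up β` on a bad block.
-/

set_option autoImplicit false
set_option linter.unusedSectionVars false

namespace Cfsg.Agent.Omega.NOThreeL.Low.Nat

open Subgroup Cfsg Cfsg.Agent.ZN Cfsg.Agent.Omega.FFThm Cfsg.Agent.Omega.Half
open Cfsg.Agent.Omega.Half.NatA
open Cfsg.Agent.Omega.NO1.NSix
open Cfsg.Agent.Omega.NatPair (ap ext2 ap_zero' ap_one')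
open Cfsg.Agent.Lib.SL2Mat

universe u

/-! ### Algebra -/

section alg

variable {F : Type} [Field F] [CharP F 2]

theorem vadd_self (x : Fin 2 → F) : x + x = 0 := by
  funext i
  rw [Pi.add_apply, CharTwo.add_self_eq_zero]; rfl

/-- Two semilinear maps `T`, `C` on `F²`, `T² = 1`, `C` fixes `x + T x`; if `T` is not linear then `C = 1` or
`C = T`. -/
theorem semi_dich {T C : (Fin 2 → F) → (Fin 2 → F)} {s t : F ≃+* F}
    (hCa : ∀ x y, C (x + y) = C x + C y)
    (hTs : ∀ (c : F) x, T (c • x) = s c • T x) (hCs : ∀ (c : F) x, C (c • x) = t c • C x)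
    (hTT : ∀ x, T (T x) = x) (hq : ∀ x, C (x + T x) = x + T x) {l0 : F} (hl0 : s l0 ≠ l0) :
    (∀ x, C x = x) ∨ ∀ x, C x = T x := by
  have h2 : (2 : F) = 0 := CharTwo.two_eq_zero
  set w : Fin 2 → F := ![1, 0] with hw
  have hss : ∀ c, s (s c) = c := by
    intro c
    have h1 := hTT (c • w)
    rw [hTs, hTs, hTT] at h1
    have h3 := congrFun h1 0
    simpa [hw] using h3
  set m : F := l0 + s l0 with hm
  have hm0 : m ≠ 0 := by
    intro h
    apply hl0
    exact (CharTwo.add_eq_zero.1 h).symm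
  have hsm : s m = m := by
    rw [hm, map_add, hss, add_comm]
  set l : F := l0 / m with hl
  have hsl : s l = l + 1 := by
    have h1 : l + s l = 1 := by
      rw [hl, map_div₀, hsm, ← add_div, ← hm, div_self hm0]
    have h3 : s l = l + (l + s l) := by
      rw [← add_assoc, CharTwo.add_self_eq_zero, zero_add]
    rw [h3, h1]
  set n : F := t l with hn
  have hCT : ∀ x, C (T x) = x + T x + C x := by
    intro x
    have h1 := hq x
    rw [hCa] at h1
    have h3 : C (T x) = C x + (C x + C (T x)) := by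
      rw [← add_assoc, vadd_self, zero_add]
    rw [h3, h1, add_comm]
  have hC : ∀ x, C x = (l + n + 1) • x + (l + n) • T x := by
    intro x
    have h1 := hq (l • x)
    rw [hCa, hTs, hCs, hCs, hsl, map_add, map_one, ← hn, hCT] at h1
    funext i
    have h3 := congrFun h1 i
    simp only [Pi.add_apply, Pi.smul_apply, smul_eq_mul] at h3 ⊢
    linear_combination h3 + (-(n + 1) * (x i + T x i) - n * C x i + T x i) * h2
  by_cases hd0 : l + n = 0
  · left
    intro x
    rw [hC x, hd0]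
    simp
  · right
    have hd1 : l + n + 1 = 0 := by
      by_contra hd1
      apply hl0
      have hfix : ∀ x, T x = x := by
        intro x
        have h1 := hC (l • x)
        rw [hCs, hTs, hsl, ← hn, hC x] at h1
        funext i
        have h3 := congrFun h1 i
        simp only [Pi.add_apply, Pi.smul_apply, smul_eq_mul] at h3
        have h4 : (l + n) * (l + n + 1) * (T x i - x i) = 0 := by
          linear_combination -h3 + (n * (l + n) * T x i - l * (l + n + 1) * x i) * h2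
        rcases mul_eq_zero.1 h4 with h5 | h5
        · rcases mul_eq_zero.1 h5 with h6 | h6
          · exact absurd h6 hd0
          · exact absurd h6 hd1
        · exact sub_eq_zero.1 h5
      have h5 := hTs l0 w
      rw [hfix, hfix] at h5
      have h6 := congrFun h5 0
      simp [hw] at h6
      exact h6.symm
    intro x
    have hd2 : l + n = 1 := by
      have h3 : l + n = (l + n + 1) + 1 := by
        rw [add_assoc, CharTwo.add_self_eq_zero, add_zero]
      rw [h3, hd1, zero_add]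
    rw [hC x, hd1, hd2]
    simp

end alg

/-! ### The setting -/

variable {G : Type u} [Group G] {F : Type} [Field F] {S P U : Subgroup G} {k : ℕ}

/-- The input of P7. -/
structure QB (S U B E : Subgroup G) : Prop where
  BS : B ≤ S
  ab : ∀ b ∈ B, ∀ c ∈ B, b * c = c * b
  sq : ∀ b ∈ B, b * b = 1
  /-- `[U, B]` is centralised by `B` -/
  quad : ∀ v ∈ U, ∀ b ∈ B, ∀ c ∈ B, c * (b * v * b⁻¹ * v⁻¹) = b * v * b⁻¹ * v⁻¹ * c
  /-- (T1) and (I2) -/
  t1 : ∀ w ∈ U, w ∉ E → ¬ ∀ b ∈ B, ∀ c ∈ B, b * w * b⁻¹ ≠ w → c * w * c⁻¹ ≠ w → b * w * b⁻¹ = c * w * c⁻¹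

/-- The block `i` is bad. -/
def Bad (M : NatK F S P U ⊥ k) (E : Subgroup G) (i : Fin k) : Prop := ∃ x : Fin 2 → F, em M i x ∉ E

namespace QB

variable {B E : Subgroup G} {M : NatK F S P U ⊥ k} (hA : Amb S P U) (h : QB S U B E)
include hA h

theorem BP : B ≤ P := h.BS.trans hA.TH

/-- the relation `c (w (b w b⁻¹)) c⁻¹ = w (b w b⁻¹)` -/
theorem rel {w b c : G} (hw : w ∈ U) (hb : b ∈ B) (hc : c ∈ B) :
    M.e (c * (b * w * b⁻¹) * c⁻¹) + M.e (c * w * c⁻¹) = M.e (b * w * b⁻¹) + M.e w := by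
  have hbP := h.BP hA hb
  have hcP := h.BP hA hc
  have hbw := hA.conj_mem hbP hw
  have hww : w⁻¹ = w := by
    have h1 := hA.sq w hw
    rw [pow_two] at h1
    exact inv_eq_of_mul_eq_one_left h1
  have h1 := h.quad w hw b hb c hc
  rw [hww] at h1
  have h2 : c * (b * w * b⁻¹ * w) * c⁻¹ = b * w * b⁻¹ * w := by rw [h1]; group
  have h3 : c * (b * w * b⁻¹ * w) * c⁻¹ = c * (b * w * b⁻¹) * c⁻¹ * (c * w * c⁻¹) := by group
  rw [← M.mul _ (hA.conj_mem hcP hbw) _ (hA.conj_mem hcP hw), ← M.mul _ hbw _ hw, ← h3, h2]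

/-- **(T3)** `B` fixes the bad blocks. -/
theorem fix {i : Fin k} (hi : Bad M E i) {b : G} (hb : b ∈ B) {σ : Equiv.Perm (Fin k)} (hσ : Mv M b σ) :
    σ i = i := by
  by_contra hne
  obtain ⟨x, hx⟩ := hi
  have hbP := h.BP hA hb
  set w : G := em M i x with hw
  have hwU : w ∈ U := em_mem M i x
  have hx0 : x ≠ 0 := by
    rintro rfl
    rw [hw, em_zero] at hx
    exact hx (one_mem E)
  have hbw := hA.conj_mem hbP hwU
  -- support of `b w b⁻¹`
  have hsb : ∀ j, j ≠ σ i → M.e (b * w * b⁻¹) j = 0 := by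
    intro j hj
    have h1 := (hσ w hwU (σ.symm j)).2 (e_em_ne M (fun h2 => hj (by rw [← h2, σ.apply_symm_apply])) x)
    rwa [σ.apply_symm_apply] at h1
  have hnb : M.e (b * w * b⁻¹) (σ i) ≠ 0 := by
    rw [Ne, hσ w hwU i, hw, e_em_self]
    exact hx0
  have key : ∀ c ∈ B, c * w * c⁻¹ ≠ w → c * w * c⁻¹ = b * w * b⁻¹ := by
    intro c hc hcw
    have hcP := h.BP hA hc
    obtain ⟨τ, hτ⟩ := M.perm c hcP
    have hcw' := hA.conj_mem hcP hwU
    have hsc : ∀ j, j ≠ τ i → M.e (c * w * c⁻¹) j = 0 := by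
      intro j hj
      have h1 := (hτ w hwU (τ.symm j)).2 (e_em_ne M (fun h2 => hj (by rw [← h2, τ.apply_symm_apply])) x)
      rwa [τ.apply_symm_apply] at h1
    have hnc : M.e (c * w * c⁻¹) (τ i) ≠ 0 := by
      rw [Ne, hτ w hwU i, hw, e_em_self]
      exact hx0
    have hsd : ∀ j, j ≠ τ (σ i) → M.e (c * (b * w * b⁻¹) * c⁻¹) j = 0 := by
      intro j hj
      have h1 := (hτ _ hbw (τ.symm j)).2 (hsb _ (fun h2 => hj (by rw [← h2, τ.apply_symm_apply])))
      rwa [τ.apply_symm_apply] at h1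
    have hr := h.rel hA (M := M) hwU hb hc
    have hτi : τ i ≠ τ (σ i) := fun h1 => hne (τ.injective h1).symm
    by_cases h1 : τ i = i
    · -- then `c w c⁻¹ = w`
      exfalso
      apply hcw
      apply inj M hcw' hwU
      funext j
      by_cases hj : j = i
      · have h2 := congrFun hr i
        rw [Pi.add_apply, Pi.add_apply, hsd i (fun h' => hτi (h1.trans h')), hsb i (Ne.symm hne), zero_add,
          zero_add] at h2
        rw [hj, h2]
      · rw [hsc j (by rw [h1]; exact hj), hw, e_em_ne M hj]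
    · by_cases h2 : τ i = σ i
      · apply inj M hcw' hbw
        funext j
        by_cases hj : j = σ i
        · have h3 := congrFun hr (σ i)
          rw [Pi.add_apply, Pi.add_apply, hsd (σ i) (fun h' => hτi (h2.trans h')), zero_add,
            show M.e w (σ i) = 0 from e_em_ne M hne x, add_zero] at h3
          rw [hj, h3]
        · rw [hsc j (by rw [h2]; exact hj), hsb j hj]
      · exfalso
        apply hnc
        have h3 := congrFun hr (τ i)
        rw [Pi.add_apply, Pi.add_apply, hsd (τ i) hτi, hsb (τ i) h2, zero_add,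
          show M.e w (τ i) = 0 from e_em_ne M h1 x, add_zero] at h3
        exact h3
  exact h.t1 w hwU hx fun b1 hb1 c1 hc1 hm1 hm2 => (key b1 hb1 hm1).trans (key c1 hc1 hm2).symm

variable [Finite F] [CharP F 2]

/-- **(T4)** `B` is `F`-linear on the bad blocks. -/
theorem linear {i : Fin k} (hi : Bad M E i) {b : G} (hb : b ∈ B) (c : F) (x : Fin 2 → F) :
    ph M b i i (c • x) = c • ph M b i i x := by
  have hbP := h.BP hA hb
  have hfix : ∀ d ∈ B, ∃ σ : Equiv.Perm (Fin k), Mv M d σ ∧ σ i = i := by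
    intro d hd
    obtain ⟨σ, hσ⟩ := M.perm d (h.BP hA hd)
    exact ⟨σ, hσ, h.fix hA hi hd hσ⟩
  have hsemi : ∀ d ∈ B, ∃ τ : F ≃+* F, ∀ (c : F) x, ph M d i i (c • x) = τ c • ph M d i i x := by
    intro d hd
    obtain ⟨σ, hσ, hσi⟩ := hfix d hd
    have h1 := exists_semi hA (h.BP hA hd) hσ i
    rwa [hσi] at h1
  -- the element `d (em i x) d⁻¹`
  have hem : ∀ d ∈ B, ∀ x, d * em M i x * d⁻¹ = em M i (ph M d i i x) := by
    intro d hd x
    obtain ⟨σ, hσ, hσi⟩ := hfix d hd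
    refine (em_eq M (hA.conj_mem (h.BP hA hd) (em_mem M i x)) fun j hj => ?_).symm
    have h1 := (hσ _ (em_mem M i x) (σ.symm j)).2
      (e_em_ne M (fun h2 => hj (by rw [← hσi, ← h2, σ.apply_symm_apply])) x)
    rwa [σ.apply_symm_apply] at h1
  have hem' : ∀ x y, em M i x = em M i y → x = y := by
    intro x y hxy
    rw [← e_em_self M i x, hxy, e_em_self]
  obtain ⟨s, hs⟩ := hsemi b hb
  by_cases hlin : ∀ l : F, s l = l
  · rw [hs, hlin]
  · exfalso
    push Not at hlin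
    obtain ⟨l0, hl0⟩ := hlin
    have hTT : ∀ x, ph M b i i (ph M b i i x) = x := by
      intro x
      apply hem'
      rw [← hem b hb, ← hem b hb]
      have h1 : b * (b * em M i x * b⁻¹) * b⁻¹ = b * b * em M i x * (b * b)⁻¹ := by group
      rw [h1, h.sq b hb]
      group
    have hdich : ∀ d ∈ B, (∀ x, ph M d i i x = x) ∨ ∀ x, ph M d i i x = ph M b i i x := by
      intro d hd
      obtain ⟨t, ht⟩ := hsemi d hd
      refine semi_dich (ph_add hA (h.BP hA hd) i i) hs ht hTT (fun x => ?_) hl0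
      have hr := congrFun (h.rel hA (M := M) (em_mem M i x) hb hd) i
      rw [Pi.add_apply, Pi.add_apply, hem b hb, hem d hd, hem d hd, e_em_self, e_em_self, e_em_self,
        e_em_self] at hr
      rw [ph_add hA (h.BP hA hd), add_comm, hr, add_comm]
    obtain ⟨x, hx⟩ := hi
    apply h.t1 _ (em_mem M i x) hx
    have key : ∀ d ∈ B, d * em M i x * d⁻¹ ≠ em M i x → d * em M i x * d⁻¹ = em M i (ph M b i i x) := by
      intro d hd hne
      rcases hdich d hd with h1 | h1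
      · exact absurd (by rw [hem d hd, h1]) hne
      · rw [hem d hd, h1]
    exact fun b1 hb1 c1 hc1 hm1 hm2 => (key b1 hb1 hm1).trans (key c1 hc1 hm2).symm

/-- **(T5)** every element of `B` acts as an upper unitriangular matrix on a bad block. -/
theorem exists_up {i : Fin k} (hi : Bad M E i) {b : G} (hb : b ∈ B) :
    ∃ β : F, ∀ v ∈ U, M.e (b * v * b⁻¹) i = ap (up β) (M.e v i) := by
  have hbP := h.BP hA hb
  obtain ⟨σ, hσ⟩ := M.perm b hbP
  have hσi := h.fix hA hi hb hσ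
  have hlin := h.linear hA hi hb
  have hadd := ph_add hA (M := M) hbP i i
  have he : ∀ v ∈ U, M.e (b * v * b⁻¹) i = ph M b i i (M.e v i) := by
    intro v hv
    have h1 := e_conj hA hbP hσ hv i
    rwa [hσi] at h1
  have hem : ∀ x, b * em M i x * b⁻¹ = em M i (ph M b i i x) := by
    intro x
    refine (em_eq M (hA.conj_mem hbP (em_mem M i x)) fun j hj => ?_).symm
    have h1 := (hσ _ (em_mem M i x) (σ.symm j)).2
      (e_em_ne M (fun h2 => hj (by rw [← hσi, ← h2, σ.apply_symm_apply])) x)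
    rwa [σ.apply_symm_apply] at h1
  have hTT : ∀ x, ph M b i i (ph M b i i x) = x := by
    intro x
    have h2 : em M i (ph M b i i (ph M b i i x)) = em M i x := by
      rw [← hem, ← hem]
      have h1 : b * (b * em M i x * b⁻¹) * b⁻¹ = b * b * em M i x * (b * b)⁻¹ := by group
      rw [h1, h.sq b hb]
      group
    rw [← e_em_self M i (ph M b i i (ph M b i i x)), h2, e_em_self]
  -- the line
  obtain ⟨σ', hσ'⟩ := M.line b (h.BS hb)
  have hσi' : σ' i = i := by
    by_contra hne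
    have h1 := hσ' _ (em_mem M i ![0, 1]) i
    rw [e_em_self] at h1
    have h2 : M.e (b * em M i ![0, 1] * b⁻¹) (σ' i) = 0 := by
      rw [hem, e_em_ne M hne]
    rw [h2] at h1
    exact one_ne_zero (h1.1 rfl)
  have hline : ∀ x : Fin 2 → F, x 1 = 0 → ph M b i i x 1 = 0 := by
    intro x hx
    have h1 := hσ' _ (em_mem M i x) i
    rw [hσi', hem, e_em_self, e_em_self] at h1
    exact h1.2 hx
  set T := ph M b i i with hT
  have e1 : T ![1, 0] 1 = 0 := hline _ rfl
  have hdec : ∀ x : Fin 2 → F, x = x 0 • ![1, 0] + x 1 • ![0, 1] := fun x => ext2 (by simp) (by simp)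
  have hTx : ∀ x : Fin 2 → F, T x = x 0 • T ![1, 0] + x 1 • T ![0, 1] := by
    intro x
    conv_lhs => rw [hdec x]
    rw [hadd, hlin, hlin]
  have hsq1 : ∀ a : F, a * a = 1 → a = 1 := by
    intro a ha
    have h1 : (a + 1) * (a + 1) = 0 := by
      have h2 : (2 : F) = 0 := CharTwo.two_eq_zero
      linear_combination ha + (a + 1) * h2
    have h2 := mul_self_eq_zero.1 h1
    have h3 := CharTwo.add_eq_zero.1 h2
    exact h3
  have e2 : T ![1, 0] 0 = 1 := by
    apply hsq1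
    have h1 := congrFun (hTT ![1, 0]) 0
    rw [hTx (T ![1, 0])] at h1
    simpa [e1] using h1
  have e3 : T ![0, 1] 1 = 1 := by
    apply hsq1
    have h1 := congrFun (hTT ![0, 1]) 1
    rw [hTx (T ![0, 1])] at h1
    simpa [e1] using h1
  refine ⟨T ![0, 1] 0, fun v hv => ?_⟩
  rw [he v hv, hTx]
  apply ext2
  · rw [ap_zero', up_00, up_01]
    simp [e2]
    ring
  · rw [ap_one', up_10, up_11]
    simp [e1, e3]

end QB

end Cfsg.Agent.Omega.NOThreeL.Low.Nat

end
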