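import Cfsg.Agent.Mrg.Omega.Half.Basic


/-!
# HALF LEMMA, APPLICATIONS 2 and 3, even-subset modules (project OMEGA, job 168; text helper7 #11954)

`M : SymK S P V ⊥ k m`, `m ≥ 2`; `C` = a set of nonzero points, `S` permutes `{C, co C}` (`Blk M C`).

* `app_sym` : if `u ∈ V` is `P`-conjugate to the element with support `C`, then the group `dis M u` of the elements
  of `V` whose support is disjoint from that of `u` lies in `Z(O₂(C_G(u)))`;
* `app_one` : `k = 1`, `m ≥ 2`, `|supp u| = 2^(m-1)`; `app_many` : `k ≥ 2`, blocks of summands (`BlkS`,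
  `exists_blkS`).
-/

set_option autoImplicit false

namespace Cfsg.Agent.Omega.Half.SymA

open Subgroup Cfsg Cfsg.Agent.ZN Cfsg.Agent.Omega.FFThm Cfsg.Agent.Omega.MinPar
open Cfsg.Agent.ZN.ChoiceBase hiding mem_zc
open scoped Classical
open Cfsg.Agent.MinSimple.VModule (mem_zc zc_le)

universe u

variable {G : Type u} [Group G] {T H V : Subgroup G} {k m : ℕ}

/-- the complement in the nonzero points -/
def co (C : Set (Pt k m)) : Set (Pt k m) := {p | p.2 ≠ 0 ∧ p ∉ C}

/-- the characteristic function of `C` -/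
noncomputable def ind (C : Set (Pt k m)) (p : Pt k m) : ZMod 2 := if p ∈ C then 1 else 0

theorem ind_one {C : Set (Pt k m)} {p : Pt k m} (h : p ∈ C) : ind C p = 1 := if_pos h

theorem ind_zero {C : Set (Pt k m)} {p : Pt k m} (h : p ∉ C) : ind C p = 0 := if_neg h

theorem ind_eq_one {C : Set (Pt k m)} {p : Pt k m} : ind C p = 1 ↔ p ∈ C := by
  by_cases h : p ∈ C
  · exact iff_of_true (ind_one h) h
  · refine iff_of_false ?_ h
    rw [ind_zero h]
    exact zero_ne_one

theorem co_co {C : Set (Pt k m)} (h : ∀ p ∈ C, p.2 ≠ 0) : co (co C) = C := by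
  ext p
  constructor
  · rintro ⟨h1, h2⟩
    by_contra h3
    exact h2 ⟨h1, h3⟩
  · intro h1
    exact ⟨h p h1, fun h2 => h2.2 h1⟩

/-- `T` permutes `{C, co C}` -/
structure Blk (M : SymK T H V ⊥ k m) (C : Set (Pt k m)) : Prop where
  nz : ∀ p ∈ C, p.2 ≠ 0
  ne : C.Nonempty
  ne' : (co C).Nonempty
  even : ∀ i, ∑ x, ind C (i, x) = 0
  blk : ∀ t ∈ T, ∀ π, Mv M t π → π '' C = C ∨ π '' C = co C

section blk

variable {M : SymK T H V ⊥ k m} {C : Set (Pt k m)} (hA : Amb T H V) (hm : 1 ≤ m)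

theorem image_co {π : Equiv.Perm (Pt k m)} (h : ∀ p, (π p).2 = 0 ↔ p.2 = 0) : π '' co C = co (π '' C) := by
  ext q
  constructor
  · rintro ⟨p, ⟨h1, h2⟩, rfl⟩
    refine ⟨fun h3 => h1 ((h p).1 h3), ?_⟩
    rintro ⟨r, hr, h4⟩
    exact h2 (π.injective h4 ▸ hr)
  · rintro ⟨h1, h2⟩
    refine ⟨π.symm q, ⟨?_, ?_⟩, π.apply_symm_apply q⟩
    · intro h3
      apply h1
      rw [← π.apply_symm_apply q]
      exact (h _).2 h3
    · intro h3
      exact h2 ⟨_, h3, π.apply_symm_apply q⟩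

include hm in
theorem Blk.compl (hA : Amb T H V) (hB : Blk M C) : Blk M (co C) := by
  refine ⟨fun p hp => hp.1, hB.ne', by rw [co_co hB.nz]; exact hB.ne, fun i => ?_, fun t ht π hπ => ?_⟩
  · have h1 : ∀ x, ind (co C) ((i, x) : Pt k m) = 1 + (if x = 0 then 1 else 0) + ind C (i, x) := by
      intro x
      by_cases hx : x = 0
      · rw [ind_zero (C := C), ind_zero, if_pos hx]
        · rfl
        · intro h
          exact h.1 hx
        · intro h
          exact hB.nz _ h hx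
      · rw [if_neg hx]
        by_cases hC : ((i, x) : Pt k m) ∈ C
        · rw [ind_one hC, ind_zero]
          · rfl
          · intro h
            exact h.2 hC
        · rw [ind_zero hC, ind_one]
          · rfl
          · exact ⟨hx, hC⟩
    rw [Finset.sum_congr rfl fun x _ => h1 x, Finset.sum_add_distrib, Finset.sum_add_distrib, hB.even,
      Finset.sum_ite_eq' Finset.univ (0 : Fin (2 ^ m + 1)), if_pos (Finset.mem_univ _), Finset.sum_const,
      Finset.card_univ, Fintype.card_fin, add_zero, nsmul_eq_mul, mul_one]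
    have h2 : ((2 ^ m + 1 : ℕ) : ZMod 2) = 1 := by
      have h3 : ((2 ^ m : ℕ) : ZMod 2) = 0 := by
        rw [ZMod.natCast_eq_zero_iff]
        exact dvd_pow_self 2 (by omega)
      rw [Nat.cast_add, h3, zero_add, Nat.cast_one]
    rw [h2]
    rfl
  · rw [image_co fun p => hπ.snd hA hm ht, co_co hB.nz]
    rcases hB.blk t ht π hπ with h | h
    · left; rw [h]
    · right; rw [h, co_co hB.nz]

variable (M C) in
/-- the block stabiliser -/
def So (hA : Amb T H V) : Subgroup G where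
  carrier := {t | t ∈ T ∧ ∃ π, Mv M t π ∧ π '' C = C}
  mul_mem' := by
    rintro s t ⟨hs, π, h1, h2⟩ ⟨ht, ρ, h3, h4⟩
    exact ⟨mul_mem hs ht, π * ρ, h1.mul hA h3 (hA.TH ht), by rw [Equiv.Perm.coe_mul, Set.image_comp, h4, h2]⟩
  one_mem' := ⟨one_mem T, 1, Mv_one M, by rw [Equiv.Perm.coe_one, Set.image_id]⟩
  inv_mem' := by
    rintro t ⟨ht, π, h1, h2⟩
    refine ⟨inv_mem ht, π⁻¹, h1.inv hA (hA.TH ht), ?_⟩
    have h3 : ⇑π⁻¹ = ⇑π.symm := rfl
    conv_lhs => rw [← h2]
    rw [h3, ← Set.image_comp]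
    simp

include hA hm

theorem mem_So {t : G} (ht : t ∈ T) {π : Equiv.Perm (Pt k m)} (hπ : Mv M t π) : t ∈ So M C hA ↔ π '' C = C := by
  constructor
  · rintro ⟨-, ρ, h1, h2⟩
    rw [hπ.unique hA hm h1 (hA.TH ht), h2]
  · intro h
    exact ⟨ht, π, hπ, h⟩

variable (hB : Blk M C)

include hB

theorem So_compl : So M (co C) hA = So M C hA := by
  ext t
  by_cases ht : t ∈ T
  · obtain ⟨π, hπ, -⟩ := exists_mv (M := M) (hA.TH ht)
    rw [mem_So hA hm ht hπ, mem_So hA hm ht hπ, image_co fun p => hπ.snd hA hm ht]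
    constructor
    · intro h
      have h1 := congrArg co h
      rw [co_co hB.nz, co_co] at h1
      · exact h1
      · rintro _ ⟨p, hp, rfl⟩ h2
        exact hB.nz p hp ((hπ.snd hA hm ht).1 h2)
    · intro h
      rw [h]
  · exact iff_of_false (fun h => ht h.1) (fun h => ht h.1)

/-- all of `T` is transitive on the nonzero points -/
def Tr (M : SymK T H V ⊥ k m) : Prop :=
  ∀ p q : Pt k m, p.2 ≠ 0 → q.2 ≠ 0 → ∃ t ∈ T, ∃ π, Mv M t π ∧ π p = q

variable (hT : Tr M)

include hT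

theorem exists_move {p q : Pt k m} (hp : p ∈ C) (hq : q ∈ C) : ∃ t ∈ So M C hA, ∃ π, Mv M t π ∧ π p = q := by
  obtain ⟨t, ht, π, hπ, h1⟩ := hT p q (hB.nz p hp) (hB.nz q hq)
  refine ⟨t, ?_, π, hπ, h1⟩
  rw [mem_So hA hm ht hπ]
  rcases hB.blk t ht π hπ with h2 | h2
  · exact h2
  · exfalso
    have h3 : q ∈ co C := by rw [← h2, ← h1]; exact ⟨p, hp, rfl⟩
    exact h3.2 hq

theorem card_So [Finite G] : Nat.card T = 2 * Nat.card (So M C hA) := by
  have hle : So M C hA ≤ T := fun t ht => ht.1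
  obtain ⟨s, hs, hsn⟩ : ∃ s ∈ T, s ∉ So M C hA := by
    obtain ⟨p, hp⟩ := hB.ne
    obtain ⟨q, hq⟩ := hB.ne'
    obtain ⟨t, ht, π, hπ, h1⟩ := hT p q (hB.nz p hp) hq.1
    refine ⟨t, ht, fun h2 => hq.2 ?_⟩
    rw [mem_So hA hm ht hπ] at h2
    rw [← h2, ← h1]
    exact ⟨p, hp, rfl⟩
  have htwo : ∀ a ∈ T, ∀ b ∈ T, a ∉ So M C hA → b ∉ So M C hA → a * b ∈ So M C hA := by
    intro a ha b hb hna hnb
    obtain ⟨σ, hσ, -⟩ := exists_mv (M := M) (hA.TH ha)
    obtain ⟨τ, hτ, -⟩ := exists_mv (M := M) (hA.TH hb)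
    have h1 := hσ.mul hA hτ (hA.TH hb)
    rw [mem_So hA hm ha hσ] at hna
    rw [mem_So hA hm hb hτ] at hnb
    rw [mem_So hA hm (mul_mem ha hb) h1]
    have h2 := (hB.blk a ha σ hσ).resolve_left hna
    have h3 := (hB.blk b hb τ hτ).resolve_left hnb
    rw [Equiv.Perm.coe_mul, Set.image_comp, h3, image_co fun p => hσ.snd hA hm ha, h2, co_co hB.nz]
  have hrel : (So M C hA).relIndex T = 2 := by
    rw [relIndex, index_eq_two_iff]
    refine ⟨⟨s, hs⟩, fun b => ?_⟩
    simp only [mem_subgroupOf, Subgroup.coe_mul]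
    by_cases hb : (b : G) ∈ So M C hA
    · right
      refine ⟨hb, fun h => hsn ?_⟩
      rwa [Subgroup.mul_mem_cancel_left _ hb] at h
    · left
      exact ⟨htwo _ b.2 _ hs hb hsn, hb⟩
  rw [← card_mul_relIndex hle, hrel, mul_comm]

end blk


/-! ### The subgroups -/

section dis

variable (M : SymK T H V ⊥ k m)

/-- the elements of `V` whose support is disjoint from that of `u` -/
def dis (u : G) : Subgroup G where
  carrier := {v | v ∈ V ∧ ∀ p, E M u p ≠ 0 → E M v p = 0}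
  mul_mem' := by
    rintro v w ⟨hv, h1⟩ ⟨hw, h2⟩
    refine ⟨mul_mem hv hw, fun p hp => ?_⟩
    rw [E_mul M hv hw, h1 p hp, h2 p hp, add_zero]
  one_mem' := ⟨one_mem V, fun p _ => E_one M p⟩
  inv_mem' := by
    rintro v ⟨hv, h1⟩
    exact ⟨inv_mem hv, fun p hp => by rw [E_inv M hv, h1 p hp]⟩

theorem mem_dis {u v : G} : v ∈ dis M u ↔ v ∈ V ∧ ∀ p, E M u p ≠ 0 → E M v p = 0 := Iff.rfl

theorem dis_le (u : G) : dis M u ≤ V := fun _ h => h.1

/-- the group `L` -/
def LL (z : G) : Subgroup G := H ⊓ centralizer ({z} : Set G) ⊓ normalizer (dis M z : Set G)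

/-- a function constant on the nonzero points of a summand vanishes at the zero point -/
theorem even0 (hm : 1 ≤ m) {w : G} (hw : w ∈ V) {i : Fin k} {c : ZMod 2}
    (h : ∀ x, x ≠ 0 → E M w (i, x) = c) : E M w (i, 0) = 0 := by
  have h1 := even M hw i
  rw [Fin.sum_univ_succ, Finset.sum_congr rfl fun x _ => h _ (Fin.succ_ne_zero x), Finset.sum_const,
    Finset.card_univ, Fintype.card_fin, nsmul_eq_mul] at h1
  have h3 : ((2 ^ m : ℕ) : ZMod 2) = 0 := by
    rw [ZMod.natCast_eq_zero_iff]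
    exact dvd_pow_self 2 (by omega)
  rwa [h3, zero_mul, add_zero] at h1

end dis

section elt

variable {M : SymK T H V ⊥ k m} {C : Set (Pt k m)} (hA : Amb T H V) (hm : 1 ≤ m) (hB : Blk M C) {z : G}
  (hzV : z ∈ V) (hz : ∀ p, E M z p = ind C p)

include hz in
theorem mem_dis_z {v : G} : v ∈ dis M z ↔ v ∈ V ∧ ∀ p ∈ C, E M v p = 0 := by
  rw [mem_dis]
  refine and_congr_right fun _ => forall_congr' fun p => ?_
  rw [zmod2_ne, hz, ind_eq_one]

include hB in
theorem exists_z : ∃ z ∈ V, ∀ p, E M z p = ind C p := exists_E M _ hB.even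

include hB hz in
theorem z_ne_one : z ≠ 1 := by
  intro h
  obtain ⟨p, hp⟩ := hB.ne
  have h1 := hz p
  rw [h, E_one, ind_one hp] at h1
  exact zero_ne_one h1

include hA hzV hz

omit hA in
theorem conj_z {g : G} {π : Equiv.Perm (Pt k m)} (hA : Amb T H V) (hg : g ∈ H) (hπ : Mv M g π) (hC : π '' C = C) :
    g * z * g⁻¹ = z := by
  apply inj M (hA.conj_mem hg hzV) hzV
  intro q
  have h1 := hπ z hzV (π.symm q)
  rw [π.apply_symm_apply] at h1
  rw [h1, hz, hz]
  have h2 : π.symm q ∈ C ↔ q ∈ C := by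
    constructor
    · intro h
      rw [← hC, ← π.apply_symm_apply q]
      exact ⟨_, h, rfl⟩
    · intro h
      rw [← hC] at h
      obtain ⟨p, hp, rfl⟩ := h
      rwa [π.symm_apply_apply]
  by_cases h3 : q ∈ C
  · rw [ind_one h3, ind_one (h2.2 h3)]
  · rw [ind_zero h3, ind_zero fun h => h3 (h2.1 h)]

theorem mem_LL {g : G} {π : Equiv.Perm (Pt k m)} (hg : g ∈ H) (hπ : Mv M g π) (hC : π '' C = C) : g ∈ LL M z := by
  have key : ∀ {g : G} {π : Equiv.Perm (Pt k m)}, g ∈ H → Mv M g π → π '' C = C → ∀ v ∈ dis M z,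
      g * v * g⁻¹ ∈ dis M z := by
    intro g π hg hπ hC v hv
    rw [mem_dis_z hz] at hv ⊢
    refine ⟨hA.conj_mem hg hv.1, fun q hq => ?_⟩
    rw [← hC] at hq
    obtain ⟨p, hp, rfl⟩ := hq
    rw [hπ v hv.1, hv.2 p hp]
  refine ⟨⟨hg, mem_centralizer_singleton_iff.2 ?_⟩, ?_⟩
  · have h1 := conj_z hzV hz hA hg hπ hC
    calc g * z = (g * z * g⁻¹) * g := by group
      _ = z * g := by rw [h1]
  · show g ∈ normalizer (dis M z : Set G)
    rw [mem_normalizer_iff]
    intro v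
    refine ⟨key hg hπ hC v, fun h => ?_⟩
    have hC' : ⇑π⁻¹ '' C = C := by
      have h3 : ⇑π⁻¹ = ⇑π.symm := rfl
      conv_lhs => rw [← hC]
      rw [h3, ← Set.image_comp]
      simp
    have h1 := key (inv_mem hg) (hπ.inv hA hg) hC' _ h
    have h2 : g⁻¹ * (g * v * g⁻¹) * g⁻¹⁻¹ = v := by group
    rwa [h2] at h1

theorem So_le_LL : So M C hA ≤ LL M z := by
  rintro t ⟨ht, π, h1, h2⟩
  exact mem_LL hA hzV hz (hA.TH ht) h1 h2

theorem exists_swap_LL {p q : Pt k m} (hpq : p.1 = q.1) (hp : p ∉ C) (hq : q ∉ C) :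
    ∃ g ∈ LL M z, Mv M g (Equiv.swap p q) := by
  obtain ⟨g, hg, h⟩ := exists_swap (M := M) hpq
  refine ⟨g, mem_LL hA hzV hz hg h ?_, h⟩
  have key : ∀ r ∈ C, Equiv.swap p q r = r := fun r hr =>
    Equiv.swap_apply_of_ne_of_ne (fun h => hp (h ▸ hr)) (fun h => hq (h ▸ hr))
  ext r
  constructor
  · rintro ⟨s, hs, rfl⟩
    rwa [key s hs]
  · intro hr
    exact ⟨r, hr, key r hr⟩

omit hA hzV in
include hB hm in
/-- a point outside `C` and outside the support of `v` -/
theorem exists_out {v : G} (hv : v ∈ dis M z) {r : Pt k m} (hr : E M v r = 1) :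
    r ∉ C ∧ ∃ s : Pt k m, r.1 = s.1 ∧ s ∉ C ∧ E M v s = 0 ∧ s ≠ r := by
  rw [mem_dis_z hz] at hv
  have hrC : r ∉ C := fun h => by
    rw [hv.2 r h] at hr
    exact zero_ne_one hr
  refine ⟨hrC, ?_⟩
  by_contra hcon
  push Not at hcon
  have h1 : ∀ x, E M v (r.1, x) = 1 + ind C (r.1, x) := by
    intro x
    by_cases hx : ((r.1, x) : Pt k m) ∈ C
    · rw [hv.2 _ hx, ind_one hx]; rfl
    · rw [ind_zero hx, add_zero]
      rcases zmod2 (E M v (r.1, x)) with h | h
      · have h2 := hcon (r.1, x) rfl hx h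
        rw [h2] at h
        rw [h] at hr
        exact absurd hr zero_ne_one
      · exact h
  have h2 := even M hv.1 r.1
  rw [Finset.sum_congr rfl fun x _ => h1 x, Finset.sum_add_distrib, hB.even, Finset.sum_const,
      Finset.card_univ, Fintype.card_fin, add_zero, nsmul_eq_mul, mul_one] at h2
  have h3 : ((2 ^ m : ℕ) : ZMod 2) = 0 := by
    rw [ZMod.natCast_eq_zero_iff]
    exact dvd_pow_self 2 (by omega)
  rw [Nat.cast_add, h3, zero_add, Nat.cast_one] at h2
  exact one_ne_zero h2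

include hB hm in
theorem nt : dis M z ⊓ centralizer (LL M z : Set G) = ⊥ := by
  rw [eq_bot_iff]
  rintro v ⟨hv, hvc⟩
  rw [mem_bot]
  apply eq_one M hv.1
  intro r
  rcases zmod2 (E M v r) with h | h
  · exact h
  exfalso
  obtain ⟨hrC, s, hs1, hsC, hs, -⟩ := exists_out hm hB hz hv h
  obtain ⟨g, hg, hπ⟩ := exists_swap_LL hA hzV hz hs1 hrC hsC
  have h1 := mem_centralizer_iff.1 hvc g hg
  have h2 : g * v * g⁻¹ = v := by rw [h1]; group
  have h3 := hπ v hv.1 r
  rw [h2, Equiv.swap_apply_left, hs, h] at h3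
  exact zero_ne_one h3

include hB hm in
theorem irr (hT : Tr M) (X : Subgroup G) (hX : X ≤ dis M z) (hLX : LL M z ≤ normalizer (X : Set G))
    (hX1 : X ≠ ⊥) : X = dis M z := by
  obtain ⟨⟨x, hx⟩, hx1⟩ := ne_bot_iff_exists_ne_one.1 hX1
  replace hx1 : x ≠ 1 := fun h => hx1 (Subtype.ext h)
  obtain ⟨r, hr⟩ : ∃ r, E M x r = 1 := by
    by_contra h
    push Not at h
    exact hx1 (eq_one M (hX hx).1 fun p => (zmod2 _).resolve_right (h p))
  obtain ⟨hrC, s, hs1, hsC, hs, hsr⟩ := exists_out hm hB hz (hX hx) hr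
  -- pairs in `X`
  let PX : Pt k m → Pt k m → Prop := fun p q =>
    ∃ v ∈ X, ∀ r, E M v r = (if r = p then 1 else 0) + (if r = q then 1 else 0)
  have hrs : PX r s := by
    obtain ⟨g, hg, hπ⟩ := exists_swap_LL hA hzV hz hs1 hrC hsC
    have h1 : g * x * g⁻¹ ∈ X := (mem_normalizer_iff.1 (hLX hg) x).1 hx
    refine ⟨g * x * g⁻¹ * x⁻¹, mul_mem h1 (inv_mem hx), fun p => ?_⟩
    rw [E_mul M (hX h1).1 (inv_mem (hX hx).1), E_inv M (hX hx).1]
    have h2 := hπ x (hX hx).1 (Equiv.swap r s p)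
    rw [Equiv.swap_apply_self] at h2
    rw [h2]
    by_cases hpr : p = r
    · rw [hpr, Equiv.swap_apply_left, hs, hr, if_pos rfl, if_neg hsr.symm]
      rfl
    · by_cases hps : p = s
      · rw [hps, Equiv.swap_apply_right, hs, hr, if_pos rfl, if_neg hsr]
        rfl
      · rw [Equiv.swap_apply_of_ne_of_ne hpr hps, if_neg hpr, if_neg hps]
        exact CharTwo.add_self_eq_zero _
  have hmove : ∀ {p q : Pt k m}, PX p q → ∀ {g : G} {π : Equiv.Perm (Pt k m)}, g ∈ LL M z → Mv M g π →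
      PX (π p) (π q) := by
    rintro p q ⟨v, hv, h1⟩ g π hg hπ
    refine ⟨g * v * g⁻¹, (mem_normalizer_iff.1 (hLX hg) v).1 hv, fun t => ?_⟩
    have h2 := hπ v (hX hv).1 (π.symm t)
    rw [π.apply_symm_apply] at h2
    rw [h2, h1]
    simp only [Equiv.symm_apply_eq]
  -- `i` the summand of `r`
  have hi : ∀ p, p ∈ co C → p.1 = r.1 → PX p (r.1, 0) := by
    intro p hp hpr
    obtain ⟨g, hg, hπ⟩ := exists_swap_LL hA hzV hz (p := r) (q := p) hpr.symm hrC hp.2
    have h1 := hmove hrs hg hπ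
    rw [Equiv.swap_apply_left] at h1
    set s' := Equiv.swap r p s with hs'
    have hs'p : s' ≠ p := by
      intro h
      rw [hs', Equiv.swap_apply_eq_iff, Equiv.swap_apply_right] at h
      exact hsr h
    have hs'C : s' ∉ C := by
      rw [hs', Equiv.swap_apply_def]
      split_ifs
      · exact hp.2
      · exact hrC
      · exact hsC
    have hs'1 : s'.1 = r.1 := by
      rw [hs', Equiv.swap_apply_def]
      split_ifs
      · exact hpr
      · rfl
      · exact hs1.symm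
    have h0C : ((r.1, 0) : Pt k m) ∉ C := fun h => hB.nz _ h rfl
    obtain ⟨g', hg', hπ'⟩ := exists_swap_LL hA hzV hz (p := s') (q := (r.1, 0)) hs'1 hs'C h0C
    have h2 := hmove h1 hg' hπ'
    rw [Equiv.swap_apply_left, Equiv.swap_apply_of_ne_of_ne hs'p.symm] at h2
    · exact h2
    · intro h
      exact hp.1 (congrArg Prod.snd h)
  -- a point of `co C` in the summand of `r`
  obtain ⟨p₁, hp₁, hp₁r⟩ : ∃ p₁, p₁ ∈ co C ∧ p₁.1 = r.1 := by
    by_cases h : r.2 = 0
    · refine ⟨s, ⟨fun h1 => hsr ?_, hsC⟩, hs1.symm⟩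
      exact Prod.ext hs1.symm (h1.trans h.symm)
    · exact ⟨r, ⟨h, hrC⟩, rfl⟩
  have hall : ∀ q, q ∈ co C → PX q (q.1, 0) := by
    intro q hq
    obtain ⟨t, ht, π, hπ, h1⟩ := exists_move hA hm (hB.compl hm hA) hT hp₁ hq
    rw [So_compl hA hm hB] at ht
    have h2 := hmove (hi p₁ hp₁ hp₁r) (So_le_LL hA hzV hz ht) hπ
    have h3 : π (r.1, 0) = (q.1, 0) := by
      refine Prod.ext ?_ ((hπ.snd hA hm ht.1).2 rfl)
      rw [← h1]
      exact hπ.fst hA hm (hA.TH ht.1) hp₁r.symm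
    rwa [h1, h3] at h2
  -- everything
  have hfin : ∀ t : Finset (Pt k m), ∀ v ∈ dis M z, (∀ p, p.2 ≠ 0 → p ∉ t → E M v p = 0) → v ∈ X := by
    intro t
    induction t using Finset.induction_on with
    | empty =>
      intro v hv h
      have : v = 1 := by
        apply eq_one M hv.1
        intro p
        by_cases hp : p.2 = 0
        · have h1 := even0 M hm hv.1 (i := p.1) (c := 0) fun x hx => h (p.1, x) hx (Finset.notMem_empty _)
          have h2 : p = (p.1, 0) := Prod.ext rfl hp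
          rwa [h2]
        · exact h p hp (Finset.notMem_empty _)
      rw [this]
      exact one_mem X
    | insert a t _ ih =>
      intro v hv h
      by_cases ha : a.2 ≠ 0 ∧ E M v a = 1
      · have haC : a ∈ co C := ⟨ha.1, (exists_out hm hB hz hv ha.2).1⟩
        obtain ⟨w, hw, hwE⟩ := hall a haC
        have hvw : ∀ p, E M (v * w⁻¹) p = E M v p + E M w p := fun p => by
          rw [E_mul M hv.1 (inv_mem (hX hw).1), E_inv M (hX hw).1]
        have h1 : v * w⁻¹ ∈ X := by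
          refine ih _ (mul_mem hv (inv_mem (hX hw))) fun p hp hpt => ?_
          rw [hvw, hwE]
          by_cases hpa : p = a
          · rw [hpa, ha.2, if_pos rfl, if_neg]
            · rfl
            · intro h2
              exact ha.1 (congrArg Prod.snd h2)
          · rw [if_neg hpa, if_neg, h p hp fun h' => (Finset.mem_insert.1 h').elim hpa hpt]
            · rfl
            · intro h2
              exact hp (congrArg Prod.snd h2)
        have h2 : v = v * w⁻¹ * w := by group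
        rw [h2]
        exact mul_mem h1 hw
      · refine ih v hv fun p hp hpt => ?_
        by_cases hpa : p = a
        · rw [hpa] at hp ⊢
          rcases zmod2 (E M v a) with h1 | h1
          · exact h1
          · exact absurd ⟨hp, h1⟩ ha
        · exact h p hp fun h' => (Finset.mem_insert.1 h').elim hpa hpt
  exact le_antisymm hX fun v hv => hfin Finset.univ v hv fun p _ h => absurd (Finset.mem_univ p) h

omit hA hzV hz in
/-- `E w` is constant on the nonzero points if `T` centralises `w` -/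
theorem const_of_fixed (hT : Tr M) {w : G} (hw : w ∈ V) (h : ∀ t ∈ T, t * w * t⁻¹ = w) {p q : Pt k m}
    (hp : p.2 ≠ 0) (hq : q.2 ≠ 0) : E M w p = E M w q := by
  obtain ⟨t, ht, π, hπ, h1⟩ := hT p q hp hq
  have h2 := hπ w hw p
  rw [h t ht, h1] at h2
  exact h2.symm

include hB hm in
theorem fus (hT : Tr M) {g : G} (hg : g ∈ H) : ¬ ∀ s ∈ T, s * (g * z * g⁻¹) = g * z * g⁻¹ * s := by
  intro h
  obtain ⟨π, hπ, -⟩ := exists_mv (M := M) hg
  set w := g * z * g⁻¹ with hw
  have hwV : w ∈ V := hA.conj_mem hg hzV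
  have hwT : ∀ t ∈ T, t * w * t⁻¹ = w := by
    intro t ht
    rw [h t ht]
    group
  have hE : ∀ p, E M w (π p) = ind C p := fun p => by rw [hw, hπ z hzV p, hz]
  obtain ⟨p₀, hp₀⟩ := hB.ne
  have hp₀' := hB.nz p₀ hp₀
  rcases zmod2 (E M w p₀) with h0 | h0
  · -- `w = 1`
    have h1 : w = 1 := by
      apply eq_one M hwV
      have h2 : ∀ p : Pt k m, p.2 ≠ 0 → E M w p = 0 := fun p hp =>
        (const_of_fixed hT hwV hwT hp hp₀').trans h0
      intro p
      by_cases hp : p.2 = 0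
      · have h3 := even0 M hm hwV (i := p.1) (c := 0) fun x hx => h2 (p.1, x) hx
        have h4 : p = (p.1, 0) := Prod.ext rfl hp
        rwa [h4]
      · exact h2 p hp
    have h2 := hE p₀
    rw [h1, E_one, ind_one hp₀] at h2
    exact zero_ne_one h2
  · -- the support of `w` is the set of all nonzero points
    have h2 : ∀ p : Pt k m, p.2 ≠ 0 → E M w p = 1 := fun p hp =>
      (const_of_fixed hT hwV hwT hp hp₀').trans h0
    have h3 : {p : Pt k m | p.2 ≠ 0} ⊆ π '' C := by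
      intro p hp
      refine ⟨π.symm p, ?_, π.apply_symm_apply p⟩
      have h4 := hE (π.symm p)
      rw [π.apply_symm_apply, h2 p hp] at h4
      exact ind_eq_one.1 h4.symm
    have h5 : C ⊂ {p : Pt k m | p.2 ≠ 0} := by
      refine ⟨fun p hp => hB.nz p hp, fun h6 => ?_⟩
      obtain ⟨q, hq⟩ := hB.ne'
      exact hq.2 (h6 hq.1)
    have h6 := Set.ncard_le_ncard h3 (Set.toFinite _)
    have h7 := Set.ncard_lt_ncard h5 (Set.toFinite _)
    rw [Set.ncard_image_of_injective C π.injective] at h6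
    omega

omit hzV in
include hB hm in
theorem card_zc_le [Finite G] (hT : Tr M) :
    Nat.card (zc T) ≤ Nat.card (dis M z ⊓ centralizer (So M C hA : Set G) : Subgroup G) := by
  have h1 : Nat.card (zc T) ≤ 2 := by
    obtain ⟨p₀, hp₀⟩ := hB.ne
    have hp₀' := hB.nz p₀ hp₀
    have hfix : ∀ v ∈ zc T, ∀ t ∈ T, t * v * t⁻¹ = v := by
      intro v hv t ht
      rw [(mem_zc.1 hv).2.1 t ht]
      group
    have hinj : Function.Injective fun v : zc T => E M (v : G) p₀ := by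
      intro v w hvw
      apply Subtype.ext
      have hv := hA.zc v.2
      have hw := hA.zc w.2
      apply inj M hv hw
      have h2 : ∀ p : Pt k m, p.2 ≠ 0 → E M v p = E M w p := fun p hp => by
        rw [const_of_fixed hT hv (hfix v v.2) hp hp₀', const_of_fixed hT hw (hfix w w.2) hp hp₀']
        exact hvw
      intro p
      by_cases hp : p.2 = 0
      · have h3 := even0 M hm hv (i := p.1) (c := E M (v : G) p₀) fun x hx =>
          const_of_fixed hT hv (hfix v v.2) (p := (p.1, x)) hx hp₀'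
        have h3' := even0 M hm hw (i := p.1) (c := E M (w : G) p₀) fun x hx =>
          const_of_fixed hT hw (hfix w w.2) (p := (p.1, x)) hx hp₀'
        have h4 : p = (p.1, 0) := Prod.ext rfl hp
        rw [h4, h3, h3']
      · exact h2 p hp
    have h2 := Nat.card_le_card_of_injective _ hinj
    rwa [Nat.card_eq_fintype_card (α := ZMod 2), ZMod.card] at h2
  -- the element of `co C`
  have hB' := hB.compl hm hA
  obtain ⟨z', hz'V, hz'⟩ := exists_z hB'
  have h2 : z' ∈ dis M z ⊓ centralizer (So M C hA : Set G) := by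
    refine ⟨(mem_dis_z hz).2 ⟨hz'V, fun p hp => ?_⟩, mem_centralizer_iff.2 fun t ht => ?_⟩
    · rw [hz', ind_zero]
      intro h
      exact h.2 hp
    · have ht' : t ∈ So M (co C) hA := by rw [So_compl hA hm hB]; exact ht
      have h3 := So_le_LL hA hz'V hz' ht'
      exact mem_centralizer_singleton_iff.1 h3.1.2
  have h3 : z' ≠ 1 := z_ne_one hB' hz'
  have h4 : Nontrivial (dis M z ⊓ centralizer (So M C hA : Set G) : Subgroup G) :=
    ⟨⟨⟨z', h2⟩, 1, fun h => h3 (congrArg Subtype.val h)⟩⟩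
  exact h1.trans (Finite.one_lt_card_iff_nontrivial.2 h4)

end elt

/-! ### The theorem -/

section main

/-- Conjugation of the conclusion. -/
theorem concl_cj {z u g : G} {U W : Subgroup G} (hzu : g * z * g⁻¹ = u) (hU : cj g U = W)
    (h : U ≤ o2 (centralizer ({z} : Set G)) ∧ o2 (centralizer ({z} : Set G)) ≤ centralizer (U : Set G)) :
    W ≤ o2 (centralizer ({u} : Set G)) ∧ o2 (centralizer ({u} : Set G)) ≤ centralizer (W : Set G) := by
  have h1 : centralizer ({u} : Set G) = cj g (centralizer ({z} : Set G)) := by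
    ext x
    rw [mem_cj, mem_centralizer_singleton_iff, mem_centralizer_singleton_iff, ← hzu]
    constructor
    · intro hx
      calc g⁻¹ * x * g * z = g⁻¹ * (x * (g * z * g⁻¹)) * g := by group
        _ = g⁻¹ * (g * z * g⁻¹ * x) * g := by rw [hx]
        _ = z * (g⁻¹ * x * g) := by group
    · intro hx
      calc x * (g * z * g⁻¹) = g * (g⁻¹ * x * g * z) * g⁻¹ := by group
        _ = g * (z * (g⁻¹ * x * g)) * g⁻¹ := by rw [hx]
        _ = g * z * g⁻¹ * x := by group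
  rw [h1, ChoiceSit.o2_cj, ← hU]
  constructor
  · exact cj_mono g h.1
  · rw [← cj_centralizer]
    exact cj_mono g h.2

variable [Finite G] (hG : IsCharacteristicTwoType G) (S : Sylow 2 G) {P : Subgroup G}
  {M : SymK (S : Subgroup G) P V ⊥ k m}

include hG

/-- **APPLICATIONS 2 and 3** for the element with support `C`. -/
theorem app_sym_z (hm : 1 ≤ m) (hA : Amb (S : Subgroup G) P V) {C : Set (Pt k m)} (hB : Blk M C) {z : G}
    (hzV : z ∈ V) (hz : ∀ p, E M z p = ind C p) :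
    dis M z ≤ o2 (centralizer ({z} : Set G)) ∧
      o2 (centralizer ({z} : Set G)) ≤ centralizer (dis M z : Set G) := by
  have hT : Tr M := fun p q hp hq => trans_pts S hA hm hp hq
  have hVSo : V ≤ So M C hA := by
    intro v hv
    refine ⟨hA.VT hv, 1, ?_, by rw [Equiv.Perm.coe_one, Set.image_id]⟩
    intro w hw p
    have : v * w * v⁻¹ = w := by rw [hA.comm v hv w hw]; group
    rw [this]
    rfl
  have hle : So M C hA ≤ (S : Subgroup G) := fun t ht => ht.1
  exact gen hG S (P := P) (So := So M C hA) (L := LL M z) (U := dis M z) (z := z) hA.TH hle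
    (card_So hA hm hB hT) (z_ne_one hB hz) (hA.sq z hzV) (hVSo hzV) (So_le_LL hA hzV hz)
    (inf_le_left.trans inf_le_left)
    (fun x hx => mem_centralizer_singleton_iff.1 hx.1.2)
    (fun g hg => fus hA hm hB hzV hz hT hg) ((dis_le M _).trans hVSo) inf_le_right
    (fun a ha b hb => hA.comm a ha.1 b hb.1) (fun a ha => hA.sq a ha.1)
    (fun X hX hLX => (eq_or_ne X ⊥).imp_right fun h => irr hA hm hB hzV hz hT X hX hLX h)
    (nt hA hm hB hzV hz) (card_zc_le hA hm hB hz hT)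

omit [Finite G] hG in
theorem cj_dis (hA : Amb (S : Subgroup G) P V) {z u g : G} {π : Equiv.Perm (Pt k m)} (hg : g ∈ P) (hπ : Mv M g π)
    (hzV : z ∈ V) (hzu : g * z * g⁻¹ = u) : cj g (dis M z) = dis M u := by
  have key : ∀ {z u g : G} {π : Equiv.Perm (Pt k m)}, g ∈ P → Mv M g π → z ∈ V → g * z * g⁻¹ = u →
      ∀ v ∈ dis M z, g * v * g⁻¹ ∈ dis M u := by
    intro z u g π hg hπ hzV hzu v hv
    refine ⟨hA.conj_mem hg hv.1, fun q hq => ?_⟩
    have h1 := hπ v hv.1 (π.symm q)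
    have h2 := hπ z hzV (π.symm q)
    rw [π.apply_symm_apply] at h1 h2
    rw [h1]
    apply hv.2
    rw [← h2, hzu]
    exact hq
  ext x
  rw [mem_cj]
  constructor
  · intro h
    have h1 := key hg hπ hzV hzu _ h
    have h2 : g * (g⁻¹ * x * g) * g⁻¹ = x := by group
    rwa [h2] at h1
  · intro h
    have h1 := key (inv_mem hg) (hπ.inv hA hg) (u := z) (z := u) (by rw [← hzu]; exact hA.conj_mem hg hzV)
      (by rw [← hzu]; group) _ h
    rwa [inv_inv] at h1

/-- **APPLICATIONS 2 and 3.** -/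
theorem app_sym (hm : 1 ≤ m) (hA : Amb (S : Subgroup G) P V) {C : Set (Pt k m)} (hB : Blk M C) {u : G}
    (huV : u ∈ V) {π : Equiv.Perm (Pt k m)} {g : G} (hg : g ∈ P) (hπ : Mv M g π) (hu : ∀ p, E M u (π p) = ind C p) :
    dis M u ≤ o2 (centralizer ({u} : Set G)) ∧
      o2 (centralizer ({u} : Set G)) ≤ centralizer (dis M u : Set G) := by
  obtain ⟨z, hzV, hz⟩ := exists_z hB
  have hzu : g * z * g⁻¹ = u := by
    apply inj M (hA.conj_mem hg hzV) huV
    intro p
    have h1 := hπ z hzV (π.symm p)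
    have h2 := hu (π.symm p)
    rw [π.apply_symm_apply] at h1 h2
    rw [h1, h2, hz]
  exact concl_cj hzu (cj_dis S hA hg hπ hzV hzu) (app_sym_z hG S hm hA hB hzV hz)

end main

/-! ### One summand -/

section one

variable [Finite G] (hG : IsCharacteristicTwoType G) (S : Sylow 2 G) {P : Subgroup G}
  {M : SymK (S : Subgroup G) P V ⊥ 1 m}

theorem sum_ind_one (C : Set (Pt 1 m)) (i : Fin 1) : ∑ x, ind C (i, x) = ((C.ncard : ℕ) : ZMod 2) := by
  have h1 : C.ncard = (Finset.univ.filter fun x : Fin (2 ^ m + 1) => ((i, x) : Pt 1 m) ∈ C).card := by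
    rw [← Set.ncard_coe_finset]
    symm
    refine Set.ncard_congr (fun x _ => (i, x)) ?_ ?_ ?_
    · intro x hx
      simpa using hx
    · intro x y _ _ h
      exact congrArg Prod.snd h
    · rintro ⟨j, x⟩ hp
      have hj : j = i := Subsingleton.elim _ _
      subst hj
      exact ⟨x, by simpa using hp, rfl⟩
  rw [h1, Finset.card_filter, Nat.cast_sum]
  refine Finset.sum_congr rfl fun x _ => ?_
  rw [ind]
  split_ifs <;> simp

theorem exists_blk_one (hm : 2 ≤ m) (hA : Amb (S : Subgroup G) P V) :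
    ∃ C : Set (Pt 1 m), Blk M C ∧ C.ncard = 2 ^ (m - 1) := by
  have hm1 : 1 ≤ m := by omega
  have hT : Tr M := fun p q hp hq => trans_pts S hA hm1 hp hq
  obtain ⟨a, ha, -⟩ := exists_third hm1 (0 : Fin (2 ^ m + 1)) 0
  obtain ⟨b, hb, hab⟩ := exists_third hm1 (0 : Fin (2 ^ m + 1)) a
  obtain ⟨C, hC, hp₀, hne, hblk⟩ := exists_blocks S.isPGroup' (R := fun t π => Mv M t π)
    (Ω₀ := {p : Pt 1 m | p.2 ≠ 0})
    (fun t ht => let ⟨π, hπ, _⟩ := exists_mv (M := M) (hA.TH ht); ⟨π, hπ⟩) (Mv_one M)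
    (fun s _ t ht π ρ h1 h2 => h1.mul hA h2 (hA.TH ht)) (fun t ht π h => h.inv hA (hA.TH ht))
    (fun t ht π ρ h1 h2 => h1.unique hA hm1 h2 (hA.TH ht))
    (fun t ht π h p hp => fun h0 => hp ((h.snd hA hm1 ht).1 h0))
    (fun p hp q hq => hT p q hp hq) (p₀ := ((0, a) : Pt 1 m)) (p₁ := ((0, b) : Pt 1 m)) ha hb
    (fun h => hab (congrArg Prod.snd h).symm)
  have hco : ({p : Pt 1 m | p.2 ≠ 0} : Set (Pt 1 m)) \ C = co C := rfl
  rw [hco] at hne
  -- the cardinality
  have hcard : C.ncard = 2 ^ (m - 1) := by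
    have h1 : C.ncard = (co C).ncard := by
      obtain ⟨q, hq⟩ := hne
      obtain ⟨t, ht, π, hπ, h1⟩ := hT (0, a) q (hC hp₀) hq.1
      rcases hblk t ht π hπ with h2 | h2
      · exfalso
        apply hq.2
        rw [← h1, ← h2]
        exact ⟨_, hp₀, rfl⟩
      · rw [hco] at h2
        rw [← h2, Set.ncard_image_of_injective C π.injective]
    have h2 : C.ncard + (co C).ncard = 2 ^ m := by
      rw [← hco, add_comm, Set.ncard_sdiff_add_ncard_of_subset hC (Set.toFinite _)]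
      have h3 : ({p : Pt 1 m | p.2 ≠ 0} : Set (Pt 1 m)) = (fun a : Fin (2 ^ m) => ((0, a.succ) : Pt 1 m)) '' Set.univ := by
        ext ⟨i, x⟩
        constructor
        · intro h
          obtain ⟨c, hc⟩ := Fin.exists_succ_eq.2 h
          exact ⟨c, trivial, Prod.ext (Subsingleton.elim _ _) hc⟩
        · rintro ⟨c, -, hc⟩
          have : x = c.succ := (congrArg Prod.snd hc).symm
          change x ≠ 0
          rw [this]
          exact Fin.succ_ne_zero c
      rw [h3, Set.ncard_image_of_injective, Set.ncard_univ, Nat.card_eq_fintype_card, Fintype.card_fin]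
      intro c d h
      exact Fin.succ_injective _ (congrArg Prod.snd h)
    have h3 : 2 ^ m = 2 * 2 ^ (m - 1) := by
      rw [← pow_succ']
      congr 1
      omega
    omega
  refine ⟨C, ⟨hC, ⟨_, hp₀⟩, hne, fun i => ?_, hblk⟩, hcard⟩
  rw [sum_ind_one, hcard, ZMod.natCast_eq_zero_iff]
  exact dvd_pow_self 2 (by omega)

include hG

/-- **APPLICATIONS 2 and 3**, one summand: `|supp u| = 2^(m-1)`. -/
theorem app_one (hm : 2 ≤ m) (hA : Amb (S : Subgroup G) P V) {u : G} (huV : u ∈ V)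
    (hu : {x | M.e u 0 x = 1}.ncard = 2 ^ (m - 1)) :
    dis M u ≤ o2 (centralizer ({u} : Set G)) ∧
      o2 (centralizer ({u} : Set G)) ≤ centralizer (dis M u : Set G) := by
  obtain ⟨C, hB, hC⟩ := exists_blk_one (M := M) S hm hA
  -- a permutation of the points moving `C` to the support of `u`
  have h1 : {x | ((0, x) : Pt 1 m) ∈ C}.ncard = 2 ^ (m - 1) := by
    rw [← hC]
    refine Set.ncard_congr (fun x _ => (0, x)) (fun x hx => hx) (fun x y _ _ h => congrArg Prod.snd h) ?_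
    rintro ⟨j, x⟩ hp
    have hj : j = 0 := Subsingleton.elim _ _
    subst hj
    exact ⟨x, hp, rfl⟩
  have h2 : Nat.card {x // ((0, x) : Pt 1 m) ∈ C} = Nat.card {x // M.e u 0 x = 1} := h1.trans hu.symm
  obtain ⟨f⟩ := Finite.card_eq.1 h2
  obtain ⟨g, hg, hact, -⟩ := M.lift fun _ => f.extendSubtype
  refine app_sym hG S (by omega) hA hB huV hg (mv_pm M hact) fun p => ?_
  obtain ⟨i, x⟩ := p
  have hi : i = 0 := Subsingleton.elim _ _
  subst hi
  change M.e u 0 (f.extendSubtype x) = ind C (0, x)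
  by_cases hx : ((0, x) : Pt 1 m) ∈ C
  · rw [ind_one hx]
    exact f.extendSubtype_mem x hx
  · rw [ind_zero hx]
    exact (zmod2 _).resolve_right (f.extendSubtype_not_mem x hx)

end one

/-! ### Blocks of summands -/

/-- `B` and `Bᶜ` are blocks of `T` on the summands. -/
structure BlkS (M : SymK T H V ⊥ k m) (B : Set (Fin k)) : Prop where
  ne : B.Nonempty
  ne' : Bᶜ.Nonempty
  blk : ∀ t ∈ T, ∀ σ τ, ActsSym M.e V t σ τ → σ '' B = B ∨ σ '' B = Bᶜ

theorem BlkS.blk' {M : SymK T H V ⊥ k m} {B : Set (Fin k)} (h : BlkS M B) (hA : Amb T H V) (hm : 1 ≤ m) :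
    Blk M {p : Pt k m | p.2 ≠ 0 ∧ p.1 ∈ B} := by
  obtain ⟨a, ha, -⟩ := exists_third hm (0 : Fin (2 ^ m + 1)) 0
  have hco : co {p : Pt k m | p.2 ≠ 0 ∧ p.1 ∈ B} = {p : Pt k m | p.2 ≠ 0 ∧ p.1 ∈ Bᶜ} := by
    ext p
    constructor
    · rintro ⟨h1, h2⟩
      exact ⟨h1, fun h3 => h2 ⟨h1, h3⟩⟩
    · rintro ⟨h1, h2⟩
      exact ⟨h1, fun h3 => h2 h3.2⟩
  refine ⟨fun p hp => hp.1, ?_, ?_, fun i => ?_, fun t ht π hπ => ?_⟩
  · obtain ⟨i, hi⟩ := h.ne
    exact ⟨(i, a), ha, hi⟩
  · obtain ⟨i, hi⟩ := h.ne'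
    rw [hco]
    exact ⟨(i, a), ha, hi⟩
  · by_cases hi : i ∈ B
    · have h1 : ∀ x : Fin (2 ^ m + 1), ind {p : Pt k m | p.2 ≠ 0 ∧ p.1 ∈ B} (i, x) = if x = 0 then 0 else 1 := by
        intro x
        by_cases hx : x = 0
        · rw [if_pos hx, ind_zero]
          exact fun h => h.1 hx
        · rw [if_neg hx, ind_one]
          exact ⟨hx, hi⟩
      rw [Finset.sum_congr rfl fun x _ => h1 x, Fin.sum_univ_succ, if_pos rfl,
        Finset.sum_congr rfl fun x _ => if_neg (Fin.succ_ne_zero x), Finset.sum_const,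
        Finset.card_univ, Fintype.card_fin, nsmul_eq_mul, zero_add, mul_one, ZMod.natCast_eq_zero_iff]
      exact dvd_pow_self 2 (by omega)
    · apply Finset.sum_eq_zero
      intro x _
      exact ind_zero fun h => hi h.2
  · obtain ⟨σ, τ, hact⟩ := M.perm t (hA.TH ht)
    have h1 := hπ.unique hA hm (mv_pm M hact) (hA.TH ht)
    have himg : ∀ D : Set (Fin k), π '' {p : Pt k m | p.2 ≠ 0 ∧ p.1 ∈ D} = {p : Pt k m | p.2 ≠ 0 ∧ p.1 ∈ σ '' D} := by
      intro D
      ext q
      constructor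
      · rintro ⟨p, ⟨h2, h3⟩, rfl⟩
        refine ⟨fun h4 => h2 ((hπ.snd hA hm ht).1 h4), ?_⟩
        rw [h1]
        exact ⟨p.1, h3, rfl⟩
      · rintro ⟨h2, ⟨i, hi, h3⟩⟩
        refine ⟨π.symm q, ⟨?_, ?_⟩, π.apply_symm_apply q⟩
        · intro h4
          apply h2
          rw [← π.apply_symm_apply q]
          exact (hπ.snd hA hm ht).2 h4
        · have h4 : (π.symm q).1 = i := by
            apply σ.injective
            rw [h3]
            have h5 : σ (π.symm q).1 = (π (π.symm q)).1 := by rw [h1]; rfl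
            rw [h5, π.apply_symm_apply]
          rw [h4]
          exact hi
    rw [hco, himg]
    rcases h.blk t ht σ τ hact with h2 | h2
    · left; rw [h2]
    · right; rw [h2]

section many

variable [Finite G] (hG : IsCharacteristicTwoType G) (S : Sylow 2 G) {P : Subgroup G}
  {M : SymK (S : Subgroup G) P V ⊥ k m}

theorem exists_blkS (hm : 1 ≤ m) (hk : 2 ≤ k) (hA : Amb (S : Subgroup G) P V) (i : Fin k) :
    ∃ B : Set (Fin k), BlkS M B ∧ i ∈ B := by
  obtain ⟨j, hij⟩ : ∃ j : Fin k, i ≠ j := by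
    have : Nontrivial (Fin k) := Fin.nontrivial_iff_two_le.2 hk
    obtain ⟨j, hj⟩ := exists_ne i
    exact ⟨j, hj.symm⟩
  have hmulA : ∀ g ∈ P, ∀ h ∈ P, ∀ σ σ', (∃ τ, ActsSym M.e V g σ τ) → (∃ τ, ActsSym M.e V h σ' τ) →
      ∃ τ, ActsSym M.e V (g * h) (σ * σ') τ := by
    rintro g hg h hh σ σ' ⟨τ, h1⟩ ⟨τ', h2⟩
    refine ⟨fun i => τ (σ' i) * τ' i, fun v hv i x => ?_⟩
    have e1 : g * h * v * (g * h)⁻¹ = g * (h * v * h⁻¹) * g⁻¹ := by group
    rw [e1, Equiv.Perm.mul_apply, Equiv.Perm.mul_apply, h1 _ (hA.conj_mem hh hv), h2 v hv]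
  have hinvA : ∀ g ∈ P, ∀ σ, (∃ τ, ActsSym M.e V g σ τ) → ∃ τ, ActsSym M.e V g⁻¹ σ⁻¹ τ := by
    rintro g hg σ ⟨τ, h1⟩
    refine ⟨fun i => (τ (σ⁻¹ i))⁻¹, fun v hv i x => ?_⟩
    have h2 := h1 _ (hA.conj_mem (inv_mem hg) hv) (σ⁻¹ i) ((τ (σ⁻¹ i))⁻¹ x)
    have h3 : g * (g⁻¹ * v * g⁻¹⁻¹) * g⁻¹ = v := by group
    have h4 : σ (σ⁻¹ i) = i := σ.apply_symm_apply i
    have h5 : (τ (σ⁻¹ i)) ((τ (σ⁻¹ i))⁻¹ x) = x := (τ (σ⁻¹ i)).apply_symm_apply x
    rw [h3, h4, h5] at h2
    exact h2.symm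
  have huA : ∀ g ∈ P, ∀ σ σ', (∃ τ, ActsSym M.e V g σ τ) → (∃ τ, ActsSym M.e V g σ' τ) → σ = σ' := by
    rintro g hg σ σ' ⟨τ, h1⟩ ⟨τ', h2⟩
    have h3 := (mv_pm M h1).unique hA hm (mv_pm M h2) hg
    ext1 i
    exact congrArg Prod.fst (Equiv.congr_fun h3 ((i, 0) : Pt k m))
  obtain ⟨B, -, hi, hne, hblk⟩ := exists_blocks S.isPGroup' (R := fun t σ => ∃ τ, ActsSym M.e V t σ τ)
    (Ω₀ := (Set.univ : Set (Fin k))) (fun t ht => M.perm t (hA.TH ht))
    ⟨1, fun v _ i x => by rw [one_mul, inv_one, mul_one]; rfl⟩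
    (fun s hs t ht σ σ' h1 h2 => hmulA s (hA.TH hs) t (hA.TH ht) σ σ' h1 h2)
    (fun t ht σ h => hinvA t (hA.TH ht) σ h)
    (fun t ht σ σ' h1 h2 => huA t (hA.TH ht) σ σ' h1 h2)
    (fun t ht π h p hp => trivial)
    (fun i _ j _ => by
      obtain ⟨t, ht, σ, τ, h1, h2⟩ := M.trans i j
      exact ⟨t, ht, σ, ⟨τ, h1⟩, h2⟩)
    (p₀ := i) (p₁ := j) trivial trivial hij
  refine ⟨B, ⟨⟨i, hi⟩, ?_, fun t ht σ τ h => ?_⟩, hi⟩
  · rwa [Set.compl_eq_univ_sdiff]
  · rw [Set.compl_eq_univ_sdiff]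
    exact hblk t ht σ ⟨τ, h⟩

include hG

/-- **APPLICATION 3**, `k ≥ 2` even-subset modules: if the support of `u` in the summands of the block `B` has
size `2^m`, and is empty in the others, the sum of the summands outside `B` lies in `Z(O₂(C_G(u)))`. -/
theorem app_many (hm : 1 ≤ m) (hA : Amb (S : Subgroup G) P V) {B : Set (Fin k)} (hB : BlkS M B) {u : G}
    (huV : u ∈ V) (hu0 : ∀ i ∉ B, M.e u i = 0) (hu1 : ∀ i ∈ B, ∃ a, ∀ x, M.e u i x = if x = a then 0 else 1) :
    dis M u ≤ o2 (centralizer ({u} : Set G)) ∧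
      o2 (centralizer ({u} : Set G)) ≤ centralizer (dis M u : Set G) := by
  have hex : ∀ i, ∃ a, i ∈ B → ∀ x, M.e u i x = if x = a then 0 else 1 := by
    intro i
    by_cases hi : i ∈ B
    · obtain ⟨a, ha⟩ := hu1 i hi
      exact ⟨a, fun _ => ha⟩
    · exact ⟨0, fun h => absurd h hi⟩
  choose a ha using hex
  obtain ⟨g, hg, hact, -⟩ := M.lift fun i => Equiv.swap 0 (a i)
  refine app_sym hG S hm hA (hB.blk' hA hm) huV hg (mv_pm M hact) fun p => ?_
  obtain ⟨i, x⟩ := p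
  change M.e u i (Equiv.swap 0 (a i) x) = ind _ (i, x)
  by_cases hi : i ∈ B
  · rw [ha i hi]
    by_cases hx : x = 0
    · rw [ind_zero fun h => h.1 hx, hx, Equiv.swap_apply_left, if_pos rfl]
    · rw [ind_one (show ((i, x) : Pt k m) ∈ {p : Pt k m | p.2 ≠ 0 ∧ p.1 ∈ B} from ⟨hx, hi⟩), if_neg]
      intro h
      rw [Equiv.swap_apply_eq_iff, Equiv.swap_apply_right] at h
      exact hx h
  · rw [ind_zero fun h => hi h.2, hu0 i hi]
    rfl

end many

end Cfsg.Agent.Omega.Half.SymA
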